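import Mathlib.RingTheory.QuasiFinite.Basic
import Mathlib.RingTheory.Valuation.LocalSubring
import Mathlib.RingTheory.Finiteness.Descent
import Mathlib.RingTheory.Flat.FaithfullyFlat.Basic
import Mathlib.RingTheory.Ideal.MinimalPrime.Localization

/-!
# Flat algebras with finite fibres over a schematically dense open have finite fibres
-/

set_option autoImplicit false
set_option linter.style.haveILetI false
set_option backward.isDefEq.respectTransparency.types false

universe u

open TensorProduct nonZeroDivisors

noncomputable section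

namespace Groth.L20.BlowFlat

/-- Over a valuation ring the closed fibre of a flat module is not bigger than the generic one. -/
theorem finite_residue_of_valuation {V : Type u} [CommRing V] [IsDomain V] [ValuationRing V] (K : Type u) [Field K]
    [Algebra V K] [IsFractionRing V K] (M : Type u) [AddCommGroup M] [Module V M] [Module.Flat V M]
    [Module.Finite K (K ⊗[V] M)] (k : Type u) [Field k] [Algebra V k] (hk : Function.Surjective (algebraMap V k)) :
    Module.Finite k (k ⊗[V] M) := by
  classical
  refine Module.rank_lt_aleph0_iff.1 (lt_of_le_of_lt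
    (rank_le (n := Module.finrank K (K ⊗[V] M)) fun s hs => ?_) (Cardinal.natCast_lt_aleph0))
  by_contra hn
  push Not at hn
  choose m hm using fun i : s => TensorProduct.mk_surjective V M k hk i.1
  have hinj : Function.Injective (TensorProduct.mk V K M 1) := by
    have h1 : Function.Injective ((Algebra.linearMap V K).rTensor M) :=
      Module.Flat.rTensor_preserves_injective_linearMap _ (IsFractionRing.injective V K)
    intro x y hxy
    refine (TensorProduct.lid V M).symm.injective (h1 ?_)
    simpa using hxy
  have hdep : ¬ LinearIndependent K (fun i : s => (1 : K) ⊗ₜ[V] m i) := fun h => by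
    have := h.fintype_card_le_finrank
    rw [Fintype.card_coe] at this
    omega
  obtain ⟨c, hc, j, hj⟩ := Fintype.not_linearIndependent_iff.1 hdep
  obtain ⟨d, hd⟩ := IsLocalization.exist_integer_multiples V⁰ Finset.univ c
  choose a ha using fun i : s => hd i (Finset.mem_univ i)
  replace ha : ∀ i, algebraMap V K (a i) = algebraMap V K d * c i := fun i =>
    (ha i).trans (Algebra.smul_def _ _)
  have hd0 : algebraMap V K d ≠ 0 := fun h =>
    nonZeroDivisors.ne_zero d.2 (IsFractionRing.injective V K (h.trans (map_zero _).symm))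
  have haj : a j ≠ 0 := fun h => by
    have := ha j
    rw [h, map_zero, eq_comm, mul_eq_zero] at this
    exact this.elim hd0 hj
  have hsum : (1 : K) ⊗ₜ[V] (∑ i, a i • m i) = 0 := by
    rw [TensorProduct.tmul_sum]
    refine Eq.trans ?_ ((congrArg ((algebraMap V K d) • ·) hc).trans (smul_zero _))
    rw [Finset.smul_sum]
    refine Finset.sum_congr rfl fun i _ => ?_
    rw [TensorProduct.tmul_smul, smul_smul, ← ha, algebraMap_smul]
  have h0 : ∑ i, a i • m i = 0 := hinj (hsum.trans (tmul_zero _ _).symm)
  obtain ⟨g, hg⟩ := (IsBezout.isPrincipal_of_FG (Ideal.span (Set.range a))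
    ⟨Finset.univ.image a, by simp⟩).principal
  rw [← Ideal.span] at hg
  choose b hb using fun i : s => Ideal.mem_span_singleton'.1 (hg ▸ Ideal.subset_span ⟨i, rfl⟩ :
    a i ∈ Ideal.span {g})
  have hg0 : g ≠ 0 := fun h => haj (by rw [← hb, h, mul_zero])
  obtain ⟨r, hr⟩ := Ideal.mem_span_range_iff_exists_fun.1
    (hg ▸ Ideal.mem_span_singleton_self g : g ∈ Ideal.span (Set.range a))
  have hone : ∑ i, r i * b i = 1 := mul_right_cancel₀ hg0 (by
    rw [Finset.sum_mul, one_mul]
    exact (Finset.sum_congr rfl fun i _ => by rw [mul_assoc, hb]).trans hr)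
  have hb0 : ∑ i, b i • m i = 0 := by
    refine hinj ?_
    have h1 : (algebraMap V K g) • ((1 : K) ⊗ₜ[V] ∑ i, b i • m i) = 0 := by
      rw [algebraMap_smul, ← TensorProduct.tmul_smul, Finset.smul_sum]
      refine (congrArg _ (Finset.sum_congr rfl fun i _ => ?_)).trans ((congrArg _ h0).trans (tmul_zero _ _))
      rw [smul_smul, mul_comm, hb]
    rw [map_zero]
    exact (smul_eq_zero.1 h1).resolve_left fun h => hg0 (IsFractionRing.injective V K (h.trans (map_zero _).symm))
  have hk0 : ∑ i, algebraMap V k (b i) • (i : k ⊗[V] M) = 0 := by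
    refine Eq.trans ?_ (((congrArg (TensorProduct.mk V k M 1) hb0)).trans (map_zero _))
    rw [map_sum]
    refine Finset.sum_congr rfl fun i _ => ?_
    rw [map_smul, hm, algebraMap_smul]
  have := Fintype.linearIndependent_iff.1 hs _ hk0
  refine one_ne_zero (α := k) ?_
  rw [← map_one (algebraMap V k), ← hone, map_sum]
  exact Finset.sum_eq_zero fun i _ => by rw [map_mul, this i, mul_zero]

/-- A flat algebra quasi-finite where a nonzerodivisor of the base is invertible is quasi-finite. -/
theorem quasiFinite_of_flat_of_away {T A : Type u} [CommRing T] [CommRing A] [Algebra T A] [Module.Flat T A] {t : T}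
    (ht : t ∈ T⁰) (h : ∀ (q : Ideal T) [q.IsPrime], t ∉ q → Module.Finite q.ResidueField (q.Fiber A)) :
    Algebra.QuasiFinite T A := by
  refine ⟨fun p hp => ?_⟩
  obtain ⟨q, hq, hqp⟩ := Ideal.exists_minimalPrimes_le (I := (⊥ : Ideal T)) (J := p) bot_le
  haveI : q.IsPrime := hq.1.1
  have htq : t ∉ q := fun htq =>
    Set.disjoint_left.mp (Ideal.disjoint_nonZeroDivisors_of_mem_minimalPrimes hq) htq ht
  haveI := h q htq
  let K := q.ResidueField
  let f0 : Localization.AtPrime p →+* K := IsLocalization.lift (M := p.primeCompl) (g := algebraMap T K)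
    fun y => IsUnit.mk0 _ fun hy => y.2 (hqp (Ideal.algebraMap_residueField_eq_zero.1 hy))
  obtain ⟨V, hV, hloc⟩ := IsLocalRing.exists_factor_valuationRing f0
  let g : Localization.AtPrime p →+* V := f0.codRestrict V.toSubring hV
  haveI : IsLocalHom g := hloc
  letI : Algebra T V := (g.comp (algebraMap T (Localization.AtPrime p))).toAlgebra
  haveI : IsScalarTower T V K := IsScalarTower.of_algebraMap_eq fun x => (IsLocalization.lift_eq _ x).symm
  let k := IsLocalRing.ResidueField V
  letI : Algebra p.ResidueField k := (IsLocalRing.ResidueField.map g).toAlgebra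
  haveI : IsScalarTower T p.ResidueField k := IsScalarTower.of_algebraMap_eq fun x => by
    rfl
  haveI : Module.Finite K (K ⊗[V] (V ⊗[T] A)) :=
    Module.Finite.equiv (AlgebraTensorModule.cancelBaseChange T V K K A).symm
  haveI := finite_residue_of_valuation K (V ⊗[T] A) k (Ideal.Quotient.mk_surjective)
  haveI : Module.Finite k (k ⊗[T] A) := Module.Finite.equiv (AlgebraTensorModule.cancelBaseChange T V k k A)
  haveI : Module.Finite k (k ⊗[p.ResidueField] (p.ResidueField ⊗[T] A)) :=
    Module.Finite.equiv (AlgebraTensorModule.cancelBaseChange T p.ResidueField k k A).symm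
  exact Module.Finite.of_finite_tensorProduct_of_faithfullyFlat k

end Groth.L20.BlowFlat
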