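import Groth.Agent.L20.BlowFlat.AlgScheme
import Groth.Agent.L20.BlowFlat.QuasiFin
import Mathlib.AlgebraicGeometry.ZariskisMainTheorem
import Groth.Prelude.Def_Mor2

/-!
# The strict transform of a proper morphism finite locally free over the open
-/

set_option autoImplicit false
set_option linter.style.haveILetI false
set_option backward.isDefEq.respectTransparency.types false

universe u

open CategoryTheory CategoryTheory.Limits AlgebraicGeometry TopologicalSpace Opposite
open scoped nonZeroDivisors TensorProduct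

noncomputable section

namespace Groth.L20.BlowFlat

/-- Fibres at primes avoiding the element are seen on the localisation. -/
theorem finite_fiber_of_away {T A D : Type u} [CommRing T] [CommRing A] [CommRing D] [Algebra T A] [Algebra T D]
    [Algebra A D] [IsScalarTower T A D] (t : T) [IsLocalization.Away (algebraMap T A t) D]
    (q : Ideal T) [q.IsPrime] (hq : t ∉ q) (h : Module.Finite q.ResidueField (q.Fiber D)) :
    Module.Finite q.ResidueField (q.Fiber A) := by
  let κ := q.ResidueField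
  let Tt := Localization.Away t
  let l : A →ₗ[T] D := (IsScalarTower.toAlgHom T A D).toLinearMap
  haveI : IsLocalizedModule (Submonoid.powers t) l := by
    haveI : IsLocalization (Algebra.algebraMapSubmonoid A (Submonoid.powers t)) D := by
      rw [Algebra.algebraMapSubmonoid, Submonoid.map_powers]
      infer_instance
    exact isLocalizedModule_iff_isLocalization.mpr inferInstance
  have hunit : IsUnit (algebraMap T κ t) :=
    IsUnit.mk0 _ fun h0 => hq (Ideal.algebraMap_residueField_eq_zero.1 h0)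
  letI : Algebra Tt κ := (IsLocalization.Away.lift (S := Tt) t hunit).toAlgebra
  haveI : IsScalarTower T Tt κ :=
    IsScalarTower.of_algebraMap_eq fun x => (IsLocalization.Away.lift_eq (S := Tt) t hunit x).symm
  have hu : IsUnit (algebraMap T D t) := by
    rw [IsScalarTower.algebraMap_apply T A D]
    exact IsLocalization.Away.algebraMap_isUnit _
  letI : Algebra Tt D := (IsLocalization.Away.lift (S := Tt) t hu).toAlgebra
  haveI : IsScalarTower T Tt D :=
    IsScalarTower.of_algebraMap_eq fun x => (IsLocalization.Away.lift_eq (S := Tt) t hu x).symm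
  let e : κ ⊗[T] A ≃ₗ[κ] κ ⊗[Tt] D :=
    (TensorProduct.AlgebraTensorModule.cancelBaseChange T Tt κ κ A).symm.trans
      (TensorProduct.AlgebraTensorModule.congr (LinearEquiv.refl κ κ)
        (IsLocalizedModule.isBaseChange (Submonoid.powers t) Tt l).equiv)
  let ψ : κ ⊗[T] D →ₗ[κ] κ ⊗[Tt] D :=
    LinearMap.liftBaseChange κ ((TensorProduct.mk Tt κ D 1).restrictScalars T)
  have hψ : Function.Surjective ψ := by
    intro z
    induction z using TensorProduct.induction_on with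
    | zero => exact ⟨0, map_zero _⟩
    | tmul a d => exact ⟨a ⊗ₜ d, by simp [ψ, TensorProduct.smul_tmul']⟩
    | add x y hx hy =>
      obtain ⟨x', rfl⟩ := hx
      obtain ⟨y', rfl⟩ := hy
      exact ⟨x' + y', map_add _ _ _⟩
  haveI : Module.Finite κ (κ ⊗[T] D) := h
  haveI : Module.Finite κ (κ ⊗[Tt] D) := Module.Finite.of_surjective ψ hψ
  exact Module.Finite.equiv e.symm

variable {Z S' : Scheme.{u}}

/-- A flat morphism, quasi-finite off an effective Cartier divisor of the base, is quasi-finite. -/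
theorem locallyQuasiFinite_of_flat (g : Z ⟶ S') [Flat g] {E : S'.IdealSheafData} (hE : BlowUp.IsEffCartierIdeal E)
    (O : S'.Opens) (hO : (E.support : Set S')ᶜ ⊆ O) [LocallyQuasiFinite (g ∣_ O)] : LocallyQuasiFinite g := by
  rw [HasRingHomProperty.iff_exists_appLE (P := @LocallyQuasiFinite)
    (RingHom.QuasiFinite.stableUnderComposition.stableUnderCompositionWithLocalizationAway
      RingHom.QuasiFinite.holdsForLocalizationAway).1]
  intro z
  obtain ⟨W', hzW, t, ht, hEW⟩ := hE (g z)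
  obtain ⟨_, ⟨V, hV, rfl⟩, hzV, hVW⟩ :=
    Z.isBasis_affineOpens.exists_subset_of_mem_open (a := z) (show z ∈ g ⁻¹ᵁ W'.1 from hzW) (g ⁻¹ᵁ W'.1).2
  change Z.Opens at V
  replace hV : IsAffineOpen V := hV
  have e : V ≤ g ⁻¹ᵁ W'.1 := hVW
  refine ⟨W', ⟨V, hV⟩, hzV, e, ?_⟩
  letI : Algebra Γ(S', W'.1) Γ(Z, V) := (g.appLE W'.1 V e).hom.toAlgebra
  haveI : Module.Flat Γ(S', W'.1) Γ(Z, V) := g.flat_appLE W'.2 hV e
  refine quasiFinite_of_flat_of_away ht fun q _ hq => ?_
  let a := algebraMap Γ(S', W'.1) Γ(Z, V) t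
  let D := Z.basicOpen a
  have hDV : D ≤ V := Z.basicOpen_le a
  have hDO : D ≤ g ⁻¹ᵁ O := fun y hy => hO fun hyE => by
    have h1 : y ∈ V ⊓ g ⁻¹ᵁ S'.basicOpen t := (Scheme.basicOpen_appLE g V W'.1 e t).le hy
    have h2 := (Scheme.IdealSheafData.mem_support_iff_of_mem (U := W') (S'.basicOpen_le t h1.2)).1 hyE
    rw [hEW, Scheme.zeroLocus_span, Scheme.zeroLocus_singleton] at h2
    exact h2 h1.2
  have eD : D ≤ g ⁻¹ᵁ W'.1 := hDV.trans e
  have hqf : (g.appLE W'.1 D eD).hom.QuasiFinite := by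
    have h1 : D.ι ≫ g = Z.homOfLE hDO ≫ (g ∣_ O) ≫ O.ι := by
      rw [morphismRestrict_ι, ← Category.assoc, Scheme.homOfLE_ι]
    haveI : LocallyQuasiFinite (D.ι ≫ g) := by rw [h1]; infer_instance
    haveI : IsAffine D.toScheme := hV.basicOpen a
    have e' : (⊤ : D.toScheme.Opens) ≤ (D.ι ≫ g) ⁻¹ᵁ W'.1 := fun x _ => eD x.2
    have key : g.appLE W'.1 D eD = (D.ι ≫ g).appLE W'.1 ⊤ e' ≫ D.topIso.hom := by
      rw [Scheme.Hom.comp_appLE, Scheme.Opens.ι_appLE, Scheme.Opens.topIso_hom, Category.assoc]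
      erw [← Z.presheaf.map_comp]
      rfl
    rw [key, CommRingCat.hom_comp]
    exact RingHom.QuasiFinite.comp (RingHom.QuasiFinite.of_finite
        (RingHom.Finite.of_surjective _ (ConcreteCategory.bijective_of_isIso D.topIso.hom).2))
      (LocallyQuasiFinite.quasiFinite_appLE W'.2 (isAffineOpen_top _) e')
  letI : Algebra Γ(Z, V) Γ(Z, D) := (Z.presheaf.map (homOfLE hDV).op).hom.toAlgebra
  letI : Algebra Γ(S', W'.1) Γ(Z, D) := (g.appLE W'.1 D eD).hom.toAlgebra
  haveI : IsScalarTower Γ(S', W'.1) Γ(Z, V) Γ(Z, D) := IsScalarTower.of_algebraMap_eq'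
    (congrArg CommRingCat.Hom.hom (Scheme.Hom.appLE_map g e (homOfLE hDV).op)).symm
  haveI : IsLocalization.Away a Γ(Z, D) := hV.isLocalization_basicOpen a
  haveI : Algebra.QuasiFinite Γ(S', W'.1) Γ(Z, D) := hqf
  exact finite_fiber_of_away (D := Γ(Z, D)) t q hq inferInstance

variable {X S : Scheme.{u}}

/-- The strict transform of a proper morphism, finite locally free over `U`, is finite locally free. -/
theorem exists_finLocFree [CompactSpace S] [QuasiSeparatedSpace S] (φ : X ⟶ S) [IsProper φ]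
    (U : S.Opens) (hU : IsCompact (U : Set S)) (hfl : Mor2.IsFinLocFree (φ ∣_ U)) :
    ∃ (𝓘 : S.IdealSheafData) (S' : Scheme.{u}) (b : S' ⟶ S), BlowUp.IsBlowUp b 𝓘 ∧ BlowUp.IsAdmissibleFor U 𝓘 ∧
      ∀ (X' : Scheme.{u}) (p₁ : X' ⟶ X) (p₂ : X' ⟶ S'), IsPullback p₁ p₂ φ b →
      ∀ (𝒥 : X'.IdealSheafData),
        (∀ (W : X'.affineOpens) (a : Γ(X', W.1)), a ∈ 𝒥.ideal W ↔
          BlowUp.KilledByPowerNear ((𝓘.comap φ).comap p₁) (Coh.structureModule X') W a) →
        Mor2.IsFinLocFree (𝒥.subschemeι ≫ p₂) := by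
  obtain ⟨hfin, hflat, hlfp⟩ := hfl
  obtain ⟨J₀, hJ₀, h⟩ := exists_centre_scheme φ U hU
  obtain ⟨L, hL, hLs⟩ := Groth.L13.Nagata.exists_compl_ideal U hU
  have hK : BlowUp.IsAdmissibleFor U (J₀ * L) :=
    Groth.L13.Nagata.admissible_mul hJ₀ ⟨hL, by rw [hLs]; exact disjoint_compl_left⟩
  obtain ⟨S', b, hb⟩ := Groth.L13.BU.exists_isBlowUp (J₀ * L)
  refine ⟨J₀ * L, S', b, hb, hK, fun X' p₁ p₂ hsq 𝒥 h𝒥 => ?_⟩
  obtain ⟨hflat', hlfp', -, -⟩ := h (J₀ * L) hK (fun W => ⟨L.ideal W, rfl⟩) S' b hb X' p₁ p₂ hsq 𝒥 h𝒥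
  haveI := hflat'
  haveI := hlfp'
  haveI : IsProper p₂ := MorphismProperty.of_isPullback hsq inferInstance
  haveI : LocallyQuasiFinite (p₂ ∣_ (b ⁻¹ᵁ U)) := by
    have hpb := Scheme.Hom.isPullback_resLE hsq (UT := b ⁻¹ᵁ U) (US := U) (UX := φ ⁻¹ᵁ U) le_rfl le_rfl
      (UY := p₂ ⁻¹ᵁ (b ⁻¹ᵁ U)) (by
        refine (inf_eq_right.2 ?_).symm
        rw [← Scheme.Hom.comp_preimage, ← Scheme.Hom.comp_preimage, hsq.w])
    have hφ : φ.resLE U (φ ⁻¹ᵁ U) le_rfl = φ ∣_ U := Scheme.Hom.resLE_eq_morphismRestrict φ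
    have : LocallyQuasiFinite (φ.resLE U (φ ⁻¹ᵁ U) le_rfl) := by
      rw [hφ]; exact inferInstance
    have := MorphismProperty.of_isPullback (P := @LocallyQuasiFinite) hpb this
    rwa [Scheme.Hom.resLE_eq_morphismRestrict] at this
  haveI : LocallyQuasiFinite ((𝒥.subschemeι ≫ p₂) ∣_ (b ⁻¹ᵁ U)) := by
    rw [morphismRestrict_comp]
    haveI : LocallyQuasiFinite 𝒥.subschemeι := inferInstance
    exact MorphismProperty.comp_mem @LocallyQuasiFinite _ _
      (IsZariskiLocalAtTarget.restrict (P := @LocallyQuasiFinite) (f := 𝒥.subschemeι) inferInstance _) ‹_›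
  haveI : LocallyQuasiFinite (𝒥.subschemeι ≫ p₂) := by
    refine locallyQuasiFinite_of_flat _ hb.1 (b ⁻¹ᵁ U) fun y hy => ?_
    rw [Scheme.IdealSheafData.support_comap] at hy
    by_contra hyU
    refine hy ?_
    show b y ∈ ((J₀ * L).support : Set S)
    rw [Scheme.IdealSheafData.support_mul, Closeds.coe_sup, hLs]
    exact Or.inr hyU
  exact ⟨IsFinite.of_isProper_of_locallyQuasiFinite _, hflat', hlfp'⟩

end Groth.L20.BlowFlat
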