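import Groth.Agent.L20.RG.FlatOpenFt

/-!
# Finite presentation of flat modules which are finitely presented where an element is inverted
-/

set_option autoImplicit false
set_option linter.style.haveILetI false
set_option backward.isDefEq.respectTransparency.types false
universe u

open TensorProduct nonZeroDivisors

namespace Groth.L20.BlowFlat

open Groth.L20.RG

/-- A finite module, flat over the base and finitely presented where finitely many elements of the base are inverted,
with a nonzerodivisor of the base in the radical of their span, is finitely presented. -/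
theorem fp_of_flat_of_fp_away {T A : Type u} [CommRing T] [CommRing A] [Algebra T A] [Algebra.FinitePresentation T A]
    (Q : Type u) [AddCommGroup Q] [Module A Q] [Module T Q] [IsScalarTower T A Q] [Module.Finite A Q] [Module.Flat T Q]
    {t : T} (ht : t ∈ T⁰) (G : Finset T) (hG : t ∈ (Ideal.span (G : Set T)).radical)
    (hfp : ∀ a ∈ G, Module.FinitePresentation (Localization.Away (algebraMap T A a))
      (LocalizedModule (Submonoid.powers (algebraMap T A a)) Q)) :
    Module.FinitePresentation A Q := by
  classical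
  have hloc : ∀ q : PrimeSpectrum A, ∃ g ∉ q.asIdeal,
      Module.FinitePresentation (Localization.Away g) (LocalizedModule (Submonoid.powers g) Q) := by
    intro q
    obtain ⟨N₀, _, _, _, _, _, π, hπ, hker, a, ha, hflat₀⟩ :=
      exists_model (R := T) Q q.asIdeal (FibreCrit.flat_localizedModule_of_flat (R := T) q.asIdeal.primeCompl)
    choose Fa hFa hFagen using fun a : G => exists_finset_ker π hπ (Submonoid.powers (algebraMap T A a.1)) (hfp a.1 a.2)
    let F : Finset N₀ := Finset.univ.biUnion Fa
    have hF : ∀ x ∈ F, π x = 0 := fun x hx => by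
      obtain ⟨a, -, hxa⟩ := Finset.mem_biUnion.1 hx
      exact hFa a x hxa
    choose s hs hsk using fun x : F => hker x.1 (hF x.1 x.2)
    let g := a * ∏ x, s x
    have hg : g ∉ q.asIdeal := fun h => (q.isPrime.mem_or_mem h).elim ha fun h' => by
      haveI := q.isPrime
      obtain ⟨x, -, hx⟩ := Ideal.IsPrime.prod_mem_iff.1 h'
      exact hs x hx
    have hgF : ∀ x ∈ Submodule.span A (F : Set N₀), g • x = 0 := fun x hx => by
      induction hx using Submodule.span_induction with
      | mem x hx =>
        show (a * ∏ y, s y) • x = 0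
        rw [mul_smul, ← Finset.prod_erase_mul _ _ (Finset.mem_univ (⟨x, hx⟩ : F)), mul_smul, hsk ⟨x, hx⟩, smul_zero,
          smul_zero]
      | zero => rw [smul_zero]
      | add x y _ _ hx hy => rw [smul_add, hx, hy, add_zero]
      | smul c x _ hx => rw [smul_comm, hx, smul_zero]
    haveI : Module.Flat T (LocalizedModule (Submonoid.powers a) N₀) :=
      (flat_away_iff a).mpr fun P _ hP => hflat₀ P hP
    refine ⟨g, hg, (fp_flat_of_ker π hπ (Dvd.intro _ rfl) hflat₀ fun x hx => ?_).1⟩
    have hrad : Ideal.span (G : Set T) ≤ (Ideal.torsionOf T N₀ (g • x)).radical := by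
      refine Ideal.span_le.2 fun a ha => ?_
      obtain ⟨_, ⟨l, rfl⟩, hl⟩ := hFagen ⟨a, ha⟩ x hx
      refine ⟨l, ?_⟩
      rw [Ideal.mem_torsionOf_iff, ← algebraMap_smul A, map_pow, smul_comm]
      exact hgF _ (Submodule.span_mono (by
        intro y hy; exact Finset.mem_coe.2 (Finset.mem_biUnion.2 ⟨⟨a, ha⟩, Finset.mem_univ _, hy⟩)) hl)
    obtain ⟨l, hl⟩ : t ∈ (Ideal.torsionOf T N₀ (g • x)).radical := Ideal.radical_le_radical_iff.2 hrad hG
    have h1 : t ^ l • (g • x) = 0 := (Ideal.mem_torsionOf_iff _ _).1 hl
    have h2 : LocalizedModule.mkLinearMap (Submonoid.powers a) N₀ (g • x) = 0 :=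
      Module.Flat.isSMulRegular_of_nonZeroDivisors (M := LocalizedModule (Submonoid.powers a) N₀) (pow_mem ht l)
        (show t ^ l • _ = t ^ l • 0 by rw [smul_zero, ← LinearMap.map_smul_of_tower, h1, map_zero])
    obtain ⟨⟨_, m, rfl⟩, hm⟩ := (IsLocalizedModule.eq_zero_iff (Submonoid.powers a)
      (LocalizedModule.mkLinearMap (Submonoid.powers a) N₀)).1 h2
    refine ⟨m + 1, ?_⟩
    rw [pow_succ, mul_smul]
    have : g ^ m = (∏ x, s x) ^ m * a ^ m := by rw [mul_comm, ← mul_pow]
    rw [this, mul_smul]
    show (∏ x, s x) ^ m • a ^ m • g • x = 0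
    rw [show a ^ m • g • x = 0 from hm, smul_zero]
  choose g hg hfp' using hloc
  refine Module.FinitePresentation.of_localizationSpan (Set.range g) ?_ ?_
  · by_contra hne
    obtain ⟨m, hm, hle⟩ := Ideal.exists_le_maximal _ hne
    exact hg ⟨m, hm.isPrime⟩ (hle (Ideal.subset_span ⟨_, rfl⟩))
  · rintro ⟨_, q, rfl⟩
    exact hfp' q

end Groth.L20.BlowFlat
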