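import Groth.Agent.L20.BlowFlat.Multi
import Groth.Agent.L20.BlowFlat.FlatFpDense

/-!
# The flattened quotient over an affine chart of the blow-up
-/

set_option autoImplicit false
set_option linter.style.haveILetI false
set_option backward.isDefEq.respectTransparency.types false
universe u

open TensorProduct nonZeroDivisors

namespace Groth.L20.BlowFlat

open Groth.L13.Fitting (mem_powTorsion_iff)

variable {R : Type u} [CommRing R]

/-- A principal ideal generated by a nonzerodivisor is invertible. -/
theorem inv_of_map_eq {K : Ideal R} {T : Type u} [CommRing T] [Algebra R T] {t : T} (ht : t ∈ T⁰)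
    (hK : K.map (algebraMap R T) = Ideal.span {t}) : Inv K T := by
  intro m hm
  obtain ⟨a, ha, hnot⟩ : ∃ a ∈ K, ∀ w, algebraMap R T a = w * t → w ∉ m := by
    by_contra hne
    push Not at hne
    have h1 : K.map (algebraMap R T) ≤ m * Ideal.span {t} := Ideal.map_le_iff_le_comap.2 fun a ha => by
      obtain ⟨w, hw, hwm⟩ := hne a ha
      rw [Ideal.mem_comap, hw]
      exact Ideal.mul_mem_mul hwm (Ideal.mem_span_singleton_self t)
    rw [hK, Ideal.span_singleton_le_iff_mem] at h1
    obtain ⟨q, hq, hqt⟩ := Ideal.mem_mul_span_singleton.1 h1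
    exact hm.ne_top ((Ideal.eq_top_iff_one _).2
      ((mul_cancel_right_mem_nonZeroDivisors ht).1 (hqt.trans (one_mul t).symm) ▸ hq))
  obtain ⟨w, hw⟩ := Ideal.mem_span_singleton'.1 (hK ▸ Ideal.mem_map_of_mem (algebraMap R T) ha :
    algebraMap R T a ∈ Ideal.span {t})
  have hu := IsLocalization.Away.algebraMap_isUnit (S := Localization.Away w) w
  have hat : algebraMap R (Localization.Away w) a = algebraMap T _ w * algebraMap T _ t := by
    rw [IsScalarTower.algebraMap_apply R T (Localization.Away w), ← hw, map_mul]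
  refine ⟨w, hnot w hw.symm, a, ha, ?_, ?_⟩
  · rw [hat]
    exact mul_mem hu.mem_nonZeroDivisors (IsLocalization.map_nonZeroDivisors_le (Submonoid.powers w) _ ⟨_, ht, rfl⟩)
  · rw [hat, Ideal.span_singleton_mul_left_unit hu, IsScalarTower.algebraMap_eq R T (Localization.Away w),
      ← Ideal.map_map, hK, Ideal.map_span, Set.image_singleton]

/-- An element in the radical becomes a divisor of a power. -/
theorem exists_dvd_pow {I K : Ideal R} (h : I ≤ K.radical) (hI : I.FG) {A : Type u} [CommRing A] [Algebra R A] {t a : A}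
    (hK : K.map (algebraMap R A) ≤ Ideal.span {t}) (ha : a ∈ I.map (algebraMap R A)) : ∃ k : ℕ, t ∣ a ^ k := by
  obtain ⟨N, hN⟩ := Ideal.exists_pow_le_of_le_radical_of_fg h hI
  refine ⟨N, Ideal.mem_span_singleton.1 (hK ?_)⟩
  have := Ideal.map_mono (f := algebraMap R A) hN
  rw [Ideal.map_pow] at this
  exact this (Ideal.pow_mem_pow ha N)

variable {S : Type u} [CommRing S] [Algebra R S] [Algebra.FinitePresentation R S]

/-- Flattening, stably under further centres with the same support. -/
theorem exists_ideal_good (N : Type u) [AddCommGroup N] [Module S N] [Module R N] [IsScalarTower R S N]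
    [Module.Finite S N] (G : Finset R)
    (hfp : ∀ a ∈ G, Module.FinitePresentation (Localization.Away (algebraMap R S a))
      (LocalizedModule (Submonoid.powers (algebraMap R S a)) N))
    (hflat : ∀ a ∈ G, FlatOff a N) :
    ∃ I : Ideal R, I.FG ∧ I.radical = (Ideal.span (G : Set R)).radical ∧
      ∀ L : Ideal R, (I * L).radical = (Ideal.span (G : Set R)).radical → ∀ (T : Type u) [CommRing T] [Algebra R T] (t : T),
        t ∈ T⁰ → (I * L).map (algebraMap R T) = Ideal.span {t} → GoodM T t (T ⊗[R] N) := by
  obtain ⟨I, hI, hrad, hgood⟩ := exists_ideal_flattening N G hfp hflat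
  refine ⟨I, hI, hrad, fun L hL T _ _ t ht hIt => ?_⟩
  have hinv := (inv_of_map_eq ht hIt).mul_left
  refine GoodM.of_flat_cover fun m hm => ?_
  obtain ⟨s, hs, a, ha, hreg, hgen⟩ := hinv m hm
  let A := Localization.Away s
  refine ⟨A, inferInstance, inferInstance, IsLocalization.flat _ (Submonoid.powers s),
    maximal_map_away_ne_top hm.isPrime hs, ?_⟩
  have hA : (I * L).map (algebraMap R A) = Ideal.span {algebraMap T A t} := by
    rw [IsScalarTower.algebraMap_eq R T A, ← Ideal.map_map, hIt, Ideal.map_span, Set.image_singleton]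
  refine GoodM.of_equiv (IsLocalization.map_nonZeroDivisors_le (Submonoid.powers s) _ ⟨_, ht, rfl⟩)
    (AlgebraTensorModule.cancelBaseChange R T A A N) ?_
  refine GoodM.congr_elem ?_ ?_ (hgood A _ hreg hgen)
  · refine ⟨1, ?_⟩
    rw [pow_one, ← Ideal.mem_span_singleton, ← hgen, ← Ideal.span_singleton_le_iff_mem, ← hA]
    exact Ideal.map_mono Ideal.mul_le_left
  · refine exists_dvd_pow (K := I * L) (I := I) ?_ hI hA.le (Ideal.mem_map_of_mem _ ha)
    rw [hL, ← hrad]
    exact Ideal.le_radical

/-- Finite presentation away from an element is insensitive to its torsion. -/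
theorem fp_away_of_torsion_ker {A P Q : Type u} [CommRing A] [AddCommGroup P] [Module A P] [AddCommGroup Q] [Module A Q]
    (π : P →ₗ[A] Q) (hπ : Function.Surjective π) {g : A} (hker : ∀ x, π x = 0 → ∃ k : ℕ, g ^ k • x = 0)
    (h : Module.FinitePresentation (Localization.Away g) (LocalizedModule (Submonoid.powers g) P)) :
    Module.FinitePresentation (Localization.Away g) (LocalizedModule (Submonoid.powers g) Q) := by
  let T := Submonoid.powers g
  let πT := LocalizedModule.map T π
  have hbij : Function.Bijective πT := by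
    refine ⟨(injective_iff_map_eq_zero _).mpr fun y hy => ?_, LocalizedModule.map_surjective T π hπ⟩
    induction y using LocalizedModule.induction_on with
    | _ x s =>
      rw [LocalizedModule.map_mk, ← LocalizedModule.zero_mk (S := T) s, LocalizedModule.mk_eq] at hy
      obtain ⟨c, hc⟩ := hy
      simp only [smul_zero, Submonoid.smul_def] at hc
      rw [smul_smul, ← map_smul] at hc
      obtain ⟨k, hk⟩ := hker _ hc
      rw [← LocalizedModule.zero_mk (S := T) s, LocalizedModule.mk_eq]
      refine ⟨⟨g ^ k, k, rfl⟩ * c, ?_⟩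
      simp only [smul_zero, Submonoid.smul_def, Submonoid.coe_mul]
      rw [smul_smul, mul_assoc, mul_smul, hk]
  haveI := h
  exact Module.FinitePresentation.of_equiv (LinearEquiv.ofBijective πT hbij)

/-- The quotient by torsion is flat over the base and finitely presented. -/
theorem flat_fp_quotient (N : Type u) [AddCommGroup N] [Module S N] [Module R N] [IsScalarTower R S N]
    [Module.Finite S N] (G : Finset R)
    (hfp : ∀ a ∈ G, Module.FinitePresentation (Localization.Away (algebraMap R S a))
      (LocalizedModule (Submonoid.powers (algebraMap R S a)) N))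
    {K : Ideal R} (hrad : K.radical = (Ideal.span (G : Set R)).radical) {T : Type u} [CommRing T] [Algebra R T] {t : T}
    (ht : t ∈ T⁰) (hKt : K.map (algebraMap R T) = Ideal.span {t}) (hgood : GoodM T t (T ⊗[R] N))
    (A : Type u) [CommRing A] [Algebra T A] [Algebra S A] [Algebra R A] [IsScalarTower R T A] [IsScalarTower R S A]
    [Algebra.IsPushout R T S A] :
    Module.Flat T ((A ⊗[S] N) ⧸ FlatCA.powTorsion A (algebraMap T A t) (A ⊗[S] N)) ∧
      Module.FinitePresentation A ((A ⊗[S] N) ⧸ FlatCA.powTorsion A (algebraMap T A t) (A ⊗[S] N)) := by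
  classical
  let P := A ⊗[S] N
  let U := FlatCA.powTorsion A (algebraMap T A t) P
  have h : GoodM T t P := GoodM.of_equiv ht (Algebra.IsPushout.cancelBaseChange R T S A N) hgood
  haveI : Module.Flat T (P ⧸ FlatCA.powTorsion T t P) := h
  have hflat : Module.Flat T (P ⧸ U) := by
    let π : P →ₗ[T] P ⧸ U := U.mkQ.restrictScalars T
    have e : FlatCA.powTorsion T t P = LinearMap.ker π := by
      ext m
      simp only [mem_powTorsion_iff, LinearMap.mem_ker, π, LinearMap.restrictScalars_apply, Submodule.mkQ_apply,
        Submodule.Quotient.mk_eq_zero, U, ← map_pow, algebraMap_smul]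
    exact Module.Flat.of_linearEquiv ((Submodule.quotEquivOfEq _ _ e).trans
      (π.quotKerEquivOfSurjective (Submodule.mkQ_surjective U))).symm
  haveI := hflat
  haveI : Algebra.FinitePresentation T A :=
    Algebra.FinitePresentation.equiv (Algebra.IsPushout.equiv R T S A)
  refine ⟨hflat, fp_of_flat_of_fp_away (P ⧸ U) ht (G.image (algebraMap R T)) ?_ fun y hy => ?_⟩
  · rw [Finset.coe_image, ← Ideal.map_span]
    have h1 : t ∈ K.map (algebraMap R T) := hKt ▸ Ideal.mem_span_singleton_self t
    have h2 : K ≤ (Ideal.span (G : Set R)).radical := hrad ▸ Ideal.le_radical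
    exact Ideal.map_radical_le _ (Ideal.map_mono h2 h1)
  · obtain ⟨a, ha, rfl⟩ := Finset.mem_image.1 hy
    rw [← IsScalarTower.algebraMap_apply]
    have hA := fp_away_tensor (C := A) _ (hfp a ha)
    rw [← IsScalarTower.algebraMap_apply] at hA
    refine fp_away_of_torsion_ker U.mkQ (Submodule.mkQ_surjective U) (fun x hx => ?_) hA
    obtain ⟨n, hn⟩ := (mem_powTorsion_iff _ _).1 ((Submodule.Quotient.mk_eq_zero U).1 hx)
    obtain ⟨k, c, hc⟩ : ∃ k : ℕ, t ∣ algebraMap R T a ^ k := by
      obtain ⟨k, hk⟩ : a ∈ K.radical := hrad ▸ Ideal.le_radical (Ideal.subset_span ha)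
      exact ⟨k, Ideal.mem_span_singleton.1 (hKt ▸ map_pow (algebraMap R T) a k ▸ Ideal.mem_map_of_mem _ hk)⟩
    refine ⟨k * n, ?_⟩
    rw [pow_mul, IsScalarTower.algebraMap_apply R T A, ← map_pow (algebraMap T A), hc, map_mul, mul_pow,
      mul_comm, mul_smul, hn, smul_zero]

end Groth.L20.BlowFlat
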