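import Groth.Agent.L20.BlowFlat.Affine
import Mathlib.RingTheory.FinitePresentation
import Mathlib.RingTheory.Localization.Away.Basic
import Mathlib.RingTheory.Finiteness.ModuleFinitePresentation

/-!
# Flattening finite type algebras
-/

set_option autoImplicit false
set_option linter.style.haveILetI false
set_option backward.isDefEq.respectTransparency.types false

universe u

open TensorProduct nonZeroDivisors

noncomputable section

namespace Groth.L20.BlowFlat

variable {R : Type u} [CommRing R]

/-- A quotient of a finitely presented algebra, finitely presented away from an element. -/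
theorem fp_away_cyclic {P B : Type u} [CommRing P] [CommRing B] [Algebra R P] [Algebra.FinitePresentation R P]
    [Algebra P B] [Algebra R B] [IsScalarTower R P B] (hsurj : Function.Surjective (algebraMap P B)) (a : P)
    (h : Algebra.FinitePresentation R (Localization.Away (algebraMap P B a))) :
    Module.FinitePresentation (Localization.Away a) (LocalizedModule (Submonoid.powers a) B) := by
  let Bg := Localization.Away (algebraMap P B a)
  let Pa := Localization.Away a
  let φ : Pa →+* Bg := IsLocalization.Away.map Pa Bg (algebraMap P B) a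
  letI : Algebra Pa Bg := φ.toAlgebra
  haveI : IsScalarTower P Pa Bg := IsScalarTower.of_algebraMap_eq fun x => by
    show _ = φ (algebraMap P Pa x)
    rw [IsScalarTower.algebraMap_apply P B Bg]
    exact (IsLocalization.map_eq _ x).symm
  haveI : IsScalarTower R Pa Bg := IsScalarTower.to₁₃₄ R P Pa Bg
  haveI : Algebra.FinitePresentation P Pa := IsLocalization.Away.finitePresentation a
  haveI : Algebra.FinitePresentation R Pa := Algebra.FinitePresentation.trans R P Pa
  haveI : Algebra.FinitePresentation R Bg := h
  have hφ : Function.Surjective (algebraMap Pa Bg) := by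
    intro x
    obtain ⟨m, ⟨_, ⟨n, rfl⟩⟩, rfl⟩ := IsLocalization.exists_mk'_eq (Submonoid.powers (algebraMap P B a)) x
    obtain ⟨p, rfl⟩ := hsurj m
    refine ⟨IsLocalization.mk' Pa p (⟨a ^ n, pow_mem (Submonoid.mem_powers a) n⟩ : Submonoid.powers a), ?_⟩
    show φ _ = _
    unfold φ IsLocalization.Away.map
    rw [IsLocalization.map_mk']
    congr 1
    exact Subtype.ext (map_pow _ a n)
  haveI : Module.FinitePresentation Pa Bg :=
    Module.finitePresentation_of_surjective (Algebra.linearMap Pa Bg) hφ
      (Algebra.FinitePresentation.ker_fG_of_surjective (IsScalarTower.toAlgHom R Pa Bg) hφ)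
  let l : B →ₗ[P] Bg := (IsScalarTower.toAlgHom P B Bg).toLinearMap
  haveI : IsLocalizedModule (Submonoid.powers a) l := by
    haveI : IsLocalization (Algebra.algebraMapSubmonoid B (Submonoid.powers a)) Bg := by
      rw [Algebra.algebraMapSubmonoid, Submonoid.map_powers]
      infer_instance
    exact isLocalizedModule_iff_isLocalization.mpr inferInstance
  exact Module.FinitePresentation.of_equiv
    ((IsLocalizedModule.iso (Submonoid.powers a) l).symm.extendScalarsOfIsLocalization (Submonoid.powers a) Pa)

/-- Flatness and finite presentation of a quotient algebra, from a module isomorphism. -/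
theorem flat_fp_transfer {T A₀ A M : Type u} [CommRing T] [CommRing A₀] [CommRing A] [Algebra T A₀] [Algebra T A]
    [Algebra A₀ A] [IsScalarTower T A₀ A] [Algebra.FinitePresentation T A₀] [AddCommGroup M] [Module A₀ M] [Module T M]
    [IsScalarTower T A₀ M] (e : M ≃ₗ[A₀] A) (t : T) (J : Ideal A)
    (hJ : ∀ x, x ∈ J ↔ ∃ n : ℕ, algebraMap T A t ^ n * x = 0)
    (h1 : Module.Flat T (M ⧸ FlatCA.powTorsion A₀ (algebraMap T A₀ t) M))
    (h2 : Module.FinitePresentation A₀ (M ⧸ FlatCA.powTorsion A₀ (algebraMap T A₀ t) M)) :
    Module.Flat T (A ⧸ J) ∧ Algebra.FinitePresentation T (A ⧸ J) := by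
  let U := FlatCA.powTorsion A₀ (algebraMap T A₀ t) M
  have hU : U.map e.toLinearMap = J.restrictScalars A₀ := by
    ext x
    rw [Submodule.map_equiv_eq_comap_symm, Submodule.mem_comap, Groth.L13.Fitting.mem_powTorsion_iff,
      Submodule.restrictScalars_mem, hJ]
    refine exists_congr fun m => ?_
    rw [LinearEquiv.coe_coe, ← map_smul, LinearEquiv.map_eq_zero_iff, Algebra.smul_def, map_pow,
      ← IsScalarTower.algebraMap_apply]
  let e' : (M ⧸ U) ≃ₗ[A₀] (A ⧸ J) := (Submodule.Quotient.equiv U _ e hU).trans
    (Submodule.Quotient.restrictScalarsEquiv A₀ J)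
  haveI := h1
  haveI := h2
  haveI : Module.Flat T (A ⧸ J) := Module.Flat.of_linearEquiv (e'.restrictScalars T).symm
  haveI : Module.FinitePresentation A₀ (A ⧸ J) := Module.FinitePresentation.of_equiv e'
  haveI : Algebra.FinitePresentation A₀ (A ⧸ J) := Algebra.FinitePresentation.of_finitePresentation A₀ (A ⧸ J)
  exact ⟨inferInstance, Algebra.FinitePresentation.trans T A₀ (A ⧸ J)⟩

/-- Flattening of an algebra of finite type, stably under further centres with the same support. -/
theorem exists_ideal_good_algebra (B : Type u) [CommRing B] [Algebra R B] [Algebra.FiniteType R B] (G : Finset R)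
    (hfp : ∀ a ∈ G, Algebra.FinitePresentation R (Localization.Away (algebraMap R B a)))
    (hflat : ∀ a ∈ G, FlatOff a B) :
    ∃ I : Ideal R, I.FG ∧ I.radical = (Ideal.span (G : Set R)).radical ∧
      ∀ L : Ideal R, (I * L).radical = (Ideal.span (G : Set R)).radical → ∀ (T : Type u) [CommRing T] [Algebra R T] (t : T),
        t ∈ T⁰ → (I * L).map (algebraMap R T) = Ideal.span {t} →
        ∀ (A : Type u) [CommRing A] [Algebra T A] [Algebra B A] [Algebra R A] [IsScalarTower R T A] [IsScalarTower R B A]
          [Algebra.IsPushout R T B A] (J : Ideal A), (∀ x, x ∈ J ↔ ∃ n : ℕ, algebraMap T A t ^ n * x = 0) →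
          Module.Flat T (A ⧸ J) ∧ Algebra.FinitePresentation T (A ⧸ J) := by
  classical
  obtain ⟨n, π, hπ⟩ := Algebra.FiniteType.iff_quotient_mvPolynomial''.1 (‹Algebra.FiniteType R B›)
  let P := MvPolynomial (Fin n) R
  letI : Algebra P B := π.toRingHom.toAlgebra
  haveI : IsScalarTower R P B := IsScalarTower.of_algebraMap_eq fun r => (π.commutes r).symm
  haveI : Module.Finite P B := Module.Finite.of_surjective (Algebra.linearMap P B) hπ
  obtain ⟨I, hI, hrad, hgood⟩ := exists_ideal_good (S := P) B G
    (fun a ha => fp_away_cyclic (R := R) hπ (algebraMap R P a) (by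
      rw [← IsScalarTower.algebraMap_apply]; exact hfp a ha)) hflat
  refine ⟨I, hI, hrad, fun L hL T _ _ t ht hIt A _ _ _ _ _ _ _ J hJ => ?_⟩
  let A₀ := T ⊗[R] P
  letI : Algebra P A₀ := Algebra.TensorProduct.rightAlgebra
  haveI : Algebra.IsPushout R T P A₀ := TensorProduct.isPushout
  letI : Algebra P A := ((algebraMap B A).comp (algebraMap P B)).toAlgebra
  haveI : IsScalarTower P B A := IsScalarTower.of_algebraMap_eq fun _ => rfl
  haveI : IsScalarTower R P A := IsScalarTower.of_algebraMap_eq fun r => by
    show algebraMap R A r = algebraMap B A (algebraMap P B (algebraMap R P r))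
    rw [← IsScalarTower.algebraMap_apply R P B, ← IsScalarTower.algebraMap_apply]
  let ρ : A₀ →ₐ[T] A := Algebra.TensorProduct.lift (Algebra.ofId T A) (IsScalarTower.toAlgHom R P A)
    fun _ _ => Commute.all _ _
  letI : Algebra A₀ A := ρ.toRingHom.toAlgebra
  haveI : IsScalarTower T A₀ A := IsScalarTower.of_algebraMap_eq fun x => (ρ.commutes x).symm
  haveI : IsScalarTower P A₀ A := IsScalarTower.of_algebraMap_eq fun p => by
    show algebraMap B A (algebraMap P B p) = ρ (1 ⊗ₜ p)
    refine Eq.symm ((Algebra.TensorProduct.lift_tmul _ _ _ 1 p).trans ?_)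
    rw [map_one, one_mul]
    rfl
  haveI : IsScalarTower R A₀ A := IsScalarTower.of_algebraMap_eq fun r =>
    (IsScalarTower.algebraMap_apply R T A r).trans ((IsScalarTower.algebraMap_apply T A₀ A _).trans
      (congrArg (algebraMap A₀ A) (IsScalarTower.algebraMap_apply R T A₀ r).symm))
  haveI : Algebra.IsPushout R P T A₀ := Algebra.IsPushout.symm inferInstance
  haveI : Algebra.IsPushout R B T A := Algebra.IsPushout.symm inferInstance
  haveI : Algebra.IsPushout P A₀ B A :=
    Algebra.IsPushout.symm ((Algebra.IsPushout.comp_iff (R := R) (S := P) (R' := T) (S' := A₀)).1 inferInstance)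
  obtain ⟨h1, h2⟩ := flat_fp_quotient (S := P) B G
    (fun a ha => fp_away_cyclic (R := R) hπ (algebraMap R P a) (by
      rw [← IsScalarTower.algebraMap_apply]; exact hfp a ha))
    hL ht hIt (hgood L hL T t ht hIt) A₀
  haveI : Algebra.FinitePresentation T A₀ := Algebra.FinitePresentation.baseChange T
  exact flat_fp_transfer (Algebra.IsPushout.equiv P A₀ B A).toLinearEquiv t J hJ h1 h2

end Groth.L20.BlowFlat
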