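import Groth.Agent.L20.BlowFlat.Chart
import Groth.Agent.L20.BlowFlat.AlgChart

/-!
# Flattening a scheme of finite type by an admissible blow-up
-/

set_option autoImplicit false
set_option linter.style.haveILetI false
set_option backward.isDefEq.respectTransparency.types false

universe u

open CategoryTheory CategoryTheory.Limits AlgebraicGeometry TopologicalSpace Opposite
open scoped nonZeroDivisors TensorProduct

noncomputable section

namespace Groth.L20.BlowFlat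

variable {X S X' S' : Scheme.{u}}

/-- A morphism flat and of finite presentation over an open, on an affine open lying over it. -/
theorem appLE_flat_fp (f : X ⟶ S) (U : S.Opens) [Flat (f ∣_ U)] [LocallyOfFinitePresentation (f ∣_ U)]
    {W : S.Opens} (hW : IsAffineOpen W) {D : X.Opens} (hD : IsAffineOpen D) (hDU : D ≤ f ⁻¹ᵁ U) (e : D ≤ f ⁻¹ᵁ W) :
    (f.appLE W D e).hom.Flat ∧ (f.appLE W D e).hom.FinitePresentation := by
  have h1 : D.ι ≫ f = X.homOfLE hDU ≫ (f ∣_ U) ≫ U.ι := by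
    rw [morphismRestrict_ι, ← Category.assoc, Scheme.homOfLE_ι]
  haveI : Flat (D.ι ≫ f) := by rw [h1]; infer_instance
  haveI : LocallyOfFinitePresentation (D.ι ≫ f) := by rw [h1]; infer_instance
  haveI : IsAffine D.toScheme := hD
  have e' : (⊤ : D.toScheme.Opens) ≤ (D.ι ≫ f) ⁻¹ᵁ W := fun x _ => e x.2
  have key : f.appLE W D e = (D.ι ≫ f).appLE W ⊤ e' ≫ D.topIso.hom := by
    rw [Scheme.Hom.comp_appLE, Scheme.Opens.ι_appLE, Scheme.Opens.topIso_hom, Category.assoc]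
    erw [← X.presheaf.map_comp]
    rfl
  have hb : Function.Bijective D.topIso.hom.hom := ConcreteCategory.bijective_of_isIso D.topIso.hom
  rw [key, CommRingCat.hom_comp]
  exact ⟨((D.ι ≫ f).flat_appLE hW (isAffineOpen_top _) e').comp (RingHom.Flat.of_bijective hb),
    (RingHom.FinitePresentation.of_bijective hb).comp ((D.ι ≫ f).finitePresentation_appLE hW (isAffineOpen_top _) e')⟩

/-- A centre flattening the algebra over one pair of affine opens. -/
theorem exists_chart_centre_algebra [CompactSpace S] [QuasiSeparatedSpace S] (f : X ⟶ S) [LocallyOfFiniteType f]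
    (U : S.Opens) [Flat (f ∣_ U)] [LocallyOfFinitePresentation (f ∣_ U)] (hU : IsCompact (U : Set S))
    {W : S.Opens} (hW : IsAffineOpen W) {V : X.Opens} (hV : IsAffineOpen V) (eV : V ≤ f ⁻¹ᵁ W) :
    letI : Algebra Γ(S, W) Γ(X, V) := (f.appLE W V eV).hom.toAlgebra
    ∃ J : S.IdealSheafData, BlowUp.IsAdmissibleFor U J ∧ ∀ K : S.IdealSheafData, BlowUp.IsAdmissibleFor U K →
      (∃ L, K.ideal ⟨W, hW⟩ = J.ideal ⟨W, hW⟩ * L) →
      ∀ (T : Type u) [CommRing T] [Algebra Γ(S, W) T] (t : T), t ∈ T⁰ →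
        (K.ideal ⟨W, hW⟩).map (algebraMap Γ(S, W) T) = Ideal.span {t} →
        ∀ (A : Type u) [CommRing A] [Algebra T A] [Algebra Γ(X, V) A] [Algebra Γ(S, W) A]
          [IsScalarTower Γ(S, W) T A] [IsScalarTower Γ(S, W) Γ(X, V) A] [Algebra.IsPushout Γ(S, W) T Γ(X, V) A]
          (J : Ideal A), (∀ x, x ∈ J ↔ ∃ n : ℕ, algebraMap T A t ^ n * x = 0) →
          Module.Flat T (A ⧸ J) ∧ Algebra.FinitePresentation T (A ⧸ J) := by
  letI : Algebra Γ(S, W) Γ(X, V) := (f.appLE W V eV).hom.toAlgebra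
  haveI : Algebra.FiniteType Γ(S, W) Γ(X, V) := f.finiteType_appLE hW hV eV
  obtain ⟨G, hG, hcov⟩ := exists_gens_inter U hU hW
  have key : ∀ a ∈ G, Algebra.FinitePresentation Γ(S, W) (Localization.Away (algebraMap Γ(S, W) Γ(X, V) a)) ∧
      FlatOff a Γ(X, V) := by
    intro a ha
    let g := algebraMap Γ(S, W) Γ(X, V) a
    let D := X.basicOpen g
    have hDU : D ≤ f ⁻¹ᵁ U := (Scheme.basicOpen_appLE f V W eV a).le.trans
      (inf_le_right.trans fun y hy => hG a ha hy)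
    have eD : D ≤ f ⁻¹ᵁ W := (X.basicOpen_le g).trans eV
    obtain ⟨hfl, hfp⟩ := appLE_flat_fp f U hW (hV.basicOpen g) hDU eD
    letI : Algebra Γ(X, V) Γ(X, D) := (X.presheaf.map (homOfLE (X.basicOpen_le g)).op).hom.toAlgebra
    letI : Algebra Γ(S, W) Γ(X, D) := (f.appLE W D eD).hom.toAlgebra
    haveI : IsScalarTower Γ(S, W) Γ(X, V) Γ(X, D) := IsScalarTower.of_algebraMap_eq'
      (congrArg CommRingCat.Hom.hom (Scheme.Hom.appLE_map f eV (homOfLE (X.basicOpen_le g)).op)).symm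
    haveI : IsLocalization.Away g Γ(X, D) := hV.isLocalization_basicOpen g
    haveI : Algebra.FinitePresentation Γ(S, W) Γ(X, D) := hfp
    haveI : Module.Flat Γ(S, W) Γ(X, D) := hfl
    refine ⟨Algebra.FinitePresentation.equiv
      ((IsLocalization.algEquiv (Submonoid.powers g) Γ(X, D) (Localization.Away g)).restrictScalars Γ(S, W)), ?_⟩
    let l : Γ(X, V) →ₗ[Γ(X, V)] Γ(X, D) := Algebra.linearMap Γ(X, V) Γ(X, D)
    haveI : IsLocalizedModule (Submonoid.powers g) l := inferInstance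
    haveI hloc : Module.Flat Γ(S, W) (LocalizedModule (Submonoid.powers g) Γ(X, V)) :=
      Module.Flat.of_linearEquiv ((IsLocalizedModule.iso (Submonoid.powers g) l).restrictScalars Γ(S, W))
    intro J z hz
    obtain ⟨_, ⟨k, rfl⟩, hk⟩ := (Groth.L20.flat_localizedModule_iff_forall _).1 hloc J z hz
    exact ⟨k, by rw [← algebraMap_smul Γ(X, V) (a ^ k) z, map_pow]; exact hk⟩
  obtain ⟨I, hI, hrad, hgood⟩ := exists_ideal_good_algebra Γ(X, V) G (fun a ha => (key a ha).1)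
    (fun a ha => (key a ha).2)
  obtain ⟨J, hJ, hJW⟩ := exists_extend U hU hW G hcov I hI
    (fun a ha => hrad.symm ▸ Ideal.le_radical (Ideal.subset_span ha))
  refine ⟨J, hJ, fun K hK ⟨L, hL⟩ T _ _ t ht hKt => ?_⟩
  rw [hJW] at hL
  have hradK : (I * L).radical = (Ideal.span (G : Set Γ(S, W))).radical := by
    refine le_antisymm ?_ ?_
    · rw [← hrad]
      exact Ideal.radical_mono Ideal.mul_le_left
    · rw [← hL]
      exact Ideal.radical_le_radical_iff.2 (gens_le_radical K hK.2 hW G hG)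
  rw [hL] at hKt
  exact hgood L hradK T t ht hKt

/-- A centre such that blowing up any admissible multiple flattens the scheme of finite type. -/
theorem exists_centre_scheme [CompactSpace S] [QuasiSeparatedSpace S] (f : X ⟶ S) [LocallyOfFiniteType f]
    [QuasiCompact f] [QuasiSeparated f] (U : S.Opens) (hU : IsCompact (U : Set S))
    [Flat (f ∣_ U)] [LocallyOfFinitePresentation (f ∣_ U)] :
    ∃ J₀ : S.IdealSheafData, BlowUp.IsAdmissibleFor U J₀ ∧ ∀ K : S.IdealSheafData, BlowUp.IsAdmissibleFor U K →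
      (∀ W : S.affineOpens, ∃ L, K.ideal W = J₀.ideal W * L) →
      ∀ (S' : Scheme.{u}) (b : S' ⟶ S), BlowUp.IsBlowUp b K →
      ∀ (X' : Scheme.{u}) (p₁ : X' ⟶ X) (p₂ : X' ⟶ S'), IsPullback p₁ p₂ f b →
      ∀ (𝒥 : X'.IdealSheafData),
        (∀ (V : X'.affineOpens) (a : Γ(X', V.1)), a ∈ 𝒥.ideal V ↔
          BlowUp.KilledByPowerNear ((K.comap f).comap p₁) (Coh.structureModule X') V a) →
        Flat (𝒥.subschemeι ≫ p₂) ∧ LocallyOfFinitePresentation (𝒥.subschemeι ≫ p₂) ∧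
          QuasiCompact (𝒥.subschemeι ≫ p₂) ∧ QuasiSeparated (𝒥.subschemeι ≫ p₂) := by
  classical
  haveI : CompactSpace X := QuasiCompact.compactSpace_of_compactSpace f
  have hch : ∀ x : X, ∃ (W : S.Opens) (V : X.Opens) (_ : V ≤ f ⁻¹ᵁ W), IsAffineOpen W ∧ IsAffineOpen V ∧ x ∈ V := by
    intro x
    obtain ⟨_, ⟨W, hW, rfl⟩, hxW, -⟩ :=
      S.isBasis_affineOpens.exists_subset_of_mem_open (Set.mem_univ (f x)) isOpen_univ
    obtain ⟨_, ⟨V, hV, rfl⟩, hxV, hVW⟩ :=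
      X.isBasis_affineOpens.exists_subset_of_mem_open (a := x) (show x ∈ f ⁻¹ᵁ W from hxW) (f ⁻¹ᵁ W).2
    exact ⟨W, V, hVW, hW, hV, hxV⟩
  choose W V eV hW hV hxV using hch
  obtain ⟨s, hs⟩ := isCompact_univ.elim_finite_subcover (fun x : X => (V x : Set X)) (fun x => (V x).2)
    (fun x _ => Set.mem_iUnion.2 ⟨x, hxV x⟩)
  let c : Fin s.card → X := fun i => (s.equivFin.symm i).1
  have hc : ∀ y : X, ∃ i, y ∈ V (c i) := fun y => by
    obtain ⟨x, hx, hy⟩ := Set.mem_iUnion₂.1 (hs (Set.mem_univ y))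
    exact ⟨s.equivFin ⟨x, hx⟩, by simpa [c] using hy⟩
  choose J hJ hgood using fun i => exists_chart_centre_algebra f U hU (hW (c i)) (hV (c i)) (eV (c i))
  obtain ⟨J₀, hJ₀, hJ₀J⟩ := exists_prod U J hJ
  refine ⟨J₀, hJ₀, fun K hK hKJ₀ S' b hb X' p₁ p₂ hsq 𝒥 h𝒥 => ?_⟩
  have hKJ : ∀ (i : Fin s.card) (W : S.affineOpens), ∃ L, K.ideal W = (J i).ideal W * L := fun i W => by
    obtain ⟨L, hL⟩ := hJ₀J i W
    obtain ⟨L', hL'⟩ := hKJ₀ W
    exact ⟨L * L', by rw [hL', hL, mul_assoc]⟩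
  have key : ∀ y : 𝒥.subscheme, ∃ (W' : S'.affineOpens) (D : 𝒥.subscheme.affineOpens) (_ : y ∈ D.1)
      (e : D.1 ≤ (𝒥.subschemeι ≫ p₂) ⁻¹ᵁ W'.1),
      ((𝒥.subschemeι ≫ p₂).appLE W'.1 D.1 e).hom.Flat ∧
        ((𝒥.subschemeι ≫ p₂).appLE W'.1 D.1 e).hom.FinitePresentation := by
    intro y
    obtain ⟨W', U', eW, eU, eU', hW', hxU', hpo, hU', t, ht, hKt, hE⟩ :=
      exists_chart_pullback (x' := 𝒥.subschemeι y) hsq K hb.1 (hW (c (hc (p₁ (𝒥.subschemeι y))).choose))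
        (hV (c (hc (p₁ (𝒥.subschemeι y))).choose)) (eV (c (hc (p₁ (𝒥.subschemeι y))).choose))
        (hc (p₁ (𝒥.subschemeι y))).choose_spec
    set i := (hc (p₁ (𝒥.subschemeι y))).choose
    letI : Algebra Γ(S, W (c i)) Γ(X, V (c i)) := (f.appLE _ _ (eV (c i))).hom.toAlgebra
    letI : Algebra Γ(S, W (c i)) Γ(S', W') := (b.appLE _ W' eW).hom.toAlgebra
    letI : Algebra Γ(X, V (c i)) Γ(X', U') := (p₁.appLE _ U' eU).hom.toAlgebra
    letI : Algebra Γ(S', W') Γ(X', U') := (p₂.appLE W' U' eU').hom.toAlgebra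
    letI : Algebra Γ(S, W (c i)) Γ(X', U') :=
      ((p₂.appLE W' U' eU').hom.comp (b.appLE _ W' eW).hom).toAlgebra
    haveI : IsScalarTower Γ(S, W (c i)) Γ(S', W') Γ(X', U') := IsScalarTower.of_algebraMap_eq fun _ => rfl
    haveI : IsScalarTower Γ(S, W (c i)) Γ(X, V (c i)) Γ(X', U') :=
      IsScalarTower.of_algebraMap_eq' (congrArg CommRingCat.Hom.hom hpo.w).symm
    haveI : Algebra.IsPushout Γ(S, W (c i)) Γ(X, V (c i)) Γ(S', W') Γ(X', U') :=
      CommRingCat.isPushout_iff_isPushout.1 hpo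
    haveI : Algebra.IsPushout Γ(S, W (c i)) Γ(S', W') Γ(X, V (c i)) Γ(X', U') := Algebra.IsPushout.symm inferInstance
    have hmem : ∀ x, x ∈ 𝒥.ideal ⟨U', hU'⟩ ↔ ∃ n : ℕ, algebraMap Γ(S', W') Γ(X', U') t ^ n * x = 0 := by
      intro x
      rw [h𝒥]
      refine exists_congr fun n => ?_
      have hp : ((((K.comap f).comap p₁) ^ n).ideal ⟨U', hU'⟩) =
          Ideal.span {algebraMap Γ(S', W') Γ(X', U') t ^ n} := by
        rw [Scheme.IdealSheafData.ideal_pow, Pi.pow_apply, show ((K.comap f).comap p₁).ideal ⟨U', hU'⟩ = _ from hE,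
          Ideal.span_singleton_pow]
        rfl
      constructor
      · intro h
        exact h (algebraMap Γ(S', W') Γ(X', U') t ^ n) (hp ▸ Ideal.mem_span_singleton_self _)
      · intro h a ha
        obtain ⟨w, rfl⟩ := Ideal.mem_span_singleton'.1 (hp ▸ ha)
        show w * algebraMap Γ(S', W') Γ(X', U') t ^ n * x = 0
        rw [mul_assoc, h, mul_zero]
    obtain ⟨h1, h2⟩ := hgood i K hK (hKJ i ⟨_, hW (c i)⟩) Γ(S', W') t ht hKt Γ(X', U') _ hmem
    have hD : IsAffineOpen (𝒥.subschemeι ⁻¹ᵁ U') := hU'.preimage 𝒥.subschemeι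
    have e : 𝒥.subschemeι ⁻¹ᵁ U' ≤ (𝒥.subschemeι ≫ p₂) ⁻¹ᵁ W' := fun z hz => eU' hz
    refine ⟨⟨W', hW'⟩, ⟨_, hD⟩, hxU', e, ?_⟩
    have hkey : (𝒥.subschemeι ≫ p₂).appLE W' (𝒥.subschemeι ⁻¹ᵁ U') e =
        p₂.appLE W' U' eU' ≫ CommRingCat.ofHom (Ideal.Quotient.mk (𝒥.ideal ⟨U', hU'⟩)) ≫
          (𝒥.subschemeObjIso ⟨U', hU'⟩).inv := by
      rw [← 𝒥.subschemeι_app ⟨U', hU'⟩, Scheme.Hom.app_eq_appLE, Scheme.Hom.appLE_comp_appLE]
    have hq : (p₂.appLE W' U' eU' ≫ CommRingCat.ofHom (Ideal.Quotient.mk (𝒥.ideal ⟨U', hU'⟩))).hom =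
        algebraMap Γ(S', W') (Γ(X', U') ⧸ 𝒥.ideal ⟨U', hU'⟩) := rfl
    have hb' : Function.Bijective (𝒥.subschemeObjIso ⟨U', hU'⟩).inv.hom :=
      ConcreteCategory.bijective_of_isIso (𝒥.subschemeObjIso ⟨U', hU'⟩).inv
    show ((𝒥.subschemeι ≫ p₂).appLE W' (𝒥.subschemeι ⁻¹ᵁ U') e).hom.Flat ∧
      ((𝒥.subschemeι ≫ p₂).appLE W' (𝒥.subschemeι ⁻¹ᵁ U') e).hom.FinitePresentation
    rw [hkey, ← Category.assoc, CommRingCat.hom_comp, hq]
    exact ⟨(RingHom.flat_algebraMap_iff.2 h1).comp (RingHom.Flat.of_bijective hb'),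
      (RingHom.FinitePresentation.of_bijective hb').comp (RingHom.finitePresentation_algebraMap.2 h2)⟩
  haveI : QuasiCompact p₂ := MorphismProperty.of_isPullback hsq inferInstance
  haveI : QuasiSeparated p₂ := MorphismProperty.of_isPullback hsq inferInstance
  refine ⟨?_, ?_, inferInstance, inferInstance⟩
  · rw [HasRingHomProperty.iff_exists_appLE (P := @Flat)
      (RingHom.Flat.stableUnderComposition.stableUnderCompositionWithLocalizationAway
        RingHom.Flat.holdsForLocalizationAway).left]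
    intro y
    obtain ⟨W', D, hy, e, h1, -⟩ := key y
    exact ⟨W', D, hy, e, h1⟩
  · rw [HasRingHomProperty.iff_exists_appLE (P := @LocallyOfFinitePresentation)
      (RingHom.finitePresentation_stableUnderComposition.stableUnderCompositionWithLocalizationAway
        RingHom.finitePresentation_holdsForLocalizationAway).left]
    intro y
    obtain ⟨W', D, hy, e, -, h2⟩ := key y
    exact ⟨W', D, hy, e, h2⟩

/-- Flattening a scheme of finite type by an admissible blow-up. -/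
theorem exists_flattening_scheme [CompactSpace S] [QuasiSeparatedSpace S] (f : X ⟶ S) [LocallyOfFiniteType f]
    [QuasiCompact f] [QuasiSeparated f] (U : S.Opens) (hU : IsCompact (U : Set S))
    [Flat (f ∣_ U)] [LocallyOfFinitePresentation (f ∣_ U)] :
    ∃ (𝓘 : S.IdealSheafData) (S' : Scheme.{u}) (b : S' ⟶ S), BlowUp.IsBlowUp b 𝓘 ∧ BlowUp.IsAdmissibleFor U 𝓘 ∧
      ∀ (X' : Scheme.{u}) (p₁ : X' ⟶ X) (p₂ : X' ⟶ S'), IsPullback p₁ p₂ f b →
      ∀ (𝒥 : X'.IdealSheafData),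
        (∀ (V : X'.affineOpens) (a : Γ(X', V.1)), a ∈ 𝒥.ideal V ↔
          BlowUp.KilledByPowerNear ((𝓘.comap f).comap p₁) (Coh.structureModule X') V a) →
        Flat (𝒥.subschemeι ≫ p₂) ∧ LocallyOfFinitePresentation (𝒥.subschemeι ≫ p₂) ∧
          QuasiCompact (𝒥.subschemeι ≫ p₂) ∧ QuasiSeparated (𝒥.subschemeι ≫ p₂) := by
  obtain ⟨K, hK, h⟩ := exists_centre_scheme f U hU
  obtain ⟨S', b, hb⟩ := Groth.L13.BU.exists_isBlowUp K
  exact ⟨K, S', b, hb, hK, h K hK (fun W => ⟨⊤, (Ideal.mul_top _).symm⟩) S' b hb⟩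

end Groth.L20.BlowFlat
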