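import Groth.Agent.L20.BlowFlat.Etale
import Mathlib.RingTheory.Etale.Basic
import Mathlib.RingTheory.Localization.BaseChange

/-!
# Working with centres: isomorphisms, torsion, covers of the base
-/

set_option autoImplicit false
set_option linter.style.haveILetI false
set_option backward.isDefEq.respectTransparency.types false
universe u

open TensorProduct nonZeroDivisors

namespace Groth.L20.BlowFlat

open Groth.L13.Fitting (mem_powTorsion_iff)

variable {R : Type u} [CommRing R] {f : R} {M N : Type u} [AddCommGroup M] [Module R M] [AddCommGroup N] [Module R N]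

theorem GoodM.to_torsion_ker {T : Type u} [CommRing T] {t : T} {A B : Type u} [AddCommGroup A] [Module T A]
    [AddCommGroup B] [Module T B] (ht : t ∈ T⁰) (π : A →ₗ[T] B) (hsurj : Function.Surjective π)
    (hker : ∀ m, π m = 0 → ∃ n : ℕ, t ^ n • m = 0) (h : GoodM T t A) : GoodM T t B := by
  haveI : Module.Flat T (A ⧸ FlatCA.powTorsion T t A) := h
  have hle : LinearMap.ker π ≤ LinearMap.ker (FlatCA.powTorsion T t A).mkQ := fun m hm => by
    rw [Submodule.ker_mkQ, mem_powTorsion_iff]
    exact hker m hm
  let ψ : B →ₗ[T] A ⧸ FlatCA.powTorsion T t A :=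
    ((LinearMap.ker π).liftQ _ hle).comp (π.quotKerEquivOfSurjective hsurj).symm.toLinearMap
  have hψ : ∀ a, ψ (π a) = Submodule.Quotient.mk a := fun a => by
    simp [ψ, LinearMap.quotKerEquivOfSurjective_symm_apply π hsurj]
  refine goodM_of_surjective ht ψ (fun y => ?_) fun b hb => ?_
  · obtain ⟨a, rfl⟩ := Submodule.Quotient.mk_surjective _ y
    exact ⟨π a, hψ a⟩
  · obtain ⟨a, rfl⟩ := hsurj b
    rw [hψ, Submodule.Quotient.mk_eq_zero, mem_powTorsion_iff] at hb
    obtain ⟨n, hn⟩ := hb
    exact ⟨n, by rw [← map_smul, hn, map_zero]⟩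

theorem HasCentre.congr (e : M ≃ₗ[R] N) (h : HasCentre f N) : HasCentre f M := by
  obtain ⟨I, hI, hflat⟩ := h
  exact ⟨I, hI, fun T _ _ hT => Good.congr e (hT.nonZeroDivisors hI.le_radical) (hflat T hT)⟩

/-- Kernels by torsion stay torsion after base change. -/
theorem exists_pow_smul_of_baseChange (T : Type u) [CommRing T] [Algebra R T] (π : M →ₗ[R] N)
    (hsurj : Function.Surjective π) (hker : ∀ m, π m = 0 → ∃ n : ℕ, f ^ n • m = 0) {z : T ⊗[R] M}
    (hz : π.baseChange T z = 0) : ∃ n : ℕ, algebraMap R T f ^ n • z = 0 := by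
  obtain ⟨w, rfl⟩ := (lTensor_exact T (LinearMap.exact_subtype_ker_map π) hsurj z).1
    (by rw [← hz, LinearMap.baseChange_eq_ltensor])
  clear hz
  induction w using TensorProduct.induction_on with
  | zero => exact ⟨0, by simp⟩
  | tmul t m =>
    obtain ⟨n, hn⟩ := hker m.1 (LinearMap.mem_ker.1 m.2)
    refine ⟨n, ?_⟩
    rw [LinearMap.lTensor_tmul, ← map_pow, algebraMap_smul, ← TensorProduct.tmul_smul, Submodule.subtype_apply, hn,
      TensorProduct.tmul_zero]
  | add a b ha hb =>
    obtain ⟨n, hn⟩ := ha
    obtain ⟨k, hk⟩ := hb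
    exact ⟨n + k, by rw [map_add, smul_add, pow_add, mul_smul, mul_smul, hk, smul_zero, add_zero, smul_comm, hn, smul_zero]⟩

theorem surjective_baseChange (T : Type u) [CommRing T] [Algebra R T] (π : M →ₗ[R] N) (hsurj : Function.Surjective π) :
    Function.Surjective (π.baseChange T) := by
  rw [LinearMap.baseChange_eq_ltensor]
  exact LinearMap.lTensor_surjective T hsurj

/-- A centre for the quotient by torsion serves for the module. -/
theorem HasCentre.of_torsion_ker (π : M →ₗ[R] N) (hsurj : Function.Surjective π)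
    (hker : ∀ m, π m = 0 → ∃ n : ℕ, f ^ n • m = 0) (h : HasCentre f N) : HasCentre f M := by
  obtain ⟨I, hI, hflat⟩ := h
  exact ⟨I, hI, fun T _ _ hT => GoodM.of_torsion_ker (hT.nonZeroDivisors hI.le_radical) (π.baseChange T)
    (surjective_baseChange T π hsurj) (fun m hm => exists_pow_smul_of_baseChange T π hsurj hker hm) (hflat T hT)⟩

/-- A centre for the module serves for quotients by torsion. -/
theorem HasCentre.to_torsion_ker (π : M →ₗ[R] N) (hsurj : Function.Surjective π)
    (hker : ∀ m, π m = 0 → ∃ n : ℕ, f ^ n • m = 0) (h : HasCentre f M) : HasCentre f N := by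
  obtain ⟨I, hI, hflat⟩ := h
  exact ⟨I, hI, fun T _ _ hT => GoodM.to_torsion_ker (hT.nonZeroDivisors hI.le_radical) (π.baseChange T)
    (surjective_baseChange T π hsurj) (fun m hm => exists_pow_smul_of_baseChange T π hsurj hker hm) (hflat T hT)⟩

/-- Torsion modules need no blow-up. -/
theorem hasCentre_of_torsion (h : ∀ m : M, ∃ n : ℕ, f ^ n • m = 0) : HasCentre f M := by
  have h0 : HasCentre f (M ⧸ (⊤ : Submodule R M)) := ⟨Ideal.span {f}, isCentre_span, fun T _ _ hT => by
    haveI : Subsingleton (T ⊗[R] (M ⧸ (⊤ : Submodule R M))) := inferInstance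
    exact goodM_of_flat (hT.nonZeroDivisors isCentre_span.le_radical)⟩
  exact HasCentre.of_torsion_ker (Submodule.mkQ _) (Submodule.mkQ_surjective _) (fun m _ => h m) h0

/-- Where an element killing the module lives there is nothing to do. -/
theorem LocCentre.of_smul_eq_zero {S : Type u} [CommRing S] [Algebra R S] [Module S N] [IsScalarTower R S N]
    (q : Ideal S) [q.IsPrime] {h : S} (hq : h ∉ q) (hN : ∀ n : N, h • n = 0) : LocCentre f S N q := by
  let C := Localization.Away h
  refine ⟨h, hq, C, inferInstance, inferInstance, IsLocalization.flat _ (Submonoid.powers h),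
    fun Q hQ hhQ => maximal_map_away_ne_top hQ hhQ, Ideal.span {f}, isCentre_span, fun T _ _ hT => ?_⟩
  have h0 : ∀ z : N ⊗[S] C, z = 0 := fun z => by
    induction z using TensorProduct.induction_on with
    | zero => rfl
    | tmul n c =>
      obtain ⟨c', rfl⟩ : ∃ c', h • c' = c := by
        obtain ⟨v, hv⟩ := (IsLocalization.Away.algebraMap_isUnit (S := C) h).exists_right_inv
        exact ⟨v * c, by rw [Algebra.smul_def, ← mul_assoc, hv, one_mul]⟩
      rw [← TensorProduct.smul_tmul, hN, TensorProduct.zero_tmul]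
    | add a b ha hb => rw [ha, hb, add_zero]
  haveI : Subsingleton (N ⊗[S] C) := ⟨fun a b => (h0 a).trans (h0 b).symm⟩
  haveI : Subsingleton (T ⊗[R] (N ⊗[S] C)) := inferInstance
  exact goodM_of_flat (hT.nonZeroDivisors isCentre_span.le_radical)

attribute [local instance] Algebra.TensorProduct.rightAlgebra

/-- Centres may be found locally on the base. -/
theorem hasCentre_of_base_cover (hf : f ∈ R⁰) (S : Type u) [CommRing S] [Algebra R S] [Module S N] [IsScalarTower R S N]
    (h : ∀ p : Ideal R, p.IsPrime → ∃ b ∉ p,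
      HasCentre (algebraMap R (Localization.Away b) f) (Localization.Away b ⊗[R] N)) : HasCentre f N := by
  refine hasCentre_of_local (S := S) fun q hq => ?_
  haveI := hq.isPrime
  obtain ⟨b, hb, hc⟩ := h (q.comap (algebraMap R S)) inferInstance
  let R' := Localization.Away b
  let S' := Localization.Away (algebraMap R S b)
  letI : Algebra R' S' := (IsLocalization.Away.lift b (g := algebraMap R S')
    (by rw [IsScalarTower.algebraMap_apply R S S']; exact IsLocalization.Away.algebraMap_isUnit _)).toAlgebra
  haveI : IsScalarTower R R' S' :=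
    IsScalarTower.of_algebraMap_eq fun x => (IsLocalization.Away.lift_eq b _ x).symm
  haveI : IsLocalization (Algebra.algebraMapSubmonoid S (Submonoid.powers b)) S' := by
    rw [show Algebra.algebraMapSubmonoid S (Submonoid.powers b) = Submonoid.powers (algebraMap R S b) from
      Submonoid.map_powers _ b]
    infer_instance
  haveI : Algebra.IsPushout R S R' S' := Algebra.isPushout_of_isLocalization (Submonoid.powers b) R' S S'
  haveI : Algebra.IsPushout R R' S S' := Algebra.IsPushout.symm inferInstance
  haveI : Algebra.Etale R R' := Algebra.Etale.of_isLocalizationAway b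
  haveI : Algebra.Etale S S' := Algebra.Etale.of_isLocalizationAway (algebraMap R S b)
  haveI : SMulCommClass S R' S' := ⟨fun s r x => by simp only [Algebra.smul_def]; ring⟩
  have hq' : (q.map (algebraMap S S')).IsPrime := IsLocalization.isPrime_of_isPrime_disjoint
    (Submonoid.powers (algebraMap R S b)) S' q hq.isPrime (Set.disjoint_left.2 fun y ⟨k, (hk : _ ^ k = y)⟩ hmem =>
      hb (hq.isPrime.mem_of_pow_mem k (hk.symm ▸ hmem)))
  haveI : (q.map (algebraMap S S')).LiesOver q := ⟨(IsLocalization.comap_map_of_isPrime_disjoint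
    (Submonoid.powers (algebraMap R S b)) S' hq.isPrime (Set.disjoint_left.2 fun y ⟨k, (hk : _ ^ k = y)⟩ hmem =>
      hb (hq.isPrime.mem_of_pow_mem k (hk.symm ▸ hmem)))).symm⟩
  exact LocCentre.of_etale hf q (q.map (algebraMap S S'))
    (HasCentre.congr (Algebra.IsPushout.cancelBaseChange R R' S S' N) hc)

end Groth.L20.BlowFlat
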