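import Groth.Agent.L20.BlowFlat.Inv

/-!
# Centres flattening a module

`Flattens f N I`: over every algebra making `I` invertible the module `N` becomes flat modulo torsion.
-/

set_option autoImplicit false
set_option linter.style.haveILetI false
universe u

open TensorProduct nonZeroDivisors

namespace Groth.L20.BlowFlat

variable {R : Type u} [CommRing R] {f : R} {N : Type u} [AddCommGroup N] [Module R N] {I J : Ideal R}

/-- The base change of `N` to `T` is flat modulo torsion. -/
def Good (f : R) (N : Type u) [AddCommGroup N] [Module R N] (T : Type u) [CommRing T] [Algebra R T] : Prop :=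
  GoodM T (algebraMap R T f) (T ⊗[R] N)

/-- An ideal of finite type with the support of `f`. -/
structure IsCentre (f : R) (I : Ideal R) : Prop where
  fg : I.FG
  rad : I.radical = (Ideal.span {f}).radical

/-- Every algebra making `I` invertible is good. -/
def Flattens (f : R) (N : Type u) [AddCommGroup N] [Module R N] (I : Ideal R) : Prop :=
  ∀ (T : Type u) [CommRing T] [Algebra R T], Inv I T → Good f N T

/-- Some centre flattens `N`. -/
def HasCentre (f : R) (N : Type u) [AddCommGroup N] [Module R N] : Prop :=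
  ∃ I, IsCentre f I ∧ Flattens f N I

theorem IsCentre.le_radical (h : IsCentre f I) : I ≤ (Ideal.span {f}).radical := h.rad ▸ Ideal.le_radical

theorem IsCentre.mem_radical (h : IsCentre f I) : f ∈ I.radical :=
  h.rad ▸ Ideal.le_radical (Ideal.mem_span_singleton_self f)

theorem isCentre_span : IsCentre f (Ideal.span {f}) := ⟨Submodule.fg_span_singleton f, rfl⟩

theorem IsCentre.mul (hI : IsCentre f I) (hJ : IsCentre f J) : IsCentre f (I * J) :=
  ⟨hI.fg.mul hJ.fg, by rw [Ideal.radical_mul, hI.rad, hJ.rad, inf_idem]⟩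

theorem IsCentre.prod {ι : Type*} (F : Finset ι) {K : ι → Ideal R} (hK : ∀ i ∈ F, IsCentre f (K i)) :
    IsCentre f (Ideal.span {f} * ∏ i ∈ F, K i) := by
  classical
  induction F using Finset.induction_on with
  | empty => simpa using isCentre_span
  | insert i F hi ih =>
    rw [Finset.prod_insert hi, mul_left_comm]
    exact (hK i (Finset.mem_insert_self i F)).mul (ih fun j hj => hK j (Finset.mem_insert_of_mem hj))

/-- Finitely many centre conditions are met at once. -/
theorem exists_centre_forall {ι : Type*} [Finite ι] (K : ι → Ideal R) (hK : ∀ i, IsCentre f (K i)) :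
    ∃ I, IsCentre f I ∧ ∀ (T : Type u) [CommRing T] [Algebra R T], Inv I T → ∀ i, Inv (K i) T := by
  classical
  haveI := Fintype.ofFinite ι
  exact ⟨_, IsCentre.prod Finset.univ fun i _ => hK i, fun T _ _ h i => h.mul_right.of_finset_prod (Finset.mem_univ i)⟩

section Good

variable {T : Type u} [CommRing T] [Algebra R T]

theorem Good.trans {T' : Type u} [CommRing T'] [Algebra R T'] [Algebra T T'] [IsScalarTower R T T']
    (hf : algebraMap R T' f ∈ T'⁰) (h : Good f N T) : Good f N T' := by
  have h1 := GoodM.baseChange T' (by rwa [← IsScalarTower.algebraMap_apply]) h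
  rw [← IsScalarTower.algebraMap_apply] at h1
  exact GoodM.of_equiv hf (AlgebraTensorModule.cancelBaseChange R T T' T' N).symm h1

theorem Good.of_flat_cover
    (h : ∀ m : Ideal T, m.IsMaximal → ∃ (T' : Type u) (_ : CommRing T') (_ : Algebra R T') (_ : Algebra T T'),
      IsScalarTower R T T' ∧ Module.Flat T T' ∧ m.map (algebraMap T T') ≠ ⊤ ∧ algebraMap R T' f ∈ T'⁰ ∧ Good f N T') :
    Good f N T := by
  refine GoodM.of_flat_cover fun m hm => ?_
  obtain ⟨T', _, _, _, _, hfl, hne, hf, hgood⟩ := h m hm
  refine ⟨T', inferInstance, inferInstance, hfl, hne, ?_⟩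
  rw [← IsScalarTower.algebraMap_apply]
  exact GoodM.of_equiv hf (AlgebraTensorModule.cancelBaseChange R T T' T' N) hgood

/-- Goodness does not depend on the intermediate base. -/
theorem good_iff_base {R' : Type u} [CommRing R'] [Algebra R R'] [Algebra R' T] [IsScalarTower R R' T]
    (hf : algebraMap R T f ∈ T⁰) : Good (algebraMap R R' f) (R' ⊗[R] N) T ↔ Good f N T := by
  have e := AlgebraTensorModule.cancelBaseChange R R' T T N
  unfold Good
  rw [← IsScalarTower.algebraMap_apply]
  exact ⟨GoodM.of_equiv hf e.symm, GoodM.of_equiv hf e⟩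

theorem Good.congr {N' : Type u} [AddCommGroup N'] [Module R N'] (e : N ≃ₗ[R] N') (hf : algebraMap R T f ∈ T⁰)
    (h : Good f N' T) : Good f N T :=
  GoodM.of_equiv hf (AlgebraTensorModule.congr (LinearEquiv.refl T T) e) h

end Good

theorem maximal_map_away_ne_top {T : Type u} [CommRing T] {m : Ideal T} (hm : m.IsPrime) {h : T} (hh : h ∉ m) :
    m.map (algebraMap T (Localization.Away h)) ≠ ⊤ :=
  (IsLocalization.isPrime_of_isPrime_disjoint (Submonoid.powers h) _ m hm
    (Set.disjoint_left.2 fun y ⟨k, (hk : h ^ k = y)⟩ hmem => hh (hm.mem_of_pow_mem k (hk.symm ▸ hmem)))).ne_top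

/-- Flattening may be checked where `I` is generated by one of its elements. -/
theorem flattens_of_principal (hI : I ≤ (Ideal.span {f}).radical)
    (h : ∀ (T : Type u) [CommRing T] [Algebra R T], ∀ a ∈ I, algebraMap R T a ∈ T⁰ →
      I.map (algebraMap R T) = Ideal.span {algebraMap R T a} → Good f N T) : Flattens f N I := by
  intro T _ _ hT
  refine Good.of_flat_cover fun m hm => ?_
  obtain ⟨s, hs, a, ha, hreg, hgen⟩ := hT m hm
  exact ⟨Localization.Away s, inferInstance, inferInstance, inferInstance, inferInstance,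
    IsLocalization.flat _ (Submonoid.powers s), maximal_map_away_ne_top hm.isPrime hs,
    nonZeroDivisors_of_mem_radical (hI ha) hreg, h _ a ha hreg hgen⟩

/-- An invertible ideal is locally generated by one of given generators. -/
theorem exists_local_generator {T : Type u} [CommRing T] [Algebra R T] {G : Finset R}
    (hG : Ideal.span (G : Set R) = I) (h : Inv I T) (m : Ideal T) (hm : m.IsMaximal) :
    ∃ s ∉ m, ∃ g ∈ G, algebraMap R (Localization.Away s) g ∈ (Localization.Away s)⁰ ∧
      I.map (algebraMap R (Localization.Away s)) = Ideal.span {algebraMap R (Localization.Away s) g} := by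
  obtain ⟨s, hs, a, ha, hreg, hI⟩ := h m hm
  let A := Localization.Away s
  let φ := algebraMap R A
  have hz : ∀ g ∈ G, ∃ z, φ g = z * φ a := fun g hg =>
    (Ideal.mem_span_singleton'.1 (hI ▸ Ideal.mem_map_of_mem φ (hG ▸ Ideal.subset_span hg) : φ g ∈ Ideal.span {φ a})).imp
      fun z hz => hz.symm
  choose z hz using hz
  have hone : (1 : A) ∈ Ideal.span (Set.range fun g : G => z g.1 g.2) := by
    suffices ∀ x ∈ I, ∃ w ∈ Ideal.span (Set.range fun g : G => z g.1 g.2), φ x = w * φ a by
      obtain ⟨w, hw, e⟩ := this a ha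
      rwa [show w = 1 from (mul_cancel_right_mem_nonZeroDivisors hreg).1 (by rw [← e, one_mul])] at hw
    intro x hx
    rw [← hG] at hx
    induction hx using Submodule.span_induction with
    | mem g hg => exact ⟨_, Ideal.subset_span ⟨⟨g, hg⟩, rfl⟩, hz g hg⟩
    | zero => exact ⟨0, zero_mem _, by rw [map_zero, zero_mul]⟩
    | add x y _ _ hx hy =>
      obtain ⟨w, hw, e⟩ := hx
      obtain ⟨w', hw', e'⟩ := hy
      exact ⟨w + w', add_mem hw hw', by rw [map_add, e, e', add_mul]⟩
    | smul c x _ hx =>
      obtain ⟨w, hw, e⟩ := hx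
      exact ⟨φ c * w, Ideal.mul_mem_left _ _ hw, by rw [smul_eq_mul, map_mul, e, mul_assoc]⟩
  have hmA : (m.map (algebraMap T A)).IsPrime := IsLocalization.isPrime_of_isPrime_disjoint (Submonoid.powers s) A m
    hm.isPrime (Set.disjoint_left.2 fun y ⟨k, (hk : s ^ k = y)⟩ hmem => hs (hm.isPrime.mem_of_pow_mem k (hk.symm ▸ hmem)))
  obtain ⟨g, hg⟩ : ∃ g : G, z g.1 g.2 ∉ m.map (algebraMap T A) := by
    by_contra hne
    push Not at hne
    exact hmA.ne_top ((Ideal.eq_top_iff_one _).2 (Ideal.span_le.2 (Set.range_subset_iff.2 hne) hone))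
  obtain ⟨z₀, ⟨_, k, rfl⟩, hzeq⟩ := IsLocalization.exists_mk'_eq (Submonoid.powers s) (z g.1 g.2)
  rw [← hzeq] at hg
  have hz₀ : z₀ ∉ m := fun hm' => hg ((IsLocalization.mk'_mem_iff).2 (Ideal.mem_map_of_mem _ hm'))
  obtain ⟨ψ, hψ⟩ := exists_awayMap (A := T) (B := T) s (s' := s * z₀) (dvd_mul_right _ _)
  have hψR : ∀ r, ψ (φ r) = algebraMap R (Localization.Away (s * z₀)) r := fun r => by
    simp only [φ]
    rw [IsScalarTower.algebraMap_apply R T A, hψ, ← IsScalarTower.algebraMap_apply T T, ← IsScalarTower.algebraMap_apply]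
  have hunit : IsUnit (ψ (z g.1 g.2)) := by
    have hsu : IsUnit (ψ (algebraMap T A z₀)) := by
      rw [hψ]
      exact isUnit_of_dvd_unit (map_dvd _ (dvd_mul_left z₀ s)) (IsLocalization.Away.algebraMap_isUnit (s * z₀))
    rw [← IsLocalization.mk'_spec A z₀ (⟨_, k, rfl⟩ : Submonoid.powers s), map_mul, hzeq] at hsu
    exact (IsUnit.mul_iff.1 hsu).1
  have e : algebraMap R (Localization.Away (s * z₀)) g.1 = ψ (z g.1 g.2) * algebraMap R _ a := by
    rw [← hψR, hz g.1 g.2, map_mul, hψR]
  refine ⟨s * z₀, fun h' => (hm.isPrime.mem_or_mem h').elim hs hz₀, g.1, g.2, ?_, ?_⟩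
  · rw [e]
    exact mul_mem hunit.mem_nonZeroDivisors (hψR a ▸ nzd_awayMap s _ ψ hψ hreg)
  · rw [show algebraMap R (Localization.Away (s * z₀)) = ψ.comp φ from RingHom.ext fun r => (hψR r).symm,
      ← Ideal.map_map, hI, Ideal.map_span, Set.image_singleton, RingHom.comp_apply]
    rw [hz g.1 g.2, map_mul, Ideal.span_singleton_mul_left_unit hunit]

section Chart

variable {a : R}

/-- An algebra in which `a` is a nonzerodivisor generating `I` receives the affine blow-up algebra. -/
theorem exists_chartHom {T : Type u} [CommRing T] [Algebra R T] (hreg : algebraMap R T a ∈ T⁰)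
    (hI : I.map (algebraMap R T) = Ideal.span {algebraMap R T a}) :
    Nonempty (BlowUp.affineAlgebra R I a →ₐ[R] T) := by
  let Ta := Localization.Away (algebraMap R T a)
  have hinj : Function.Injective (IsScalarTower.toAlgHom R T Ta) :=
    IsLocalization.injective Ta (Submonoid.powers_le.2 hreg)
  have hu : IsUnit (algebraMap R Ta a) := by
    rw [IsScalarTower.algebraMap_apply R T Ta]; exact IsLocalization.Away.algebraMap_isUnit _
  let χ : Localization.Away a →ₐ[R] Ta :=
    { IsLocalization.Away.lift a hu with commutes' := fun r => IsLocalization.Away.lift_eq a hu r }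
  have hle : BlowUp.affineAlgebra R I a ≤ (IsScalarTower.toAlgHom R T Ta).range.comap χ := by
    refine Algebra.adjoin_le ?_
    rintro _ ⟨x, hx, rfl⟩
    obtain ⟨t, ht⟩ := Ideal.mem_span_singleton'.1 (hI ▸ Ideal.mem_map_of_mem _ hx)
    refine ⟨t, ?_⟩
    refine hu.mul_left_injective ?_
    show algebraMap T Ta t * algebraMap R Ta a = χ _ * algebraMap R Ta a
    rw [← χ.commutes, ← map_mul, IsLocalization.mk'_spec, χ.commutes, χ.commutes,
      IsScalarTower.algebraMap_apply R T Ta a, ← map_mul, ht, ← IsScalarTower.algebraMap_apply]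
  exact ⟨(AlgEquiv.ofInjective _ hinj).symm.toAlgHom.comp
    ((χ.comp (BlowUp.affineAlgebra R I a).val).codRestrict _ fun x => hle x.2)⟩

theorem chart_eq_span (ha : a ∈ I) :
    I.map (algebraMap R (BlowUp.affineAlgebra R I a)) = Ideal.span {algebraMap R (BlowUp.affineAlgebra R I a) a} :=
  le_antisymm (Ideal.map_le_iff_le_comap.2 fun _ hx => Groth.L13.Fitting.chart_mem AlgEquiv.refl hx)
    ((Ideal.span_singleton_le_iff_mem _).2 (Ideal.mem_map_of_mem _ ha))

theorem chart_inv (ha : a ∈ I) : Inv I (BlowUp.affineAlgebra R I a) :=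
  inv_of_span ha (Groth.L13.Fitting.chart_nzd AlgEquiv.refl) (chart_eq_span ha)

/-- Elements of a chart become elements of `R` after multiplying with a power of `a`. -/
theorem exists_pow_mul_eq (x : BlowUp.affineAlgebra R I a) :
    ∃ (n : ℕ) (r : R), algebraMap R _ a ^ n * x = algebraMap R _ r := by
  obtain ⟨n, r, h⟩ := IsLocalization.Away.surj a (x : Localization.Away a)
  refine ⟨n, r, Subtype.ext ?_⟩
  push_cast
  rw [mul_comm]
  exact h

end Chart

/-- **Composite of centres.** -/
theorem hasCentre_of_charts (hI : IsCentre f I)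
    (h : ∀ a ∈ I, HasCentre (algebraMap R (BlowUp.affineAlgebra R I a) f) (BlowUp.affineAlgebra R I a ⊗[R] N)) :
    HasCentre f N := by
  classical
  obtain ⟨G, hG⟩ := hI.fg
  replace hG : Ideal.span (G : Set R) = I := hG
  have key : ∀ a : G, ∃ L, IsCentre f L ∧ ∀ (T : Type u) [CommRing T] [Algebra R T]
      [Algebra (BlowUp.affineAlgebra R I a.1) T] [IsScalarTower R (BlowUp.affineAlgebra R I a.1) T],
      Inv L T → Good f N T := by
    intro a
    have ha : a.1 ∈ I := hG ▸ Ideal.subset_span a.2
    let C := BlowUp.affineAlgebra R I a.1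
    obtain ⟨J, hJ, hflat⟩ := h a.1 ha
    obtain ⟨H, hH⟩ := hJ.fg
    replace hH : Ideal.span (H : Set C) = J := hH
    choose n r hr using fun x : C => exists_pow_mul_eq x
    let M := H.sup n
    obtain ⟨N₁, hN₁⟩ := hI.mem_radical
    obtain ⟨N₂, hN₂⟩ := hJ.mem_radical
    obtain ⟨c, hc⟩ := Ideal.mem_span_singleton'.1
      (chart_eq_span ha ▸ Ideal.mem_map_of_mem (algebraMap R C) hN₁ :
        algebraMap R C (f ^ N₁) ∈ Ideal.span {algebraMap R C a.1})
    let L : Ideal R := Ideal.span ((H.image fun x => a.1 ^ (M - n x) * r x : Finset R) : Set R) ⊔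
      Ideal.span {f ^ (N₁ * M + N₂)}
    have hmem : ∀ x ∈ H, algebraMap R C (a.1 ^ (M - n x) * r x) = algebraMap R C a.1 ^ M * x := fun x hx => by
      rw [map_mul, map_pow, ← hr, ← mul_assoc, ← pow_add, Nat.sub_add_cancel (Finset.le_sup hx)]
    have hL : L.map (algebraMap R C) = Ideal.span {algebraMap R C a.1 ^ M} * J := by
      refine le_antisymm (Ideal.map_le_iff_le_comap.2 (sup_le (Ideal.span_le.2 ?_) ?_)) ?_
      · intro y hy
        obtain ⟨x, hx, rfl⟩ := Finset.mem_image.1 (Finset.mem_coe.1 hy)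
        rw [SetLike.mem_coe, Ideal.mem_comap, hmem x hx]
        exact Ideal.mul_mem_mul (Ideal.mem_span_singleton_self _) (hH ▸ Ideal.subset_span hx)
      · rw [Ideal.span_singleton_le_iff_mem, Ideal.mem_comap, pow_add, map_mul, pow_mul, map_pow _ (f ^ N₁), ← hc,
          mul_pow, mul_comm (c ^ M), mul_assoc, map_pow]
        exact Ideal.mul_mem_mul (Ideal.mem_span_singleton_self _) (J.mul_mem_left _ hN₂)
      · rw [← hH, Ideal.span_mul_span', Ideal.span_le]
        rintro _ ⟨_, rfl, x, hx, rfl⟩
        show algebraMap R C a.1 ^ M * x ∈ _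
        rw [← hmem x hx]
        exact Ideal.mem_map_of_mem _ (Submodule.mem_sup_left (Ideal.subset_span (Finset.mem_image_of_mem _ hx)))
    refine ⟨Ideal.span {f} * L, ⟨(Submodule.fg_span_singleton f).mul
      ((Submodule.fg_span (Finset.finite_toSet _)).sup (Submodule.fg_span_singleton _)), ?_⟩, fun T _ _ _ _ hT => ?_⟩
    · rw [Ideal.radical_mul, inf_eq_left]
      refine Ideal.radical_le_radical_iff.2 ((Ideal.span_singleton_le_iff_mem _).2 ⟨N₁ * M + N₂, ?_⟩)
      exact Submodule.mem_sup_right (Ideal.mem_span_singleton_self _)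
    · have hf : algebraMap R T f ∈ T⁰ := hT.nonZeroDivisors (Ideal.mul_le_left.trans Ideal.le_radical)
      have h1 := (hT.map_base (R' := C))
      rw [Ideal.map_mul, hL] at h1
      exact (good_iff_base hf).1 (hflat T h1.mul_right.mul_right)
  choose L hLc hL using key
  obtain ⟨K, hK, hKinv⟩ := exists_centre_forall (fun o : Option G => o.elim I L)
    (by rintro (_ | a); exacts [hI, hLc a])
  refine ⟨K, hK, fun T _ _ hT => ?_⟩
  refine Good.of_flat_cover fun m hm => ?_
  obtain ⟨s, hs, g, hg, hreg, hgen⟩ := exists_local_generator hG (hKinv T hT none) m hm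
  haveI : Module.Flat T (Localization.Away s) := IsLocalization.flat _ (Submonoid.powers s)
  obtain ⟨χ⟩ := exists_chartHom hreg hgen
  letI := χ.toRingHom.toAlgebra
  haveI : IsScalarTower R (BlowUp.affineAlgebra R I g) (Localization.Away s) :=
    IsScalarTower.of_algebraMap_eq fun r => (χ.commutes r).symm
  exact ⟨Localization.Away s, inferInstance, inferInstance, inferInstance, inferInstance, inferInstance,
    maximal_map_away_ne_top hm.isPrime hs, nonZeroDivisors_of_mem_radical (hI.le_radical (hG ▸ Ideal.subset_span hg)) hreg,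
    hL ⟨g, hg⟩ _ (hKinv T hT (some ⟨g, hg⟩)).map⟩

end Groth.L20.BlowFlat
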