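import Groth.Agent.L20.BlowFlat.Global
import Groth.Agent.L20.ModFlat
import Groth.Agent.L20.FibreFT

/-!
# Flattening by an admissible blow-up, chart by chart
-/

set_option autoImplicit false
set_option linter.style.haveILetI false
set_option backward.isDefEq.respectTransparency.types false
set_option backward.isDefEq.respectTransparency false

universe u

open CategoryTheory CategoryTheory.Limits AlgebraicGeometry TopologicalSpace Opposite
open scoped nonZeroDivisors TensorProduct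

noncomputable section

namespace Groth.L20.BlowFlat

open Groth.L18.Frame (rs ro rs_rs ro_ro rs_smul rs_self ro_self)

variable {X S X' S' : Scheme.{u}}

/-- Finite presentation away from an element, from the sections on the basic open. -/
theorem fp_away_of_sections (M : X.Modules) [Coh.IsQCoh M] {V : X.Opens} (hV : IsAffineOpen V) (g : Γ(X, V))
    (h : Module.FinitePresentation Γ(X, X.basicOpen g) Γ(M, X.basicOpen g)) :
    Module.FinitePresentation (Localization.Away g) (LocalizedModule (Submonoid.powers g) Γ(M, V)) := by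
  letI := Module.compHom Γ(M, X.basicOpen g) (X.presheaf.map (homOfLE (X.basicOpen_le g)).op).hom
  letI : Algebra Γ(X, V) Γ(X, X.basicOpen g) := (X.presheaf.map (homOfLE (X.basicOpen_le g)).op).hom.toAlgebra
  haveI : IsScalarTower Γ(X, V) Γ(X, X.basicOpen g) Γ(M, X.basicOpen g) :=
    IsScalarTower.of_algebraMap_smul fun _ _ => rfl
  haveI : IsLocalization.Away g Γ(X, X.basicOpen g) := hV.isLocalization_basicOpen g
  let ε := IsLocalization.algEquiv (Submonoid.powers g) Γ(X, X.basicOpen g) (Localization.Away g)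
  letI : Algebra Γ(X, X.basicOpen g) (Localization.Away g) := ε.toAlgHom.toRingHom.toAlgebra
  haveI : IsScalarTower Γ(X, V) Γ(X, X.basicOpen g) (Localization.Away g) :=
    IsScalarTower.of_algebraMap_eq fun a => (ε.commutes a).symm
  haveI := Groth.L20.ModStalk.isLocalizedModule_res M hV g
  haveI := h
  refine (Groth.L20.RG.fpLoc_iff (Submonoid.powers g)).2
    ((Groth.L20.RG.fp_baseChange_iff _
      (IsLocalizedModule.isBaseChange (Submonoid.powers g) Γ(X, X.basicOpen g)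
        ({ toFun := fun s => rs M (X.basicOpen_le g) s
           map_add' := fun a b => map_add _ a b
           map_smul' := fun a s => rs_smul M (X.basicOpen_le g) a s } : Γ(M, V) →ₗ[Γ(X, V)] Γ(M, X.basicOpen g)))
      (Localization.Away g)).2 ?_)
  infer_instance

/-- Quotients by torsion along an isomorphism. -/
theorem nonempty_quot_torsion_equiv {A M N : Type u} [CommRing A] [AddCommGroup M] [Module A M] [AddCommGroup N]
    [Module A N] (e : M ≃ₗ[A] N) (t : A) :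
    Nonempty ((M ⧸ FlatCA.powTorsion A t M) ≃ₗ[A] (N ⧸ FlatCA.powTorsion A t N)) := by
  refine ⟨Submodule.Quotient.equiv _ _ e ?_⟩
  ext m
  rw [Submodule.map_equiv_eq_comap_symm, Submodule.mem_comap, Groth.L13.Fitting.mem_powTorsion_iff,
    Groth.L13.Fitting.mem_powTorsion_iff]
  refine exists_congr fun n => ?_
  rw [LinearEquiv.coe_coe, ← map_smul, LinearEquiv.map_eq_zero_iff]

/-- A cartesian square over affine opens gives a pushout of sections. -/
theorem isPushout_chart {f : X ⟶ S} {b : S' ⟶ S} {p₁ : X' ⟶ X} {p₂ : X' ⟶ S'} (hc : IsPullback p₁ p₂ f b)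
    {W : S.Opens} (hW : IsAffineOpen W) {V : X.Opens} (hV : IsAffineOpen V) {W' : S'.Opens} (hW' : IsAffineOpen W')
    (eV : V ≤ f ⁻¹ᵁ W) (eW : W' ≤ b ⁻¹ᵁ W) :
    IsAffineOpen (p₁ ⁻¹ᵁ V ⊓ p₂ ⁻¹ᵁ W') ∧
      IsPushout (f.appLE W V eV) (b.appLE W W' eW) (p₁.appLE V (p₁ ⁻¹ᵁ V ⊓ p₂ ⁻¹ᵁ W') inf_le_left)
        (p₂.appLE W' (p₁ ⁻¹ᵁ V ⊓ p₂ ⁻¹ᵁ W') inf_le_right) := by
  have hpb := Scheme.Hom.isPullback_resLE hc (UT := W') eW eV (UY := p₁ ⁻¹ᵁ V ⊓ p₂ ⁻¹ᵁ W') rfl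
  haveI : IsAffine W.toScheme := hW
  haveI : IsAffine V.toScheme := hV
  haveI : IsAffine W'.toScheme := hW'
  refine ⟨IsAffine.of_isPullback hpb, ?_⟩
  refine (isPushout_appTop_of_isPullback hpb).of_iso W.topIso V.topIso W'.topIso
    (p₁ ⁻¹ᵁ V ⊓ p₂ ⁻¹ᵁ W').topIso ?_ ?_ ?_ ?_ <;>
  simp only [Scheme.Hom.appTop, Scheme.Hom.resLE_app_top, Category.assoc, Iso.inv_hom_id, Category.comp_id]

/-- A chart of the pull-back to the blow-up. -/
theorem exists_chart_pullback {f : X ⟶ S} {b : S' ⟶ S} {p₁ : X' ⟶ X} {p₂ : X' ⟶ S'} (hc : IsPullback p₁ p₂ f b)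
    (K : S.IdealSheafData) (hK : BlowUp.IsEffCartierIdeal (K.comap b))
    {W : S.Opens} (hW : IsAffineOpen W) {V : X.Opens} (hV : IsAffineOpen V) (eV : V ≤ f ⁻¹ᵁ W) {x' : X'} (hx : p₁ x' ∈ V) :
    ∃ (W' : S'.Opens) (U' : X'.Opens) (eW : W' ≤ b ⁻¹ᵁ W) (eU : U' ≤ p₁ ⁻¹ᵁ V) (eU' : U' ≤ p₂ ⁻¹ᵁ W'),
      IsAffineOpen W' ∧ x' ∈ U' ∧
      IsPushout (f.appLE W V eV) (b.appLE W W' eW) (p₁.appLE V U' eU) (p₂.appLE W' U' eU') ∧
      ∃ (hU' : IsAffineOpen U') (t : Γ(S', W')), t ∈ Γ(S', W')⁰ ∧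
        (K.ideal ⟨W, hW⟩).map (b.appLE W W' eW).hom = Ideal.span {t} ∧
        (BlowUp.exceptional p₁ (K.comap f)).ideal ⟨U', hU'⟩ = Ideal.span {p₂.appLE W' U' eU' t} := by
  have hxW : p₂ x' ∈ b ⁻¹ᵁ W := by
    show b (p₂ x') ∈ W
    rw [← Scheme.Hom.comp_apply, ← hc.w, Scheme.Hom.comp_apply]
    exact eV hx
  obtain ⟨W₀, hxW₀, t₀, ht₀, hE₀⟩ := hK (p₂ x')
  obtain ⟨a, haW, hxa⟩ := W₀.2.exists_basicOpen_le (V := b ⁻¹ᵁ W) ⟨p₂ x', hxW⟩ hxW₀
  let W' : S'.affineOpens := S'.affineBasicOpen a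
  have eW : W'.1 ≤ b ⁻¹ᵁ W := haW
  obtain ⟨hU', hpo⟩ := isPushout_chart hc hW hV W'.2 eV eW
  let t : Γ(S', W'.1) := ro (S'.basicOpen_le a) t₀
  have ht : t ∈ Γ(S', W'.1)⁰ := by
    haveI := W₀.2.isLocalization_basicOpen a
    exact IsLocalization.map_nonZeroDivisors_le (Submonoid.powers a) Γ(S', S'.basicOpen a) ⟨t₀, ht₀, rfl⟩
  have hE : (K.comap b).ideal W' = Ideal.span {t} := Groth.L07.FittStrict.ideal_basicOpen_span W₀ t₀ a _ hE₀
  refine ⟨W'.1, p₁ ⁻¹ᵁ V ⊓ p₂ ⁻¹ᵁ W'.1, eW, inf_le_left, inf_le_right, W'.2, ⟨hx, hxa⟩, hpo, hU', t, ht, ?_, ?_⟩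
  · exact (Groth.L22.Ideals.comap_ideal b K ⟨W, hW⟩ W' eW).symm.trans hE
  · show ((K.comap f).comap p₁).ideal ⟨_, hU'⟩ = _
    rw [← Scheme.IdealSheafData.comap_comp, hc.w, Scheme.IdealSheafData.comap_comp,
      Groth.L22.Ideals.comap_ideal p₂ _ W' ⟨_, hU'⟩ inf_le_right, hE, Ideal.map_span, Set.image_singleton]

/-- A centre flattening the module over one pair of affine opens. -/
theorem exists_chart_centre [CompactSpace S] [QuasiSeparatedSpace S] (f : X ⟶ S) [LocallyOfFinitePresentation f]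
    (U : S.Opens) (hU : IsCompact (U : Set S)) (F : X.Modules) [Coh.IsQCoh F] (hft : CohB1.IsFT F)
    (hfpU : CohB1.IsFP ((Scheme.Modules.pullback (f ⁻¹ᵁ U).ι).obj F))
    (hflU : ∀ x : X, f.base x ∈ U → FlatMod.IsFlatOverAt f F x)
    {W : S.Opens} (hW : IsAffineOpen W) {V : X.Opens} (hV : IsAffineOpen V) (eV : V ≤ f ⁻¹ᵁ W) :
    letI : Algebra Γ(S, W) Γ(X, V) := (f.appLE W V eV).hom.toAlgebra
    letI := Module.compHom Γ(F, V) (f.appLE W V eV).hom
    haveI : IsScalarTower Γ(S, W) Γ(X, V) Γ(F, V) := IsScalarTower.of_algebraMap_smul fun _ _ => rfl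
    ∃ J : S.IdealSheafData, BlowUp.IsAdmissibleFor U J ∧ ∀ K : S.IdealSheafData, BlowUp.IsAdmissibleFor U K →
      (∃ L, K.ideal ⟨W, hW⟩ = J.ideal ⟨W, hW⟩ * L) →
      ∀ (T : Type u) [CommRing T] [Algebra Γ(S, W) T] (t : T), t ∈ T⁰ →
        (K.ideal ⟨W, hW⟩).map (algebraMap Γ(S, W) T) = Ideal.span {t} →
        ∀ (A : Type u) [CommRing A] [Algebra T A] [Algebra Γ(X, V) A] [Algebra Γ(S, W) A]
          [IsScalarTower Γ(S, W) T A] [IsScalarTower Γ(S, W) Γ(X, V) A] [Algebra.IsPushout Γ(S, W) T Γ(X, V) A],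
          Module.Flat T ((A ⊗[Γ(X, V)] Γ(F, V)) ⧸ FlatCA.powTorsion A (algebraMap T A t) (A ⊗[Γ(X, V)] Γ(F, V))) ∧
          Module.FinitePresentation A
            ((A ⊗[Γ(X, V)] Γ(F, V)) ⧸ FlatCA.powTorsion A (algebraMap T A t) (A ⊗[Γ(X, V)] Γ(F, V))) := by
  letI : Algebra Γ(S, W) Γ(X, V) := (f.appLE W V eV).hom.toAlgebra
  letI := Module.compHom Γ(F, V) (f.appLE W V eV).hom
  haveI : IsScalarTower Γ(S, W) Γ(X, V) Γ(F, V) := IsScalarTower.of_algebraMap_smul fun _ _ => rfl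
  haveI : Algebra.FinitePresentation Γ(S, W) Γ(X, V) := f.finitePresentation_appLE hW hV eV
  haveI : Module.Finite Γ(X, V) Γ(F, V) := Groth.L20.ModStalk.finite_sections F ⟨‹_›, hft⟩ hV
  obtain ⟨G, hG, hcov⟩ := exists_gens_inter U hU hW
  have hbas : ∀ a : Γ(S, W), X.basicOpen (algebraMap Γ(S, W) Γ(X, V) a) = V ⊓ f ⁻¹ᵁ S.basicOpen a :=
    fun a => Scheme.basicOpen_appLE f V W eV a
  have hfp : ∀ a ∈ G, Module.FinitePresentation (Localization.Away (algebraMap Γ(S, W) Γ(X, V) a))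
      (LocalizedModule (Submonoid.powers (algebraMap Γ(S, W) Γ(X, V) a)) Γ(F, V)) := fun a ha =>
    fp_away_of_sections F hV _ (fp_sections_of_restrict F (f ⁻¹ᵁ U) hfpU (hV.basicOpen _)
      ((hbas a).le.trans (inf_le_right.trans fun y hy => hG a ha hy)))
  have hflat : ∀ a ∈ G, FlatOff a Γ(F, V) := fun a ha J z hz => by
    have hloc : Module.Flat Γ(S, W)
        (LocalizedModule (Submonoid.powers (algebraMap Γ(S, W) Γ(X, V) a)) Γ(F, V)) := by
      rw [Groth.L20.RG.flat_away_iff]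
      intro Q hQ haQ
      let x : X := hV.fromSpec ⟨Q, hQ⟩
      have hxa : x ∈ X.basicOpen (algebraMap Γ(S, W) Γ(X, V) a) := by
        have : (⟨Q, hQ⟩ : PrimeSpectrum Γ(X, V)) ∈
            hV.fromSpec ⁻¹ᵁ X.basicOpen (algebraMap Γ(S, W) Γ(X, V) a) := by
          rw [hV.fromSpec_preimage_basicOpen]
          exact haQ
        exact this
      rw [hbas] at hxa
      have hq : hV.primeIdealOf ⟨x, hxa.1⟩ = ⟨Q, hQ⟩ :=
        hV.fromSpec.isOpenEmbedding.injective (hV.fromSpec_primeIdealOf ⟨x, hxa.1⟩)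
      have h1 := (Groth.L20.ModStalk.isFlatOverAt_iff f F hW hV eV hxa.1).1 (hflU x (hG a ha hxa.2))
      revert h1
      generalize hV.primeIdealOf ⟨x, hxa.1⟩ = q at hq
      subst hq
      exact fun h1 => h1
    obtain ⟨_, ⟨k, rfl⟩, hk⟩ := (Groth.L20.flat_localizedModule_iff_forall _).1 hloc J z hz
    exact ⟨k, by rw [← algebraMap_smul Γ(X, V) (a ^ k) z, map_pow]; exact hk⟩
  obtain ⟨I, hI, hrad, hgood⟩ := exists_ideal_good Γ(F, V) G hfp hflat
  obtain ⟨J, hJ, hJW⟩ := exists_extend U hU hW G hcov I hI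
    (fun a ha => hrad.symm ▸ Ideal.le_radical (Ideal.subset_span ha))
  refine ⟨J, hJ, fun K hK ⟨L, hL⟩ T _ _ t ht hKt A _ _ _ _ _ _ _ => ?_⟩
  rw [hJW] at hL
  have hradK : (I * L).radical = (Ideal.span (G : Set Γ(S, W))).radical := by
    refine le_antisymm ?_ ?_
    · rw [← hrad]
      exact Ideal.radical_mono Ideal.mul_le_left
    · rw [← hL]
      exact Ideal.radical_le_radical_iff.2 (gens_le_radical K hK.2 hW G hG)
  rw [hL] at hKt
  exact flat_fp_quotient Γ(F, V) G hfp hradK ht hKt (hgood L hradK T t ht hKt) A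

/-- Flattening by an admissible blow-up. -/
theorem exists_flattening [CompactSpace S] [QuasiSeparatedSpace S] [CompactSpace X] (f : X ⟶ S)
    [LocallyOfFinitePresentation f] (U : S.Opens) (hU : IsCompact (U : Set S))
    (F : X.Modules) (hqc : Coh.IsQCoh F) (hft : CohB1.IsFT F)
    (hfpU : CohB1.IsFP ((Scheme.Modules.pullback (f ⁻¹ᵁ U).ι).obj F))
    (hflU : ∀ x : X, f.base x ∈ U → FlatMod.IsFlatOverAt f F x) :
    ∃ (𝓘 : S.IdealSheafData) (S' : Scheme.{u}) (b : S' ⟶ S), BlowUp.IsBlowUp b 𝓘 ∧ BlowUp.IsAdmissibleFor U 𝓘 ∧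
      ∀ (X' : Scheme.{u}) (p₁ : X' ⟶ X) (p₂ : X' ⟶ S'), IsPullback p₁ p₂ f b →
      ∀ (G : X'.Modules) (π : (Scheme.Modules.pullback p₁).obj F ⟶ G),
        BlowUp.IsStrictTransform p₁ (𝓘.comap f) F G π → CohB1.IsFP G ∧ FlatMod.IsFlatOver p₂ G := by
  classical
  haveI := hqc
  have hch : ∀ x : X, ∃ (W : S.Opens) (V : X.Opens) (_ : V ≤ f ⁻¹ᵁ W), IsAffineOpen W ∧ IsAffineOpen V ∧ x ∈ V := by
    intro x
    obtain ⟨_, ⟨W, hW, rfl⟩, hxW, -⟩ :=
      S.isBasis_affineOpens.exists_subset_of_mem_open (Set.mem_univ (f x)) isOpen_univ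
    obtain ⟨_, ⟨V, hV, rfl⟩, hxV, hVW⟩ :=
      X.isBasis_affineOpens.exists_subset_of_mem_open (a := x) (show x ∈ f ⁻¹ᵁ W from hxW) (f ⁻¹ᵁ W).2
    exact ⟨W, V, hVW, hW, hV, hxV⟩
  choose W V eV hW hV hxV using hch
  obtain ⟨s, hs⟩ := isCompact_univ.elim_finite_subcover (fun x : X => (V x : Set X)) (fun x => (V x).2)
    (fun x _ => Set.mem_iUnion.2 ⟨x, hxV x⟩)
  let c : Fin s.card → X := fun i => (s.equivFin.symm i).1
  have hc : ∀ y : X, ∃ i, y ∈ V (c i) := fun y => by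
    obtain ⟨x, hx, hy⟩ := Set.mem_iUnion₂.1 (hs (Set.mem_univ y))
    exact ⟨s.equivFin ⟨x, hx⟩, by simpa [c] using hy⟩
  choose J hJ hgood using fun i => exists_chart_centre f U hU F hft hfpU hflU (hW (c i)) (hV (c i)) (eV (c i))
  obtain ⟨K, hK, hKJ⟩ := exists_prod U J hJ
  obtain ⟨S', b, hb⟩ := Groth.L13.BU.exists_isBlowUp K
  refine ⟨K, S', b, hb, hK, fun X' p₁ p₂ hsq G π hG => ?_⟩
  have hdata := fun x' : X' => exists_chart_pullback (x' := x') hsq K hb.1 (hW (c (hc (p₁ x')).choose))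
    (hV (c (hc (p₁ x')).choose)) (eV (c (hc (p₁ x')).choose)) (hc (p₁ x')).choose_spec
  have hLP : LocPrincipal (BlowUp.exceptional p₁ (K.comap f)) := fun x' => by
    obtain ⟨W', U', eW, eU, eU', hW', hxU', -, hU', t, -, -, hE⟩ := hdata x'
    exact ⟨⟨U', hU'⟩, _, hxU', hE⟩
  haveI hGqc : Coh.IsQCoh G := isQCoh_strict hqc hLP hG
  have key : ∀ x' : X', ∃ U' : X'.Opens, IsAffineOpen U' ∧ x' ∈ U' ∧
      Module.FinitePresentation Γ(X', U') Γ(G, U') ∧ FlatMod.IsFlatOverAt p₂ G x' := by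
    intro x'
    obtain ⟨W', U', eW, eU, eU', hW', hxU', hpo, hU', t, ht, hKt, hE⟩ := hdata x'
    set i := (hc (p₁ x')).choose
    letI : Algebra Γ(S, W (c i)) Γ(X, V (c i)) := (f.appLE _ _ (eV (c i))).hom.toAlgebra
    letI := Module.compHom Γ(F, V (c i)) (f.appLE _ _ (eV (c i))).hom
    haveI : IsScalarTower Γ(S, W (c i)) Γ(X, V (c i)) Γ(F, V (c i)) := IsScalarTower.of_algebraMap_smul fun _ _ => rfl
    letI : Algebra Γ(S, W (c i)) Γ(S', W') := (b.appLE _ W' eW).hom.toAlgebra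
    letI : Algebra Γ(X, V (c i)) Γ(X', U') := (p₁.appLE _ U' eU).hom.toAlgebra
    letI : Algebra Γ(S', W') Γ(X', U') := (p₂.appLE W' U' eU').hom.toAlgebra
    letI : Algebra Γ(S, W (c i)) Γ(X', U') :=
      ((p₂.appLE W' U' eU').hom.comp (b.appLE _ W' eW).hom).toAlgebra
    haveI : IsScalarTower Γ(S, W (c i)) Γ(S', W') Γ(X', U') := IsScalarTower.of_algebraMap_eq fun _ => rfl
    haveI : IsScalarTower Γ(S, W (c i)) Γ(X, V (c i)) Γ(X', U') :=
      IsScalarTower.of_algebraMap_eq' (congrArg CommRingCat.Hom.hom hpo.w).symm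
    haveI : Algebra.IsPushout Γ(S, W (c i)) Γ(X, V (c i)) Γ(S', W') Γ(X', U') :=
      CommRingCat.isPushout_iff_isPushout.1 hpo
    haveI : Algebra.IsPushout Γ(S, W (c i)) Γ(S', W') Γ(X, V (c i)) Γ(X', U') := Algebra.IsPushout.symm inferInstance
    obtain ⟨h1, h2⟩ := hgood i K hK (hKJ i ⟨_, hW (c i)⟩) Γ(S', W') t ht hKt Γ(X', U')
    letI := Module.compHom Γ((Scheme.Modules.pullback p₁).obj F, U') (p₁.appLE (V (c i)) U' eU).hom
    haveI : IsScalarTower Γ(X, V (c i)) Γ(X', U') Γ((Scheme.Modules.pullback p₁).obj F, U') :=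
      IsScalarTower.of_algebraMap_smul fun _ _ => rfl
    have hbc := Groth.L16.AffineBC.isBaseChange_pull p₁ F (hV (c i)) hU' eU
    obtain ⟨e1⟩ := nonempty_quot_torsion_equiv hbc.equiv (algebraMap Γ(S', W') Γ(X', U') t)
    obtain ⟨e2⟩ := nonempty_quotient_equiv hG ⟨U', hU'⟩ _ hE
    let e := e1.trans e2
    haveI := h1
    haveI := h2
    refine ⟨U', hU', hxU', Module.FinitePresentation.of_equiv e, ?_⟩
    rw [Groth.L20.ModStalk.isFlatOverAt_iff p₂ G hW' hU' eU' hxU']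
    letI := Module.compHom Γ(G, U') (p₂.appLE W' U' eU').hom
    haveI : IsScalarTower Γ(S', W') Γ(X', U') Γ(G, U') := IsScalarTower.of_algebraMap_smul fun _ _ => rfl
    haveI : Module.Flat Γ(S', W') Γ(G, U') := Module.Flat.of_linearEquiv (e.restrictScalars Γ(S', W')).symm
    exact Groth.L20.FibreCrit.flat_localizedModule_of_flat _
  exact ⟨Groth.L05.Prufer.isFP_of_sections G fun x' => (key x').imp fun U' h => ⟨h.1, h.2.1, h.2.2.1⟩,
    fun x' => (key x').choose_spec.2.2.2⟩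

end Groth.L20.BlowFlat
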