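import Groth.Agent.L20.BlowFlat.FlatOff
import Groth.Agent.L20.RG.DevOps
import Groth.Agent.L20.RG.StepFacts
import Groth.Agent.L20.RG.FlatPtsStep
import Groth.Agent.L20.RG.Complete
import Groth.Agent.S1219
import Groth.Agent.S1223

/-!
# Nice algebras and contents
-/

set_option autoImplicit false
set_option linter.style.haveILetI false
set_option backward.isDefEq.respectTransparency.types false
universe u

open TensorProduct

namespace Groth.L20.BlowFlat

open Groth.L20.RG (DomFib)

/-- Smooth of relative dimension `m`, with integral geometric fibres, projective as a module. -/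
structure Nice (m : ℕ) (R D : Type u) [CommRing R] [CommRing D] [Algebra R D] : Prop where
  relDim : FlatCA.SmoothRelDim m R D
  dom : DomFib R D
  proj : Module.Projective R D

theorem nice_of_geomInt {m : ℕ} {R D : Type u} [CommRing R] [CommRing D] [Algebra R D]
    (h : FlatCA.SmoothRelDim m R D) (hgi : FlatCA.GeomIntegralFibres R D) : Nice m R D := by
  haveI : Algebra.Smooth R D := Groth.L20.RG.smooth_of_relDim h
  haveI : Module.Flat R D := Algebra.Smooth.flat R D
  refine ⟨h, DomFib.of_geomIntegralFibres hgi, ?_⟩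
  exact (Groth.Agent.S1219.result D).mpr fun p _ A' B' N' _ _ _ _ _ _ _ _ _ _ _ _ _ _ g t' t _ _ P _ _ =>
    Groth.Agent.S1223.result hgi p A' B' N' g t' t P

theorem Nice.baseChange {m : ℕ} {R D : Type u} [CommRing R] [CommRing D] [Algebra R D] (h : Nice m R D)
    (T D' : Type u) [CommRing T] [CommRing D'] [Algebra R T] [Algebra T D'] [Algebra D D'] [Algebra R D']
    [IsScalarTower R T D'] [IsScalarTower R D D'] [Algebra.IsPushout R T D D'] : Nice m T D' := by
  refine ⟨Groth.L20.RG.smoothRelDim_baseChange (R := R) (B := D) h.relDim, h.dom.of_isPushout T D', ?_⟩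
  haveI := h.proj
  exact Module.Projective.of_equiv (Algebra.IsPushout.equiv R T D D').toLinearEquiv

/-- The ideal of coefficients of a finitely generated ideal of a projective algebra. -/
theorem exists_content {R D : Type u} [CommRing R] [CommRing D] [Algebra R D] [Module.Projective R D] (E : Ideal D)
    (hE : E.FG) :
    ∃ J : Ideal R, J.FG ∧ E ≤ J.map (algebraMap R D) ∧
      (∀ b : R, (∀ d ∈ E, b • d = 0) → ∀ y ∈ J, b * y = 0) ∧
      ∀ (R' D' : Type u) [CommRing R'] [CommRing D'] [Algebra R R'] [Algebra R' D'] [Algebra D D'] [Algebra R D']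
        [IsScalarTower R R' D'] [IsScalarTower R D D'] [Algebra.IsPushout R R' D D'] (K : Ideal R'),
        E.map (algebraMap D D') ≤ K.map (algebraMap R' D') → J.map (algebraMap R R') ≤ K := by
  classical
  obtain ⟨s, hs⟩ := Module.projective_def'.mp (inferInstance : Module.Projective R D)
  obtain ⟨G, hG⟩ := hE
  replace hG : Ideal.span (G : Set D) = E := hG
  let J : Ideal R := Ideal.span ((G.biUnion fun g => (s g).support.image (s g) : Finset R) : Set R)
  have hmem : ∀ g ∈ G, ∀ j, s g j ∈ J := by
    intro g hg j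
    by_cases h : j ∈ (s g).support
    · exact Ideal.subset_span (Finset.mem_biUnion.2 ⟨g, hg, Finset.mem_image_of_mem _ h⟩)
    · rw [Finsupp.notMem_support_iff.1 h]; exact zero_mem _
  refine ⟨J, Submodule.fg_span (Finset.finite_toSet _), ?_, fun b hb y hy => ?_, ?_⟩
  · rw [← hG, Ideal.span_le]
    intro g hg
    rw [SetLike.mem_coe, show g = Finsupp.linearCombination R id (s g) from (LinearMap.congr_fun hs g).symm,
      Finsupp.linearCombination_apply, Finsupp.sum]
    exact Ideal.sum_mem _ fun j _ => by
      rw [Algebra.smul_def]; exact Ideal.mul_mem_right _ _ (Ideal.mem_map_of_mem _ (hmem g hg j))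
  · induction hy using Submodule.span_induction with
    | mem y hy =>
      obtain ⟨g, hg, hy⟩ := Finset.mem_biUnion.1 (Finset.mem_coe.1 hy)
      obtain ⟨j, -, rfl⟩ := Finset.mem_image.1 hy
      rw [← smul_eq_mul, ← Finsupp.smul_apply, ← map_smul, hb g (hG ▸ Ideal.subset_span hg), map_zero,
        Finsupp.zero_apply]
    | zero => rw [mul_zero]
    | add a b' _ _ ha hb' => rw [mul_add, ha, hb', add_zero]
    | smul a y _ hy => rw [smul_eq_mul, mul_left_comm, hy, mul_zero]
  · intro R' D' _ _ _ _ _ _ _ _ _ K hK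
    refine Ideal.map_le_iff_le_comap.2 (Ideal.span_le.2 fun y hy => ?_)
    obtain ⟨g, hg, hy'⟩ := Finset.mem_biUnion.1 (Finset.mem_coe.1 hy)
    obtain ⟨j, -, rfl⟩ := Finset.mem_image.1 hy'
    have hbc : IsBaseChange R' (IsScalarTower.toAlgHom R D D').toLinearMap := Algebra.IsPushout.out
    let ψ : D' →ₗ[R'] R' := hbc.lift ((Algebra.linearMap R R') ∘ₗ (Finsupp.lapply j) ∘ₗ s)
    have hψ : ψ (algebraMap D D' g) = algebraMap R R' (s g j) := hbc.lift_eq _ g
    have hgK : algebraMap D D' g ∈ (K • ⊤ : Submodule R' D') := by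
      rw [Ideal.smul_top_eq_map]
      exact hK (Ideal.mem_map_of_mem _ (hG ▸ Ideal.subset_span hg))
    rw [SetLike.mem_coe, Ideal.mem_comap, ← hψ]
    refine Submodule.smul_induction_on (p := fun w => ψ w ∈ K) hgK (fun q hq v _ => ?_) fun u v hu hv => ?_
    · rw [map_smul, smul_eq_mul]; exact K.mul_mem_right _ hq
    · rw [map_add]; exact add_mem hu hv

end Groth.L20.BlowFlat
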