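import Groth.Agent.L20.BlowFlat.Etale
import Groth.Agent.L20.FibreFT

/-!
# Goodness along localisations and descent to a point
-/

set_option autoImplicit false
set_option linter.style.haveILetI false
set_option backward.isDefEq.respectTransparency.types false
universe u

open TensorProduct nonZeroDivisors

noncomputable section

namespace Groth.L20.BlowFlat

open Groth.L13.Fitting (mem_powTorsion_iff)

variable {T : Type u} [CommRing T] {t : T}

/-- The two torsions of a module over an algebra agree. -/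
theorem powTorsion_restrict {A : Type u} [CommRing A] [Algebra T A] {M : Type u} [AddCommGroup M] [Module A M]
    [Module T M] [IsScalarTower T A M] (x : M) :
    x ∈ FlatCA.powTorsion A (algebraMap T A t) M ↔ ∃ n : ℕ, t ^ n • x = 0 := by
  simp only [mem_powTorsion_iff, ← map_pow, algebraMap_smul]

/-- A flat quotient over the algebra makes the module good. -/
theorem goodM_of_flat_quotient {A : Type u} [CommRing A] [Algebra T A] {M : Type u} [AddCommGroup M] [Module A M]
    [Module T M] [IsScalarTower T A M] (ht : t ∈ T⁰)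
    [Module.Flat T (M ⧸ FlatCA.powTorsion A (algebraMap T A t) M)] : GoodM T t M :=
  goodM_of_surjective ht ((FlatCA.powTorsion A (algebraMap T A t) M).mkQ.restrictScalars T)
    (Submodule.mkQ_surjective _) fun m hm => (powTorsion_restrict m).1 ((Submodule.Quotient.mk_eq_zero _).1 hm)

/-- Goodness over a chart of a blow-up passes to a chart of a further blow-up. -/
theorem GoodM.of_chart {T₀ A₀ T₁ A₁ : Type u} [CommRing T₀] [CommRing A₀] [CommRing T₁] [CommRing A₁] [Algebra T₀ A₀]
    [Algebra T₀ T₁] [Algebra A₀ A₁] [Algebra T₁ A₁] [Algebra T₀ A₁] [IsScalarTower T₀ T₁ A₁] [IsScalarTower T₀ A₀ A₁]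
    [Algebra.IsPushout T₀ T₁ A₀ A₁] {M : Type u} [AddCommGroup M] [Module A₀ M] [Module T₀ M] [IsScalarTower T₀ A₀ M]
    {t₀ : T₀} {t₁ : T₁} (ht₁ : t₁ ∈ T₁⁰) (hdvd : ∃ k : ℕ, algebraMap T₀ T₁ t₀ ∣ t₁ ^ k) (h : GoodM T₀ t₀ M) :
    GoodM T₁ t₁ (A₁ ⊗[A₀] M) := by
  haveI : Module.Flat T₀ (M ⧸ FlatCA.powTorsion T₀ t₀ M) := h
  refine GoodM.of_equiv ht₁ (Algebra.IsPushout.cancelBaseChange T₀ T₁ A₀ A₁ M) ?_
  refine goodM_of_surjective ht₁ ((FlatCA.powTorsion T₀ t₀ M).mkQ.baseChange T₁)
    (by rw [LinearMap.baseChange_eq_ltensor]; exact LinearMap.lTensor_surjective T₁ (Submodule.mkQ_surjective _))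
    fun z hz => ?_
  obtain ⟨n, hn⟩ := exists_pow_smul_of_baseChange_mkQ T₁ hz
  obtain ⟨k, c, hc⟩ := hdvd
  exact ⟨k * n, by rw [pow_mul, hc, mul_pow, mul_comm, mul_smul, hn, smul_zero]⟩

/-- Goodness passes to localisations of the algebra. -/
theorem GoodM.localize {A : Type u} [CommRing A] [Algebra T A] {M : Type u} [AddCommGroup M] [Module A M]
    [Module T M] [IsScalarTower T A M] (ht : t ∈ T⁰) (g : A) (A' : Type u) [CommRing A'] [Algebra A A'] [Algebra T A']
    [IsScalarTower T A A'] [IsLocalization.Away g A'] (h : GoodM T t M) : GoodM T t (A' ⊗[A] M) := by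
  let P := FlatCA.powTorsion A (algebraMap T A t) M
  haveI : Module.Flat T (M ⧸ FlatCA.powTorsion T t M) := h
  haveI : Module.Flat T (M ⧸ P) := by
    let π : M →ₗ[T] M ⧸ P := P.mkQ.restrictScalars T
    have e : FlatCA.powTorsion T t M = LinearMap.ker π := by
      ext m
      rw [mem_powTorsion_iff, LinearMap.mem_ker, LinearMap.restrictScalars_apply, Submodule.mkQ_apply,
        Submodule.Quotient.mk_eq_zero, powTorsion_restrict]
    exact Module.Flat.of_linearEquiv ((Submodule.quotEquivOfEq _ _ e).trans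
      (π.quotKerEquivOfSurjective (Submodule.mkQ_surjective P))).symm
  haveI : IsLocalizedModule (Submonoid.powers g) (TensorProduct.mk A A' (M ⧸ P) 1) :=
    (isLocalizedModule_iff_isBaseChange (Submonoid.powers g) A' _).2 (TensorProduct.isBaseChange A _ A')
  haveI : Module.Flat T (LocalizedModule (Submonoid.powers g) (M ⧸ P)) :=
    Groth.L20.FibreCrit.flat_localizedModule_of_flat _
  haveI : Module.Flat T (A' ⊗[A] (M ⧸ P)) := Module.Flat.of_linearEquiv
    ((IsLocalizedModule.iso (Submonoid.powers g) (TensorProduct.mk A A' (M ⧸ P) 1)).symm.restrictScalars T)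
  refine goodM_of_surjective ht ((P.mkQ.baseChange A').restrictScalars T)
    (by rw [LinearMap.coe_restrictScalars, LinearMap.baseChange_eq_ltensor]
        exact LinearMap.lTensor_surjective A' (Submodule.mkQ_surjective _)) fun z hz => ?_
  obtain ⟨n, hn⟩ := exists_pow_smul_of_baseChange_mkQ A' hz
  refine ⟨n, ?_⟩
  rwa [← IsScalarTower.algebraMap_apply, ← map_pow, algebraMap_smul] at hn

/-- Goodness over a flat algebra descends to the points below. -/
theorem flat_at_of_flat_algebra {A A' : Type u} [CommRing A] [CommRing A'] [Algebra T A] [Algebra A A'] [Algebra T A']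
    [IsScalarTower T A A'] [Module.Flat A A'] {M : Type u} [AddCommGroup M] [Module A M] [Module T M]
    [IsScalarTower T A M] (q : Ideal A) [q.IsPrime] (q' : Ideal A') [q'.IsPrime] (hq : q'.comap (algebraMap A A') = q)
    (h : GoodM T t (A' ⊗[A] M)) :
    Module.Flat T (LocalizedModule q.primeCompl (M ⧸ FlatCA.powTorsion A (algebraMap T A t) M)) := by
  let P := FlatCA.powTorsion A (algebraMap T A t) M
  let Q := M ⧸ P
  haveI : Module.Flat T ((A' ⊗[A] M) ⧸ FlatCA.powTorsion T t (A' ⊗[A] M)) := h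
  have hreg : IsSMulRegular Q (algebraMap T A t) := by
    refine IsSMulRegular.of_right_eq_zero_of_smul fun x hx => ?_
    obtain ⟨m, rfl⟩ := Submodule.Quotient.mk_surjective _ x
    rw [← Submodule.Quotient.mk_smul, Submodule.Quotient.mk_eq_zero, mem_powTorsion_iff] at hx
    obtain ⟨n, hn⟩ := hx
    rw [Submodule.Quotient.mk_eq_zero, mem_powTorsion_iff]
    exact ⟨n + 1, by rw [pow_succ, mul_smul]; exact hn⟩
  have hreg' : IsSMulRegular (A' ⊗[A] Q) (algebraMap T A t) := IsSMulRegular.lTensor (M := A') hreg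
  haveI hflat : Module.Flat T (A' ⊗[A] Q) := by
    let π : (A' ⊗[A] M) →ₗ[T] (A' ⊗[A] Q) := (P.mkQ.baseChange A').restrictScalars T
    have e : FlatCA.powTorsion T t (A' ⊗[A] M) = LinearMap.ker π := by
      ext z
      rw [mem_powTorsion_iff, LinearMap.mem_ker]
      refine ⟨fun ⟨n, hn⟩ => (hreg'.pow n).right_eq_zero_of_smul ?_, fun hz => ?_⟩
      · rw [← map_pow, algebraMap_smul, ← map_smul, hn, map_zero]
      · obtain ⟨n, hn⟩ := exists_pow_smul_of_baseChange_mkQ A' hz
        exact ⟨n, by rwa [← IsScalarTower.algebraMap_apply, ← map_pow, algebraMap_smul] at hn⟩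
    exact Module.Flat.of_linearEquiv ((Submodule.quotEquivOfEq _ _ e).trans (π.quotKerEquivOfSurjective
      (by rw [LinearMap.coe_restrictScalars, LinearMap.baseChange_eq_ltensor]
          exact LinearMap.lTensor_surjective A' (Submodule.mkQ_surjective _)))).symm
  refine Groth.L20.flat_localizedModule_of_forall q.primeCompl fun I z hz => ?_
  let Φ : (A' ⊗[A] Q) ⊗[T] I ≃ₗ[A'] A' ⊗[A] (Q ⊗[T] I) := AlgebraTensorModule.assoc T A A' A' Q I
  let Φ₁ : (A' ⊗[A] Q) ⊗[T] T ≃ₗ[A'] A' ⊗[A] (Q ⊗[T] T) := AlgebraTensorModule.assoc T A A' A' Q T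
  have key : ∀ w, Φ₁ (I.subtype.lTensor (A' ⊗[A] Q) w) =
      (AlgebraTensorModule.lTensor A Q I.subtype).baseChange A' (Φ w) := by
    intro w
    induction w using TensorProduct.induction_on with
    | zero => simp
    | add x y hx hy => simp only [map_add, hx, hy]
    | tmul x i =>
      induction x using TensorProduct.induction_on with
      | zero => simp
      | add x y hx hy => simp only [TensorProduct.add_tmul, map_add, hx, hy]
      | tmul a m => simp [Φ, Φ₁]
  have h0 : Φ.symm ((1 : A') ⊗ₜ[A] z) = 0 := by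
    refine Module.Flat.lTensor_preserves_injective_linearMap I.subtype I.injective_subtype
      (Φ₁.injective ?_)
    rw [key, LinearEquiv.apply_symm_apply, LinearMap.baseChange_tmul, map_zero, map_zero]
    exact (congrArg _ hz).trans (TensorProduct.tmul_zero _ _)
  have h1 : (1 : A') ⊗ₜ[A] z = 0 := Φ.symm.injective (h0.trans (map_zero _).symm)
  obtain ⟨s, hs, hsq⟩ : ∃ s, s ∈ Ideal.torsionOf A (Q ⊗[T] I) z ∧ s ∉ q := by
    by_contra hne
    push Not at hne
    refine ‹q'.IsPrime›.ne_top (top_le_iff.1 ?_)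
    rw [← map_annihilator_eq_top z A' h1]
    exact Ideal.map_le_iff_le_comap.2 (hq ▸ fun s hs => hne s hs)
  exact ⟨s, hsq, hs⟩

end Groth.L20.BlowFlat
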