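import Groth.Agent.L20.BlowFlat.SrcDescent
import Groth.Agent.L20.RG.Transfer
import Groth.Agent.S1271

/-!
# Centres from étale neighbourhoods

A centre flattening a module over an étale algebra gives, near any point, a centre over the base; finitely
many local centres combine.
-/

set_option autoImplicit false
set_option linter.style.haveILetI false
set_option backward.isDefEq.respectTransparency.types false
universe u

open TensorProduct nonZeroDivisors

namespace Groth.L20.BlowFlat

open Groth.L13.Fitting (mem_powTorsion_iff)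

attribute [local instance] Algebra.TensorProduct.rightAlgebra

variable {R : Type u} [CommRing R] {f : R}

/-- An algebra over `R'` making `J R'` invertible makes `J` invertible. -/
theorem Inv.of_map {R' : Type u} [CommRing R'] [Algebra R R'] {T : Type u} [CommRing T] [Algebra R T] [Algebra R' T]
    [IsScalarTower R R' T] {J : Ideal R} (hJ : J.FG) (h : Inv (J.map (algebraMap R R')) T) : Inv J T := by
  classical
  obtain ⟨G, hG⟩ := hJ
  replace hG : Ideal.span (G : Set R) = J := hG
  have hG' : Ideal.span ((G.image (algebraMap R R') : Finset R') : Set R') = J.map (algebraMap R R') := by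
    rw [Finset.coe_image, ← Ideal.map_span, hG]
  intro m hm
  obtain ⟨s, hs, g', hg', hreg, hgen⟩ := exists_local_generator hG' h m hm
  obtain ⟨g, hg, rfl⟩ := Finset.mem_image.1 hg'
  rw [← IsScalarTower.algebraMap_apply] at hreg hgen
  rw [Ideal.map_map, ← IsScalarTower.algebraMap_eq] at hgen
  exact ⟨s, hs, g, hG ▸ Ideal.subset_span hg, hreg, hgen⟩

/-- Goodness over a flat algebra gives goodness over the base. -/
theorem GoodM.restrict {T T' : Type u} [CommRing T] [CommRing T'] [Algebra T T'] [Module.Flat T T'] {t : T}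
    {M : Type u} [AddCommGroup M] [Module T M] [Module T' M] [IsScalarTower T T' M]
    (h : GoodM T' (algebraMap T T' t) M) : GoodM T t M := by
  haveI : Module.Flat T' (M ⧸ FlatCA.powTorsion T' (algebraMap T T' t) M) := h
  haveI : Module.Flat T (M ⧸ FlatCA.powTorsion T' (algebraMap T T' t) M) := Module.Flat.trans T T' _
  let π := (FlatCA.powTorsion T' (algebraMap T T' t) M).mkQ.restrictScalars T
  have e : FlatCA.powTorsion T t M = LinearMap.ker π := by
    ext m
    simp only [mem_powTorsion_iff, LinearMap.mem_ker, π, LinearMap.restrictScalars_apply, Submodule.mkQ_apply,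
      Submodule.Quotient.mk_eq_zero, ← map_pow, algebraMap_smul]
  exact Module.Flat.of_linearEquiv ((Submodule.quotEquivOfEq _ _ e).trans
    (π.quotKerEquivOfSurjective (Submodule.mkQ_surjective _)))

/-- A centre over an étale algebra gives a centre over the base near each of its primes. -/
theorem exists_centre_etale (hf : f ∈ R⁰) {R' : Type u} [CommRing R'] [Algebra R R'] [Algebra.Etale R R']
    (M : Type u) [AddCommGroup M] [Module R' M] (p' : Ideal R') [p'.IsPrime]
    (hM : HasCentre (algebraMap R R' f) M) :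
    ∃ g ∉ p', ∃ I, IsCentre f I ∧ ∀ (T : Type u) [CommRing T] [Algebra R T],
      Inv I T → Good f (Localization.Away g ⊗[R'] M) T := by
  obtain ⟨J, hJ, hflat⟩ := hM
  obtain ⟨I, g, J', hI, hfI, hg, -, heq⟩ := Groth.Agent.S1271.result f hf J hJ.fg hJ.mem_radical p'
  refine ⟨g, hg, Ideal.span {f} * I, ⟨(Submodule.fg_span_singleton f).mul hI, ?_⟩, fun T _ _ hT => ?_⟩
  · rw [Ideal.radical_mul, inf_eq_left]
    exact Ideal.radical_le_radical_iff.2 ((Ideal.span_singleton_le_iff_mem _).2 hfI)
  let Rg := Localization.Away g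
  haveI : Module.Flat R' Rg := IsLocalization.flat _ (Submonoid.powers g)
  haveI : Module.Flat R R' := Algebra.Smooth.flat R R'
  haveI : Module.Flat R Rg := Module.Flat.trans R R' Rg
  have hfT : algebraMap R T f ∈ T⁰ := hT.nonZeroDivisors (Ideal.mul_le_left.trans Ideal.le_radical)
  let T' := T ⊗[R] Rg
  letI : Algebra R' T' := ((algebraMap Rg T').comp (algebraMap R' Rg)).toAlgebra
  haveI : IsScalarTower R' Rg T' := IsScalarTower.of_algebraMap_eq fun _ => rfl
  haveI : IsScalarTower R R' T' := IsScalarTower.of_algebraMap_eq fun r => by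
    rw [IsScalarTower.algebraMap_apply R' Rg T', ← IsScalarTower.algebraMap_apply R R' Rg,
      ← IsScalarTower.algebraMap_apply R Rg T']
  haveI : Module.Flat T T' := inferInstance
  have h1 : Inv I T' := hT.mul_right.map
  have h2 : Inv (J.map (algebraMap R' Rg)) T' := by
    have := h1.map_base (R' := Rg)
    rw [heq] at this
    exact this.mul_left
  have hfT' : algebraMap R T' f ∈ T'⁰ :=
    (hT.map (T' := T')).nonZeroDivisors (Ideal.mul_le_left.trans Ideal.le_radical)
  have h3 := hflat T' (h2.of_map hJ.fg)
  unfold Good at h3 ⊢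
  rw [← IsScalarTower.algebraMap_apply R R' T'] at h3
  rw [IsScalarTower.algebraMap_apply R T T'] at h3 hfT'
  let e : T' ⊗[R'] M ≃ₗ[T] T ⊗[R] (Rg ⊗[R'] M) :=
    ((AlgebraTensorModule.cancelBaseChange R' Rg T' T' M).symm.restrictScalars T).trans
      (Algebra.IsPushout.cancelBaseChange R T Rg T' (Rg ⊗[R'] M))
  exact GoodM.of_equiv hfT e.symm (GoodM.restrict h3)

/-- Near `q` the base change of `N` to a flat covering algebra is flattened by a centre. -/
def LocCentre (f : R) (S : Type u) [CommRing S] [Algebra R S] (N : Type u) [AddCommGroup N] [Module S N] [Module R N]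
    [IsScalarTower R S N] (q : Ideal S) : Prop :=
  ∃ h ∉ q, ∃ (C : Type u) (_ : CommRing C) (_ : Algebra S C), Module.Flat S C ∧
    (∀ Q : Ideal S, Q.IsPrime → h ∉ Q → Q.map (algebraMap S C) ≠ ⊤) ∧
    ∃ I, IsCentre f I ∧ ∀ (T : Type u) [CommRing T] [Algebra R T], Inv I T → Good f (N ⊗[S] C) T

variable {S : Type u} [CommRing S] [Algebra R S] {N : Type u} [AddCommGroup N] [Module S N] [Module R N]
  [IsScalarTower R S N]

/-- A centre over an étale neighbourhood gives one near the point. -/
theorem LocCentre.of_etale (hf : f ∈ R⁰) (q : Ideal S) [q.IsPrime] {R' S' : Type u} [CommRing R'] [CommRing S']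
    [Algebra R R'] [Algebra.Etale R R'] [Algebra S S'] [Algebra.Etale S S'] [Algebra R' S'] [Algebra R S']
    [IsScalarTower R R' S'] [IsScalarTower R S S'] [SMulCommClass S R' S'] (q' : Ideal S') [q'.IsPrime]
    [q'.LiesOver q] (h : HasCentre (algebraMap R R' f) (S' ⊗[S] N)) : LocCentre f S N q := by
  let M := S' ⊗[S] N
  obtain ⟨g, hg, I, hI, hgood⟩ := exists_centre_etale hf M (q'.comap (algebraMap R' S')) h
  let gS := algebraMap R' S' g
  let C := Localization.Away gS
  obtain ⟨h₀, hh₀, hlift⟩ := Groth.L20.RG.exists_basicOpen_image q q' (g := gS) hg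
  haveI : Module.Flat S' C := IsLocalization.flat _ (Submonoid.powers gS)
  haveI : Module.Flat S S' := Algebra.Smooth.flat S S'
  refine ⟨h₀, hh₀, C, inferInstance, inferInstance, Module.Flat.trans S S' C, fun Q hQ hhQ htop => ?_, I, hI,
    fun T _ _ hT => ?_⟩
  · obtain ⟨Q', hQ', hover, hgQ'⟩ := hlift Q hhQ
    refine maximal_map_away_ne_top hQ' hgQ' (top_le_iff.1 ?_)
    rw [← htop, IsScalarTower.algebraMap_eq S S' C, ← Ideal.map_map]
    exact Ideal.map_mono (Ideal.map_le_iff_le_comap.2 hover.over.le)
  haveI hX : IsLocalizedModule (Submonoid.powers g) (TensorProduct.mk R' (Localization.Away g) M 1) :=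
    (isLocalizedModule_iff_isBaseChange (Submonoid.powers g) (Localization.Away g) _).2
      (TensorProduct.isBaseChange R' M (Localization.Away g))
  haveI hY₀ : IsLocalizedModule (Submonoid.powers gS) (TensorProduct.mk S' C M 1) :=
    (isLocalizedModule_iff_isBaseChange (Submonoid.powers gS) C _).2 (TensorProduct.isBaseChange S' M C)
  haveI hY : IsLocalizedModule (Submonoid.powers g) ((TensorProduct.mk S' C M 1).restrictScalars R') :=
    IsLocalizedModule.restrictScalars_powers g _
  let e₀ : C ⊗[S'] M ≃ₗ[R'] Localization.Away g ⊗[R'] M :=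
    IsLocalizedModule.linearEquiv (Submonoid.powers g) ((TensorProduct.mk S' C M 1).restrictScalars R')
      (TensorProduct.mk R' (Localization.Away g) M 1)
  let e₁ : C ⊗[S'] M ≃ₗ[R] C ⊗[S] N := (AlgebraTensorModule.cancelBaseChange S S' C C N).restrictScalars R
  let e : N ⊗[S] C ≃ₗ[R] Localization.Away g ⊗[R'] M :=
    (((TensorProduct.comm S N C).restrictScalars R).trans e₁.symm).trans (e₀.restrictScalars R)
  exact Good.congr e (hT.nonZeroDivisors hI.le_radical) (hgood T hT)

/-- Local centres glue. -/
theorem hasCentre_of_local (h : ∀ q : Ideal S, q.IsMaximal → LocCentre f S N q) : HasCentre f N := by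
  classical
  choose a ha C cC aC hflat hcov I hI hgood using fun q : {q : Ideal S // q.IsMaximal} => h q.1 q.2
  have htop : Ideal.span (Set.range a) = ⊤ := by
    by_contra hne
    obtain ⟨q, hq, hle⟩ := Ideal.exists_le_maximal _ hne
    exact ha ⟨q, hq⟩ (hle (Ideal.subset_span ⟨_, rfl⟩))
  obtain ⟨F, hF, h1⟩ := Submodule.mem_span_finite_of_mem_span
    ((Ideal.eq_top_iff_one _).1 htop)
  choose idx hidx using fun x : F => hF x.2
  obtain ⟨K, hK, hKinv⟩ := exists_centre_forall (fun o : Option F => o.elim (Ideal.span {f}) fun x => I (idx x))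
    (by rintro (_ | x); exacts [isCentre_span, hI _])
  refine ⟨K, hK, fun T _ _ hT => ?_⟩
  let A := T ⊗[R] S
  let M := A ⊗[S] N
  haveI : SMulCommClass S T M := ⟨fun s t m => by
    rw [← IsScalarTower.algebraMap_smul A s (t • m), ← IsScalarTower.algebraMap_smul A s m,
      ← IsScalarTower.algebraMap_smul A t m, ← IsScalarTower.algebraMap_smul A t (algebraMap S A s • m), smul_comm]⟩
  have hgM : GoodM T (algebraMap R T f) M := by
    refine GoodM.of_src_cover (S := S) (A := A) fun q hq => ?_
    obtain ⟨x, hx⟩ : ∃ x : F, x.1 ∉ q := by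
      by_contra hne
      push Not at hne
      exact hq.ne_top ((Ideal.eq_top_iff_one _).2 (Ideal.span_le.2 (fun y hy => hne ⟨y, hy⟩) h1))
    refine ⟨C (idx x), cC (idx x), aC (idx x), hflat _, hcov _ q hq.isPrime (by rw [hidx]; exact hx), ?_⟩
    letI := cC (idx x)
    letI := aC (idx x)
    refine GoodM.of_equiv (hT.nonZeroDivisors hK.le_radical) ?_ (hgood (idx x) T (hKinv T hT (some x)))
    exact ((AlgebraTensorModule.assoc S S A A N (C (idx x))).restrictScalars T).trans
      (Algebra.IsPushout.cancelBaseChange R T S A (N ⊗[S] C (idx x)))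
  exact GoodM.of_equiv (hT.nonZeroDivisors hK.le_radical) (Algebra.IsPushout.cancelBaseChange R T S A N).symm hgM

end Groth.L20.BlowFlat
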