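import Groth.Agent.L20.BlowFlat.Multi

/-!
# Centres on the base making ideals over étale algebras invertible
-/

set_option autoImplicit false
set_option linter.style.haveILetI false
set_option backward.isDefEq.respectTransparency.types false
universe u

open TensorProduct nonZeroDivisors

noncomputable section

namespace Groth.L20.BlowFlat

attribute [local instance] Algebra.TensorProduct.rightAlgebra

variable {R : Type u} [CommRing R]

/-- Invertibility is local. -/
theorem Inv.of_away_cover {I : Ideal R} {T : Type u} [CommRing T] [Algebra R T]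
    (h : ∀ m : Ideal T, m.IsMaximal → ∃ s ∉ m, Inv I (Localization.Away s)) : Inv I T := by
  intro m hm
  haveI := hm.isPrime
  obtain ⟨s, hs, hinv⟩ := h m hm
  obtain ⟨m', hm', hle⟩ := Ideal.exists_le_maximal _ (maximal_map_away_ne_top hm.isPrime hs)
  obtain ⟨y, hy, a, ha, hreg, hgen⟩ := hinv m' hm'
  obtain ⟨⟨z, ⟨_, k, rfl⟩⟩, hz⟩ := IsLocalization.surj (Submonoid.powers s) y
  have hzm : z ∉ m := fun hzm => hy (by
    have h1 := hle (Ideal.mem_map_of_mem (algebraMap T (Localization.Away s)) hzm)
    rw [← hz] at h1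
    exact (hm'.isPrime.mem_or_mem h1).resolve_right fun hu => hm'.ne_top (Ideal.eq_top_of_isUnit_mem _ hu
      (IsLocalization.map_units (Localization.Away s) (⟨_, k, rfl⟩ : Submonoid.powers s))))
  let B := Localization.Away (s * z)
  obtain ⟨θ, hθ⟩ := exists_awayMap (A := T) (B := T) s (s' := s * z) (dvd_mul_right s z)
  have hsz : IsUnit (algebraMap T B (s * z)) := IsLocalization.Away.algebraMap_isUnit _
  rw [map_mul] at hsz
  have hyu : IsUnit (θ y) := by
    have h1 := congrArg θ hz
    rw [map_mul, hθ, hθ] at h1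
    exact isUnit_of_mul_isUnit_left (h1.symm ▸ isUnit_of_mul_isUnit_right hsz)
  let φ : Localization.Away y →+* B := IsLocalization.Away.lift y hyu
  have hφT : ∀ x : T, φ (algebraMap T (Localization.Away y) x) = algebraMap T B x := fun x => by
    rw [IsScalarTower.algebraMap_apply T (Localization.Away s) (Localization.Away y)]
    exact (IsLocalization.Away.lift_eq _ hyu _).trans (hθ x)
  have hφR : ∀ x : R, φ (algebraMap R (Localization.Away y) x) = algebraMap R B x := fun x => by
    rw [IsScalarTower.algebraMap_apply R T (Localization.Away y), hφT, ← IsScalarTower.algebraMap_apply]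
  refine ⟨s * z, fun h' => (hm.isPrime.mem_or_mem h').elim hs hzm, a, ha, ?_, ?_⟩
  · refine mem_nonZeroDivisors_iff_right.2 fun c hc => ?_
    obtain ⟨⟨c₀, ⟨_, n, rfl⟩⟩, hc₀⟩ := IsLocalization.surj (Submonoid.powers (s * z)) c
    have hu := IsLocalization.map_units B (⟨_, n, rfl⟩ : Submonoid.powers (s * z))
    have h0 : algebraMap T B (c₀ * algebraMap R T a) = 0 := by
      rw [map_mul, ← hc₀, ← IsScalarTower.algebraMap_apply R T B, mul_right_comm, hc, zero_mul]
    obtain ⟨⟨_, e, rfl⟩, he⟩ := (IsLocalization.map_eq_zero_iff (Submonoid.powers (s * z)) B _).1 h0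
    have h1 : algebraMap T (Localization.Away y) ((s * z) ^ e * c₀) = 0 := by
      refine (mem_nonZeroDivisors_iff_right.1 hreg) _ ?_
      rw [IsScalarTower.algebraMap_apply R T (Localization.Away y), ← map_mul, mul_assoc]
      exact (congrArg (algebraMap T _) he).trans (map_zero _)
    have h2 := (hφT _).symm.trans ((congrArg φ h1).trans (map_zero φ))
    rw [map_mul, map_pow, map_mul] at h2
    rw [(hsz.pow e).mul_right_eq_zero] at h2
    rw [h2] at hc₀
    exact hu.mul_left_eq_zero.1 hc₀
  · rw [show algebraMap R B = φ.comp (algebraMap R (Localization.Away y)) from RingHom.ext fun x => (hφR x).symm,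
      ← Ideal.map_map, hgen, Ideal.map_span, Set.image_singleton, RingHom.comp_apply]

/-- A centre over an étale algebra, seen on the base, covering all points. -/
theorem exists_centre_etale_all {C E : Type u} [CommRing C] [CommRing E] [Algebra C E] [Algebra.Etale C E]
    {a : C} (ha : a ∈ C⁰) (J : Ideal E) (hJfg : J.FG) (hJ : algebraMap C E a ∈ J.radical) :
    ∃ L' : Ideal C, IsCentre a L' ∧ ∀ (B : Type u) [CommRing B] [Algebra C B] (A : Type u) [CommRing A] [Algebra B A]
      [Algebra E A] [Algebra C A] [IsScalarTower C B A] [IsScalarTower C E A] [Module.Flat B A],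
      Inv L' B → Inv J A := by
  classical
  choose Iq gq J'q hIq haq hgq _hJ'q heq using fun q : {q : Ideal E // q.IsMaximal} =>
    haveI := q.2.isPrime
    Groth.Agent.S1271.result a ha J hJfg hJ q.1
  have htop : Ideal.span (Set.range gq) = ⊤ := by
    by_contra hne
    obtain ⟨q, hq, hle⟩ := Ideal.exists_le_maximal _ hne
    exact hgq ⟨q, hq⟩ (hle (Ideal.subset_span ⟨_, rfl⟩))
  obtain ⟨F, hF, h1⟩ := Submodule.mem_span_finite_of_mem_span ((Ideal.eq_top_iff_one _).1 htop)
  choose idx hidx using fun x : F => hF x.2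
  obtain ⟨L', hL', hL'inv⟩ := exists_centre_forall
    (fun o : Option F => o.elim (Ideal.span {a}) fun x => Ideal.span {a} * Iq (idx x))
    (by
      rintro (_ | x)
      · exact isCentre_span
      · refine ⟨(Submodule.fg_span_singleton a).mul (hIq _), ?_⟩
        show (Ideal.span {a} * Iq (idx x)).radical = _
        rw [Ideal.radical_mul, inf_eq_left]
        exact Ideal.radical_le_radical_iff.2 ((Ideal.span_singleton_le_iff_mem _).2 (haq _)))
  refine ⟨L', hL', fun B _ _ A _ _ _ _ _ _ _ hB => ?_⟩
  have hI' := hL'inv B hB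
  refine Inv.of_away_cover fun M hM => ?_
  obtain ⟨x, hx⟩ : ∃ x : F, algebraMap E A (gq (idx x)) ∉ M := by
    by_contra hne
    push Not at hne
    refine hM.ne_top ((Ideal.eq_top_iff_one _).2 ?_)
    have h2 : Ideal.map (algebraMap E A) (Ideal.span (F : Set E)) ≤ M := by
      rw [Ideal.map_span, Ideal.span_le]
      rintro _ ⟨y, hy, rfl⟩
      have := hne ⟨y, hy⟩
      rwa [hidx ⟨y, hy⟩] at this
    rw [← map_one (algebraMap E A)]
    exact h2 (Ideal.mem_map_of_mem _ h1)
  let g := gq (idx x)
  let A' := Localization.Away (algebraMap E A g)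
  refine ⟨_, hx, ?_⟩
  haveI : Module.Flat A A' := IsLocalization.flat _ (Submonoid.powers (algebraMap E A g))
  haveI : Module.Flat B A' := Module.Flat.trans B A A'
  let Rg := Localization.Away g
  have hu : IsUnit (algebraMap E A' g) := by
    rw [IsScalarTower.algebraMap_apply E A A']
    exact IsLocalization.Away.algebraMap_isUnit _
  letI : Algebra Rg A' := (IsLocalization.Away.lift g hu : Rg →+* A').toAlgebra
  haveI : IsScalarTower E Rg A' :=
    IsScalarTower.of_algebraMap_eq fun y => (IsLocalization.Away.lift_eq g hu y).symm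
  haveI : IsScalarTower C Rg A' := IsScalarTower.to₁₃₄ C E Rg A'
  have h3 : Inv (Iq (idx x)) A' := (hI' (some x)).mul_right.map
  have h4 := h3.map_base (R' := Rg)
  rw [heq] at h4
  exact h4.mul_left.of_map hJfg

/-- The centre on one chart. -/
theorem exists_centre_etale_chart (R' : Type u) [CommRing R'] [Algebra R R'] [Algebra.Etale R R'] (J : Ideal R')
    (hJfg : J.FG) {a : R} (hJ : algebraMap R R' a ∈ J.radical) (C : Type u) [CommRing C] [Algebra R C]
    (haC : algebraMap R C a ∈ C⁰) :
    ∃ L' : Ideal C, IsCentre (algebraMap R C a) L' ∧ ∀ (B : Type u) [CommRing B] [Algebra R B] [Algebra C B]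
      [IsScalarTower R C B] (A : Type u) [CommRing A] [Algebra B A] [Algebra R' A] [Algebra R A] [IsScalarTower R B A]
      [IsScalarTower R R' A] [Module.Flat B A], Inv L' B → Inv J A := by
  let E := C ⊗[R] R'
  have hJC : algebraMap C E (algebraMap R C a) ∈ (J.map (algebraMap R' E)).radical := by
    rw [← IsScalarTower.algebraMap_apply, IsScalarTower.algebraMap_apply R R' E]
    exact Ideal.map_radical_le _ (Ideal.mem_map_of_mem _ hJ)
  obtain ⟨L', hL', h⟩ := exists_centre_etale_all haC (J.map (algebraMap R' E)) (hJfg.map _) hJC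
  refine ⟨L', hL', fun B _ _ _ _ A _ _ _ _ _ _ _ hB => ?_⟩
  let ι : C →ₐ[R] A := (IsScalarTower.toAlgHom R B A).comp (IsScalarTower.toAlgHom R C B)
  let ψ : E →ₐ[R] A := Algebra.TensorProduct.lift ι (IsScalarTower.toAlgHom R R' A) fun _ _ => Commute.all _ _
  letI : Algebra E A := ψ.toRingHom.toAlgebra
  haveI : IsScalarTower R' E A := IsScalarTower.of_algebraMap_eq fun x => by
    show algebraMap R' A x = ψ ((1 : C) ⊗ₜ[R] x)
    refine ((Algebra.TensorProduct.lift_tmul _ _ _ 1 x).trans ?_).symm
    rw [map_one, one_mul]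
    rfl
  letI : Algebra C A := ι.toRingHom.toAlgebra
  haveI : IsScalarTower C B A := IsScalarTower.of_algebraMap_eq fun _ => rfl
  haveI : IsScalarTower C E A := IsScalarTower.of_algebraMap_eq fun x => by
    show ι x = ψ (x ⊗ₜ[R] (1 : R'))
    refine ((Algebra.TensorProduct.lift_tmul _ _ _ x 1).trans ?_).symm
    rw [map_one, mul_one]
  exact (h B A hB).of_map hJfg

/-- Over an étale algebra an ideal becomes invertible after a centre on the base. -/
theorem exists_ideal_etale (R' : Type u) [CommRing R'] [Algebra R R'] [Algebra.Etale R R'] (J : Ideal R') (hJfg : J.FG)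
    (G : Finset R) (hJ : ∀ a ∈ G, algebraMap R R' a ∈ J.radical) :
    ∃ I : Ideal R, I.FG ∧ (G : Set R) ⊆ I.radical ∧
      ∀ (T : Type u) [CommRing T] [Algebra R T] (A : Type u) [CommRing A] [Algebra T A] [Algebra R' A] [Algebra R A]
        [IsScalarTower R T A] [IsScalarTower R R' A] [Module.Flat T A], Inv I T → Inv J A := by
  classical
  let P : Ideal R := Ideal.span (G : Set R)
  have hP : P.FG := Submodule.fg_span G.finite_toSet
  have key : ∀ a : G, ∃ L : Ideal R, L.FG ∧ P ≤ L.radical ∧
      ∀ (B : Type u) [CommRing B] [Algebra R B] [Algebra (BlowUp.affineAlgebra R P a.1) B]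
        [IsScalarTower R (BlowUp.affineAlgebra R P a.1) B] (A : Type u) [CommRing A] [Algebra B A] [Algebra R' A]
        [Algebra R A] [IsScalarTower R B A] [IsScalarTower R R' A] [Module.Flat B A], Inv L B → Inv J A := by
    intro a
    have ha : a.1 ∈ P := Ideal.subset_span a.2
    obtain ⟨L', hL', h⟩ := exists_centre_etale_chart R' J hJfg (hJ a.1 a.2) (BlowUp.affineAlgebra R P a.1)
      (Groth.L13.Fitting.chart_nzd AlgEquiv.refl)
    obtain ⟨L, hL, hPL, hLinv⟩ := exists_lift_centre hP ha hL'
    exact ⟨L, hL, hPL, fun B _ _ _ _ A _ _ _ _ _ _ _ hB => h B A (hLinv B hB)⟩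
  choose L hL hPL hLinv using key
  refine ⟨P * ∏ a, L a, hP.mul (Finset.prod_induction _ (fun Q : Ideal R => Q.FG) (fun _ _ => Submodule.FG.mul)
      (by rw [Ideal.one_eq_top]; exact Module.Finite.fg_top) fun a _ => hL a), ?_, fun T _ _ A _ _ _ _ _ _ _ hT => ?_⟩
  · intro a ha
    rw [SetLike.mem_coe, Ideal.radical_mul]
    exact ⟨Ideal.le_radical (Ideal.subset_span ha), Finset.prod_induction _ (fun Q : Ideal R => a ∈ Q.radical)
      (fun Q Q' hQ hQ' => by rw [Ideal.radical_mul]; exact ⟨hQ, hQ'⟩)
      (by rw [Ideal.one_eq_top, Ideal.radical_top]; trivial) fun b _ => hPL b (Ideal.subset_span ha)⟩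
  refine Inv.of_away_cover fun M hM => ?_
  haveI := hM.isPrime
  obtain ⟨m, hm, hle⟩ := Ideal.exists_le_maximal (M.comap (algebraMap T A)) (Ideal.IsPrime.comap _).ne_top
  obtain ⟨s, hs, a, ha, hreg, hgen⟩ := exists_local_generator rfl hT.mul_left m hm
  refine ⟨algebraMap T A s, fun h => hs (hle h), ?_⟩
  let B := Localization.Away s
  let A' := Localization.Away (algebraMap T A s)
  have hu : IsUnit (algebraMap T A' s) := by
    rw [IsScalarTower.algebraMap_apply T A A']
    exact IsLocalization.Away.algebraMap_isUnit _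
  letI : Algebra B A' := (IsLocalization.Away.lift s hu : B →+* A').toAlgebra
  haveI : IsScalarTower T B A' := IsScalarTower.of_algebraMap_eq fun y => (IsLocalization.Away.lift_eq s hu y).symm
  haveI : IsScalarTower R B A' := IsScalarTower.to₁₃₄ R T B A'
  haveI : Module.Flat A A' := IsLocalization.flat _ (Submonoid.powers (algebraMap T A s))
  haveI : Module.Flat T A' := Module.Flat.trans T A A'
  haveI : Module.Flat B A' := (Module.flat_iff_of_isLocalization B (Submonoid.powers s) A').2 inferInstance
  haveI : Module.Flat T B := IsLocalization.flat _ (Submonoid.powers s)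
  obtain ⟨χ⟩ := exists_chartHom hreg hgen
  letI := χ.toRingHom.toAlgebra
  haveI : IsScalarTower R (BlowUp.affineAlgebra R P a) B :=
    IsScalarTower.of_algebraMap_eq fun r => (χ.commutes r).symm
  exact hLinv ⟨a, ha⟩ B A' ((hT.mul_right.of_finset_prod (Finset.mem_univ (⟨a, ha⟩ : G))).map)

end Groth.L20.BlowFlat
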