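import Groth.Agent.L20.BlowFlat.Chart
import Groth.Agent.L20.BlowFlat.EtaleCentre
import Groth.Agent.L20.BlowFlat.Exist
import Groth.Agent.L20.BlowFlat.Descent

/-!
# Gluing flattening blow-ups given étale locally
-/

set_option autoImplicit false
set_option linter.style.haveILetI false
set_option backward.isDefEq.respectTransparency.types false

universe u

open CategoryTheory CategoryTheory.Limits AlgebraicGeometry TopologicalSpace Opposite
open scoped nonZeroDivisors TensorProduct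

noncomputable section

namespace Groth.L20.BlowFlat

variable {X S X' S' : Scheme.{u}}

theorem appLE_congr_hom {f g : X ⟶ S} (h : f = g) (U : S.Opens) (V : X.Opens) (e : V ≤ f ⁻¹ᵁ U) :
    f.appLE U V e = g.appLE U V (h ▸ e) := by
  subst h; rfl

/-- Sections of a module flat over the base. -/
theorem flat_sections_of_flatOver (f : X ⟶ S) (M : X.Modules) [Coh.IsQCoh M] (h : FlatMod.IsFlatOver f M)
    {W : S.Opens} (hW : IsAffineOpen W) {V : X.Opens} (hV : IsAffineOpen V) (e : V ≤ f ⁻¹ᵁ W) :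
    letI := Module.compHom Γ(M, V) (f.appLE W V e).hom
    Module.Flat Γ(S, W) Γ(M, V) := by
  letI := (f.appLE W V e).hom.toAlgebra
  letI := Module.compHom Γ(M, V) (f.appLE W V e).hom
  haveI : IsScalarTower Γ(S, W) Γ(X, V) Γ(M, V) := IsScalarTower.of_algebraMap_smul fun _ _ => rfl
  have hloc : Module.Flat Γ(S, W) (LocalizedModule (Submonoid.powers (1 : Γ(X, V))) Γ(M, V)) := by
    rw [Groth.L20.RG.flat_away_iff]
    intro Q hQ _
    let x : X := hV.fromSpec ⟨Q, hQ⟩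
    have hxV : x ∈ V := hV.range_fromSpec.le ⟨_, rfl⟩
    have hq : hV.primeIdealOf ⟨x, hxV⟩ = ⟨Q, hQ⟩ :=
      hV.fromSpec.isOpenEmbedding.injective (hV.fromSpec_primeIdealOf ⟨x, hxV⟩)
    have h1 := (Groth.L20.ModStalk.isFlatOverAt_iff f M hW hV e hxV).1 (h x)
    revert h1
    generalize hV.primeIdealOf ⟨x, hxV⟩ = q at hq
    subst hq
    exact fun h1 => h1
  rw [Module.Flat.iff_lTensor_injective']
  intro J
  rw [injective_iff_map_eq_zero]
  intro z hz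
  obtain ⟨_, ⟨k, rfl⟩, hk⟩ := (Groth.L20.flat_localizedModule_iff_forall _).1 hloc J z hz
  simpa using hk

/-- An isomorphism of modules on sections. -/
theorem nonempty_sections_equiv {M N : X.Modules} (e : M ≅ N) (V : X.Opens) :
    Nonempty (Γ(M, V) ≃ₗ[Γ(X, V)] Γ(N, V)) := by
  let l : Γ(M, V) →ₗ[Γ(X, V)] Γ(N, V) :=
    { toFun := e.hom.app V
      map_add' := fun a b => map_add _ a b
      map_smul' := fun a m => Scheme.Modules.Hom.app_smul e.hom a m }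
  refine ⟨LinearEquiv.ofBijective l (Function.bijective_iff_has_inverse.2
    ⟨fun n => e.inv.app V n, fun m => ?_, fun n => ?_⟩)⟩
  · exact congrArg (fun φ : M ⟶ M => φ.app V m) e.hom_inv_id
  · exact congrArg (fun φ : N ⟶ N => φ.app V n) e.inv_hom_id

/-- An affine chart of the base below an affine open, at a point. -/
theorem exists_affine_pair (f : X ⟶ S) (x : X) :
    ∃ (W : S.Opens) (V : X.Opens) (_ : V ≤ f ⁻¹ᵁ W), IsAffineOpen W ∧ IsAffineOpen V ∧ x ∈ V := by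
  obtain ⟨_, ⟨W, hW, rfl⟩, hxW, -⟩ :=
    S.isBasis_affineOpens.exists_subset_of_mem_open (Set.mem_univ (f x)) isOpen_univ
  obtain ⟨_, ⟨V, hV, rfl⟩, hxV, hVW⟩ :=
    X.isBasis_affineOpens.exists_subset_of_mem_open (a := x) (show x ∈ f ⁻¹ᵁ W from hxW) (f ⁻¹ᵁ W).2
  exact ⟨W, V, hVW, hW, hV, hxV⟩

/-- A centre pulling back to one dominating a given centre on an étale scheme over the base. -/
theorem exists_centre_dominating [CompactSpace S] [QuasiSeparatedSpace S] {Si : Scheme.{u}} (e : Si ⟶ S) [Etale e]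
    [QuasiCompact e] (U : S.Opens) (hU : IsCompact (U : Set S)) (𝓘 : Si.IdealSheafData)
    (h𝓘 : BlowUp.IsAdmissibleFor (e ⁻¹ᵁ U) 𝓘) :
    ∃ J : S.IdealSheafData, BlowUp.IsAdmissibleFor U J ∧ ∀ K : S.IdealSheafData, BlowUp.IsAdmissibleFor U K →
      (∀ W : S.affineOpens, ∃ L, K.ideal W = J.ideal W * L) →
      ∀ (S' : Scheme.{u}) (b : S' ⟶ S), BlowUp.IsBlowUp b K →
        BlowUp.IsEffCartierIdeal (𝓘.comap (pullback.fst e b)) := by
  classical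
  haveI : CompactSpace Si := QuasiCompact.compactSpace_of_compactSpace e
  choose W V eV hW hV hxV using exists_affine_pair e
  have hloc : ∀ x : Si, ∃ J : S.IdealSheafData, BlowUp.IsAdmissibleFor U J ∧
      letI : Algebra Γ(S, W x) Γ(Si, V x) := (e.appLE _ _ (eV x)).hom.toAlgebra
      ∀ (T : Type u) [CommRing T] [Algebra Γ(S, W x) T] (A : Type u) [CommRing A] [Algebra T A]
        [Algebra Γ(Si, V x) A] [Algebra Γ(S, W x) A] [IsScalarTower Γ(S, W x) T A]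
        [IsScalarTower Γ(S, W x) Γ(Si, V x) A] [Module.Flat T A],
        Inv (J.ideal ⟨W x, hW x⟩) T → Inv (𝓘.ideal ⟨V x, hV x⟩) A := by
    intro x
    letI : Algebra Γ(S, W x) Γ(Si, V x) := (e.appLE _ _ (eV x)).hom.toAlgebra
    haveI : Algebra.Etale Γ(S, W x) Γ(Si, V x) :=
      HasRingHomProperty.appLE @Etale e ‹_› ⟨W x, hW x⟩ ⟨V x, hV x⟩ (eV x)
    obtain ⟨G, hG, hcov⟩ := exists_gens_inter U hU (hW x)
    have hJ : ∀ a ∈ G, algebraMap Γ(S, W x) Γ(Si, V x) a ∈ (𝓘.ideal ⟨V x, hV x⟩).radical := fun a ha => by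
      refine gens_le_radical 𝓘 h𝓘.2 (hV x) (G.image (algebraMap Γ(S, W x) Γ(Si, V x))) (fun g hg => ?_)
        (Ideal.subset_span (Finset.mem_coe.2 (Finset.mem_image_of_mem _ ha)))
      obtain ⟨a', ha', rfl⟩ := Finset.mem_image.1 hg
      exact (Scheme.basicOpen_appLE e (V x) (W x) (eV x) a').le.trans
        (inf_le_right.trans fun y hy => hG a' ha' hy)
    obtain ⟨I, hI, hGI, hinv⟩ := exists_ideal_etale Γ(Si, V x) (𝓘.ideal ⟨V x, hV x⟩) (h𝓘.1 _) G hJ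
    obtain ⟨J, hJa, hJW⟩ := exists_extend U hU (hW x) G hcov I hI hGI
    refine ⟨J, hJa, ?_⟩
    intro T _ _ A _ _ _ _ _ _ _ hT
    rw [hJW] at hT
    exact hinv T A hT
  choose Jx hJx hinv using hloc
  obtain ⟨s, hs⟩ := isCompact_univ.elim_finite_subcover (fun x : Si => (V x : Set Si)) (fun x => (V x).2)
    (fun x _ => Set.mem_iUnion.2 ⟨x, hxV x⟩)
  let c : Fin s.card → Si := fun i => (s.equivFin.symm i).1
  have hc : ∀ y : Si, ∃ i, y ∈ V (c i) := fun y => by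
    obtain ⟨x, hx, hy⟩ := Set.mem_iUnion₂.1 (hs (Set.mem_univ y))
    exact ⟨s.equivFin ⟨x, hx⟩, by simpa [c] using hy⟩
  obtain ⟨J, hJ, hJc⟩ := exists_prod U (fun i => Jx (c i)) (fun i => hJx _)
  refine ⟨J, hJ, fun K hK hKJ S' b hb z => ?_⟩
  obtain ⟨i, hi⟩ := hc (pullback.fst e b z)
  obtain ⟨W', U', eW, eU, eU', hW', hzU', hpo, hU', t, ht, hKt, -⟩ :=
    exists_chart_pullback (IsPullback.of_hasPullback e b) K hb.1 (hW (c i)) (hV (c i)) (eV (c i)) hi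
  letI : Algebra Γ(S, W (c i)) Γ(Si, V (c i)) := (e.appLE _ _ (eV (c i))).hom.toAlgebra
  letI : Algebra Γ(S, W (c i)) Γ(S', W') := (b.appLE _ W' eW).hom.toAlgebra
  let P := pullback e b
  letI : Algebra Γ(Si, V (c i)) Γ(P, U') := ((pullback.fst e b).appLE _ U' eU).hom.toAlgebra
  letI : Algebra Γ(S', W') Γ(P, U') := ((pullback.snd e b).appLE W' U' eU').hom.toAlgebra
  letI : Algebra Γ(S, W (c i)) Γ(P, U') :=
    (((pullback.snd e b).appLE W' U' eU').hom.comp (b.appLE _ W' eW).hom).toAlgebra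
  haveI : IsScalarTower Γ(S, W (c i)) Γ(S', W') Γ(P, U') := IsScalarTower.of_algebraMap_eq fun _ => rfl
  haveI : IsScalarTower Γ(S, W (c i)) Γ(Si, V (c i)) Γ(P, U') :=
    IsScalarTower.of_algebraMap_eq' (congrArg CommRingCat.Hom.hom hpo.w).symm
  haveI : Module.Flat Γ(S', W') Γ(P, U') := (pullback.snd e b).flat_appLE hW' hU' eU'
  have hInvT : Inv ((Jx (c i)).ideal ⟨W (c i), hW (c i)⟩) Γ(S', W') := by
    obtain ⟨L, hL⟩ := hKJ ⟨W (c i), hW (c i)⟩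
    obtain ⟨L', hL'⟩ := hJc i ⟨W (c i), hW (c i)⟩
    have h := inv_of_map_eq (K := K.ideal ⟨W (c i), hW (c i)⟩) ht hKt
    rw [hL, hL', mul_assoc] at h
    exact h.mul_left
  have hInv := hinv (c i) Γ(S', W') Γ(P, U') hInvT
  obtain ⟨m, hm, hqm⟩ := Ideal.exists_le_maximal _ (hU'.primeIdealOf ⟨z, hzU'⟩).2.ne_top
  obtain ⟨σ, hσ, a, ha, hreg, hgen⟩ := hInv m hm
  have hzσ : z ∈ P.basicOpen σ := by
    have h1 : hU'.primeIdealOf ⟨z, hzU'⟩ ∈ hU'.fromSpec ⁻¹ᵁ P.basicOpen σ := by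
      rw [hU'.fromSpec_preimage_basicOpen]
      exact fun hh => hσ (hqm hh)
    have h2 := hU'.fromSpec_primeIdealOf ⟨z, hzU'⟩
    exact (show hU'.fromSpec (hU'.primeIdealOf ⟨z, hzU'⟩) = z from h2) ▸
      (show hU'.fromSpec (hU'.primeIdealOf ⟨z, hzU'⟩) ∈ P.basicOpen σ from h1)
  letI : Algebra Γ(P, U') Γ(P, P.basicOpen σ) := (P.presheaf.map (homOfLE (P.basicOpen_le σ)).op).hom.toAlgebra
  haveI : IsLocalization.Away σ Γ(P, P.basicOpen σ) := hU'.isLocalization_basicOpen σ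
  let ε := IsLocalization.algEquiv (Submonoid.powers σ) (Localization.Away σ) Γ(P, P.basicOpen σ)
  have hε : ∀ y : Γ(Si, V (c i)), ε (algebraMap Γ(Si, V (c i)) (Localization.Away σ) y) =
      algebraMap Γ(P, U') Γ(P, P.basicOpen σ) (algebraMap Γ(Si, V (c i)) Γ(P, U') y) := fun y => by
    rw [IsScalarTower.algebraMap_apply Γ(Si, V (c i)) Γ(P, U') (Localization.Away σ)]
    exact ε.commutes _
  refine ⟨⟨P.basicOpen σ, hU'.basicOpen σ⟩, hzσ, ε (algebraMap Γ(Si, V (c i)) (Localization.Away σ) a), ?_, ?_⟩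
  · exact ⟨fun y hy => ε.symm.injective ((hreg.1 (ε.symm y) (by
      have := congrArg ε.symm hy; rwa [map_mul, ε.symm_apply_apply, map_zero] at this)).trans (map_zero _).symm),
      fun y hy => ε.symm.injective ((hreg.2 (ε.symm y) (by
      have := congrArg ε.symm hy; rwa [map_mul, ε.symm_apply_apply, map_zero] at this)).trans (map_zero _).symm)⟩
  · rw [← (𝓘.comap (pullback.fst e b)).map_ideal (U := ⟨P.basicOpen σ, hU'.basicOpen σ⟩) (V := ⟨U', hU'⟩)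
        (P.basicOpen_le σ), Groth.L22.Ideals.comap_ideal (pullback.fst e b) 𝓘 ⟨V (c i), hV (c i)⟩ ⟨U', hU'⟩ eU]
    have h2 := congrArg (Ideal.map (ε : Localization.Away σ →+* Γ(P, P.basicOpen σ))) hgen
    rw [Ideal.map_map, Ideal.map_span, Set.image_singleton] at h2
    refine Eq.trans ?_ h2
    rw [Ideal.map_map]
    congr 1
    ext y
    exact (hε y).symm

/-- Flattening blow-ups given étale locally glue. -/
theorem exists_flattening_of_etale_local [CompactSpace S] [QuasiSeparatedSpace S]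
    (f : X ⟶ S) (F : X.Modules) (hqc : Coh.IsQCoh F) (U : S.Opens) (hU : IsCompact (U : Set S))
    {k : ℕ} (Si Xi : Fin k → Scheme.{u}) (e : ∀ i, Si i ⟶ S) (j : ∀ i, Xi i ⟶ X) (fi : ∀ i, Xi i ⟶ Si i)
    [∀ i, Etale (e i)] [∀ i, QuasiCompact (e i)] [∀ i, Etale (j i)]
    (hcovX : ∀ x : X, ∃ i y, (j i).base y = x)
    (hcomm : ∀ i, j i ≫ f = fi i ≫ e i)
    (𝓘 : ∀ i, (Si i).IdealSheafData) (Sst : Fin k → Scheme.{u}) (bi : ∀ i, Sst i ⟶ Si i)
    (hb : ∀ i, BlowUp.IsBlowUp (bi i) (𝓘 i) ∧ BlowUp.IsAdmissibleFor ((e i) ⁻¹ᵁ U) (𝓘 i))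
    (hflat : ∀ i (X' : Scheme.{u}) (p₁ : X' ⟶ Xi i) (p₂ : X' ⟶ Sst i), IsPullback p₁ p₂ (fi i) (bi i) →
      ∀ (G : X'.Modules) (π : (Scheme.Modules.pullback p₁).obj ((Scheme.Modules.pullback (j i)).obj F) ⟶ G),
        BlowUp.IsStrictTransform p₁ ((𝓘 i).comap (fi i)) ((Scheme.Modules.pullback (j i)).obj F) G π →
          FlatMod.IsFlatOver p₂ G) :
    ∃ (𝓙 : S.IdealSheafData) (S' : Scheme.{u}) (b' : S' ⟶ S), BlowUp.IsBlowUp b' 𝓙 ∧ BlowUp.IsAdmissibleFor U 𝓙 ∧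
      ∀ (X' : Scheme.{u}) (p₁ : X' ⟶ X) (p₂ : X' ⟶ S'), IsPullback p₁ p₂ f b' →
      ∀ (G : X'.Modules) (π : (Scheme.Modules.pullback p₁).obj F ⟶ G),
        BlowUp.IsStrictTransform p₁ (𝓙.comap f) F G π → FlatMod.IsFlatOver p₂ G := by
  classical
  haveI := hqc
  choose J hJ hdom using fun i => exists_centre_dominating (e i) U hU (𝓘 i) (hb i).2
  obtain ⟨J₀, hJ₀, hJ₀J⟩ := exists_prod U J hJ
  obtain ⟨L, hL, hLs⟩ := Groth.L13.Nagata.exists_compl_ideal U hU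
  have hK : BlowUp.IsAdmissibleFor U (J₀ * L) :=
    Groth.L13.Nagata.admissible_mul hJ₀ ⟨hL, by rw [hLs]; exact disjoint_compl_left⟩
  obtain ⟨S', b, hbK⟩ := Groth.L13.BU.exists_isBlowUp (J₀ * L)
  set K := J₀ * L with hKdef
  have hKJ : ∀ (i : Fin k) (W : S.affineOpens), ∃ L', K.ideal W = (J i).ideal W * L' := fun i W => by
    obtain ⟨L', hL'⟩ := hJ₀J i W
    exact ⟨L' * L.ideal W, by rw [← mul_assoc, ← hL']; rfl⟩
  have hKs : ∀ y : S, y ∉ U → y ∈ K.support := fun y hy => by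
    show y ∈ (K.support : Set S)
    rw [hKdef, Scheme.IdealSheafData.support_mul, Closeds.coe_sup, hLs]
    exact Or.inr hy
  refine ⟨K, S', b, hbK, hK, fun X' p₁ p₂ hsq G π hG => ?_⟩
  have hLP : LocPrincipal (BlowUp.exceptional p₁ (K.comap f)) := fun x' => by
    obtain ⟨W, V, eV, hW, hV, hxV⟩ := exists_affine_pair f (p₁ x')
    obtain ⟨W', U', eW, eU, eU', hW', hxU', -, hU', t, -, -, hE⟩ :=
      exists_chart_pullback (x' := x') hsq K hbK.1 hW hV eV hxV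
    exact ⟨⟨U', hU'⟩, _, hxU', hE⟩
  haveI hGqc : Coh.IsQCoh G := isQCoh_strict hqc hLP hG
  intro x'
  -- the given data around the point
  obtain ⟨i, y, hy⟩ := hcovX (p₁ x')
  let X'' := pullback (j i) p₁
  let q₁ : X'' ⟶ Xi i := pullback.fst (j i) p₁
  let q₂ : X'' ⟶ X' := pullback.snd (j i) p₁
  obtain ⟨x'', hx1, hx2⟩ := Scheme.exists_preimage_of_isPullback (IsPullback.of_hasPullback (j i) p₁) y x' hy
  let c : pullback (e i) b ⟶ Si i := pullback.fst (e i) b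
  let sn : pullback (e i) b ⟶ S' := pullback.snd (e i) b
  obtain ⟨h, hh, -⟩ := (hb i).1.2 _ c (hdom i K hK (hKJ i) S' b hbK)
  let σ : X'' ⟶ pullback (e i) b := pullback.lift (q₁ ≫ fi i) (q₂ ≫ p₂)
    (by rw [Category.assoc, ← hcomm, ← Category.assoc, pullback.condition, Category.assoc, hsq.w, ← Category.assoc])
  have hσc : σ ≫ c = q₁ ≫ fi i := pullback.lift_fst _ _ _
  have hσsn : σ ≫ sn = q₂ ≫ p₂ := pullback.lift_snd _ _ _
  let Xst := pullback (fi i) (bi i)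
  let pst : Xst ⟶ Xi i := pullback.fst (fi i) (bi i)
  let sst : Xst ⟶ Sst i := pullback.snd (fi i) (bi i)
  let τ : X'' ⟶ Xst := pullback.lift q₁ (σ ≫ h) (by rw [Category.assoc, hh, hσc])
  have hτp : τ ≫ pst = q₁ := pullback.lift_fst _ _ _
  have hτs : τ ≫ sst = σ ≫ h := pullback.lift_snd _ _ _
  have hpb1 : IsPullback q₁ σ (fi i) c := by
    refine IsPullback.of_bot ?_ hσc.symm (IsPullback.of_hasPullback (e i) b)
    have h0 : IsPullback q₁ (q₂ ≫ p₂) (j i ≫ f) b := (IsPullback.of_hasPullback (j i) p₁).paste_vert hsq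
    rw [hcomm, ← hσsn] at h0
    exact h0
  have hpb2 : IsPullback τ σ sst h := by
    refine IsPullback.of_right ?_ hτs (IsPullback.of_hasPullback (fi i) (bi i))
    rw [hτp, hh]
    exact hpb1
  -- the strict transform on the given blow-up
  let Fi := (Scheme.Modules.pullback (j i)).obj F
  haveI : Coh.IsQCoh Fi := Groth.L16.AffineBC.isQCoh_pullback (j i) F
  obtain ⟨Gi, πi, hGi⟩ := exists_isStrictTransform pst ((𝓘 i).comap (fi i))
    (Groth.L13.Nagata.isFiniteType_comap (hb i).2.1 _) Fi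
  haveI hGiqc : Coh.IsQCoh Gi := isQCoh_strict inferInstance (fun z => by
    obtain ⟨W, V, eV, hW, hV, hzV⟩ := exists_affine_pair (fi i) (pst z)
    obtain ⟨W', U', eW, eU, eU', hW', hzU', -, hU', t, -, -, hE⟩ :=
      exists_chart_pullback (x' := z) (IsPullback.of_hasPullback (fi i) (bi i)) (𝓘 i) (hb i).1.1 hW hV eV hzV
    exact ⟨⟨U', hU'⟩, _, hzU', hE⟩) hGi
  have hGiflat : FlatMod.IsFlatOver sst Gi := hflat i _ pst sst (IsPullback.of_hasPullback _ _) Gi πi hGi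
  -- charts
  obtain ⟨Wb, Vb, eVb, hWb, hVb, hxVb⟩ := exists_affine_pair f (p₁ x')
  obtain ⟨W', U', eW', eU', eU'', hW', hxU', -, hU', t, ht, hKt, hE⟩ :=
    exists_chart_pullback (x' := x') hsq K hbK.1 hWb hVb eVb hxVb
  obtain ⟨Wi, Vi, eVi, hWi, hVi, hyVi⟩ := exists_affine_pair (fi i) (pst (τ x''))
  obtain ⟨Wst, Ust, eWst, eUst, eUst', hWst, hτU, -, hUst, tst, htst, hItst, hEst⟩ :=
    exists_chart_pullback (x' := τ x'') (IsPullback.of_hasPullback (fi i) (bi i)) (𝓘 i) (hb i).1.1 hWi hVi eVi hyVi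
  have hzmem : σ x'' ∈ sn ⁻¹ᵁ W' ⊓ h ⁻¹ᵁ Wst := by
    refine ⟨?_, ?_⟩
    · show sn (σ x'') ∈ W'
      rw [← Scheme.Hom.comp_apply, hσsn, Scheme.Hom.comp_apply, show q₂ x'' = x' from hx2]
      exact eU'' hxU'
    · show h (σ x'') ∈ Wst
      rw [← Scheme.Hom.comp_apply, ← hτs, Scheme.Hom.comp_apply]
      exact eUst' hτU
  obtain ⟨_, ⟨W₃, hW₃, rfl⟩, hzW₃, hW₃le⟩ :=
    (pullback (e i) b).isBasis_affineOpens.exists_subset_of_mem_open hzmem (sn ⁻¹ᵁ W' ⊓ h ⁻¹ᵁ Wst).2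
  change (pullback (e i) b).Opens at W₃
  replace hW₃ : IsAffineOpen W₃ := hW₃
  have e₃ : W₃ ≤ sn ⁻¹ᵁ W' := fun y hy => (hW₃le hy).1
  have e₃' : W₃ ≤ h ⁻¹ᵁ Wst := fun y hy => (hW₃le hy).2
  obtain ⟨hU₂, hpo₂⟩ := isPushout_chart hpb2 hWst hUst hW₃ eUst' e₃'
  set U₂ := τ ⁻¹ᵁ Ust ⊓ σ ⁻¹ᵁ W₃ with hU₂def
  obtain ⟨g, hgU', hxg⟩ := hU₂.exists_basicOpen_le (V := q₂ ⁻¹ᵁ U')
    ⟨x'', show q₂ x'' ∈ U' from (show q₂ x'' = x' from hx2).symm ▸ hxU'⟩ ⟨hτU, hzW₃⟩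
  let U₃ := X''.basicOpen g
  have hU₃ : IsAffineOpen U₃ := hU₂.basicOpen g
  have h32 : U₃ ≤ U₂ := X''.basicOpen_le g
  have hτ₃ : U₃ ≤ τ ⁻¹ᵁ Ust := h32.trans inf_le_left
  have hq₃ : U₃ ≤ q₂ ⁻¹ᵁ U' := hgU'
  have hσ₃ : U₃ ≤ σ ⁻¹ᵁ W₃ := h32.trans inf_le_right
  -- rings
  letI : Algebra Γ(S', W') Γ(X', U') := (p₂.appLE W' U' eU'').hom.toAlgebra
  letI : Algebra Γ(S', W') Γ(pullback (e i) b, W₃) := (sn.appLE W' W₃ e₃).hom.toAlgebra
  letI : Algebra Γ(Sst i, Wst) Γ(Xst, Ust) := (sst.appLE Wst Ust eUst').hom.toAlgebra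
  letI : Algebra Γ(Sst i, Wst) Γ(pullback (e i) b, W₃) := (h.appLE Wst W₃ e₃').hom.toAlgebra
  letI : Algebra Γ(Xst, Ust) Γ(X'', U₂) := (τ.appLE Ust U₂ inf_le_left).hom.toAlgebra
  letI : Algebra Γ(pullback (e i) b, W₃) Γ(X'', U₂) := (σ.appLE W₃ U₂ inf_le_right).hom.toAlgebra
  letI : Algebra Γ(Sst i, Wst) Γ(X'', U₂) :=
    ((σ.appLE W₃ U₂ inf_le_right).hom.comp (h.appLE Wst W₃ e₃').hom).toAlgebra
  haveI : IsScalarTower Γ(Sst i, Wst) Γ(pullback (e i) b, W₃) Γ(X'', U₂) :=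
    IsScalarTower.of_algebraMap_eq fun _ => rfl
  haveI : IsScalarTower Γ(Sst i, Wst) Γ(Xst, Ust) Γ(X'', U₂) :=
    IsScalarTower.of_algebraMap_eq' (congrArg CommRingCat.Hom.hom hpo₂.w).symm
  haveI : Algebra.IsPushout Γ(Sst i, Wst) Γ(Xst, Ust) Γ(pullback (e i) b, W₃) Γ(X'', U₂) :=
    CommRingCat.isPushout_iff_isPushout.1 hpo₂
  haveI : Algebra.IsPushout Γ(Sst i, Wst) Γ(pullback (e i) b, W₃) Γ(Xst, Ust) Γ(X'', U₂) :=
    Algebra.IsPushout.symm inferInstance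
  letI : Algebra Γ(X'', U₂) Γ(X'', U₃) := (X''.presheaf.map (homOfLE h32).op).hom.toAlgebra
  letI : Algebra Γ(Xst, Ust) Γ(X'', U₃) := (τ.appLE Ust U₃ hτ₃).hom.toAlgebra
  letI : Algebra Γ(X', U') Γ(X'', U₃) := (q₂.appLE U' U₃ hq₃).hom.toAlgebra
  letI : Algebra Γ(pullback (e i) b, W₃) Γ(X'', U₃) := (σ.appLE W₃ U₃ hσ₃).hom.toAlgebra
  letI : Algebra Γ(S', W') Γ(X'', U₃) := ((q₂ ≫ p₂).appLE W' U₃ fun z hz => eU'' (hq₃ hz)).hom.toAlgebra
  haveI : IsScalarTower Γ(Xst, Ust) Γ(X'', U₂) Γ(X'', U₃) := IsScalarTower.of_algebraMap_eq'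
    (congrArg CommRingCat.Hom.hom (Scheme.Hom.appLE_map τ inf_le_left (homOfLE h32).op)).symm
  haveI : IsScalarTower Γ(pullback (e i) b, W₃) Γ(X'', U₂) Γ(X'', U₃) := IsScalarTower.of_algebraMap_eq'
    (congrArg CommRingCat.Hom.hom (Scheme.Hom.appLE_map σ inf_le_right (homOfLE h32).op)).symm
  haveI : IsScalarTower Γ(S', W') Γ(X', U') Γ(X'', U₃) := IsScalarTower.of_algebraMap_eq'
    (congrArg CommRingCat.Hom.hom (Scheme.Hom.appLE_comp_appLE q₂ p₂ W' U' U₃ eU'' hq₃)).symm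
  haveI : IsScalarTower Γ(S', W') Γ(pullback (e i) b, W₃) Γ(X'', U₃) := IsScalarTower.of_algebraMap_eq'
    (congrArg CommRingCat.Hom.hom ((Scheme.Hom.appLE_comp_appLE σ sn W' W₃ U₃ e₃ hσ₃).trans
      (appLE_congr_hom hσsn W' U₃ _))).symm
  haveI : IsLocalization.Away g Γ(X'', U₃) := hU₂.isLocalization_basicOpen g
  haveI : Module.Flat Γ(S', W') Γ(pullback (e i) b, W₃) := sn.flat_appLE hW' hW₃ e₃
  haveI : Module.Flat Γ(X', U') Γ(X'', U₃) := q₂.flat_appLE hU' hU₃ hq₃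
  -- the equations
  let t₃ := algebraMap Γ(S', W') Γ(pullback (e i) b, W₃) t
  have ht₃ : t₃ ∈ Γ(pullback (e i) b, W₃)⁰ := mem_nonZeroDivisors_iff_right.2 fun q hq =>
    Module.Flat.isSMulRegular_of_nonZeroDivisors (M := Γ(pullback (e i) b, W₃)) ht
      (show t • q = t • (0 : Γ(pullback (e i) b, W₃)) by rw [smul_zero, Algebra.smul_def, mul_comm, hq])
  have hdvd : ∃ n : ℕ, algebraMap Γ(Sst i, Wst) Γ(pullback (e i) b, W₃) tst ∣ t₃ ^ n := by
    have h1 : t₃ ∈ (Ideal.span {algebraMap Γ(Sst i, Wst) Γ(pullback (e i) b, W₃) tst}).radical := by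
      rw [Ideal.radical_eq_sInf, Submodule.mem_sInf]
      rintro Q ⟨hle, hQ⟩
      by_contra htQ
      let z : ↥(pullback (e i) b) := hW₃.fromSpec ⟨Q, hQ⟩
      have hz : z ∈ W₃ := hW₃.range_fromSpec.le ⟨_, rfl⟩
      have hbas : ∀ r, (z ∈ (pullback (e i) b).basicOpen r) ↔ r ∉ Q := fun r => by
        have h0 : (⟨Q, hQ⟩ : PrimeSpectrum Γ(pullback (e i) b, W₃)) ∈
            hW₃.fromSpec ⁻¹ᵁ (pullback (e i) b).basicOpen r ↔ r ∉ Q := by
          rw [hW₃.fromSpec_preimage_basicOpen]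
          exact Iff.rfl
        exact h0
      have hz1 : sn z ∈ S'.basicOpen t :=
        ((Scheme.basicOpen_appLE sn W₃ W' e₃ t).le ((hbas t₃).2 htQ)).2
      have hzU : b (sn z) ∈ U := by
        by_contra hbU
        have h2 : sn z ∈ (K.comap b).support := by
          rw [Scheme.IdealSheafData.support_comap]; exact hKs _ hbU
        have h3 := (Scheme.IdealSheafData.mem_support_iff_of_mem (U := ⟨W', hW'⟩) (e₃ hz)).1 h2
        have hKW : (K.comap b).ideal ⟨W', hW'⟩ = Ideal.span {t} :=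
          (Groth.L22.Ideals.comap_ideal b K ⟨Wb, hWb⟩ ⟨W', hW'⟩ eW').trans hKt
        rw [hKW, Scheme.zeroLocus_span, Scheme.zeroLocus_singleton] at h3
        exact h3 hz1
      have hcz : c z ∈ (e i) ⁻¹ᵁ U := by
        show e i (c z) ∈ U
        rw [← Scheme.Hom.comp_apply, show c ≫ e i = sn ≫ b from pullback.condition, Scheme.Hom.comp_apply]
        exact hzU
      refine Set.disjoint_left.1 (hb i).2.2 ?_ hcz
      have h4 : z ∉ (pullback (e i) b).basicOpen (algebraMap Γ(Sst i, Wst) Γ(pullback (e i) b, W₃) tst) :=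
        fun hz4 => (hbas _).1 hz4 (hle (Ideal.mem_span_singleton_self _))
      have h5 : h z ∉ (Sst i).basicOpen tst := fun hz5 =>
        h4 ((Scheme.basicOpen_appLE h W₃ Wst e₃' tst).ge ⟨hz, hz5⟩)
      have h6 : h z ∈ ((𝓘 i).comap (bi i)).support := by
        refine (Scheme.IdealSheafData.mem_support_iff_of_mem (U := ⟨Wst, hWst⟩) (e₃' hz)).2 ?_
        rw [Groth.L22.Ideals.comap_ideal (bi i) (𝓘 i) ⟨Wi, hWi⟩ ⟨Wst, hWst⟩ eWst, hItst, Scheme.zeroLocus_span,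
          Scheme.zeroLocus_singleton]
        exact h5
      rw [Scheme.IdealSheafData.support_comap] at h6
      show c z ∈ ((𝓘 i).support : Set (Si i))
      rw [← hh, Scheme.Hom.comp_apply]
      exact h6
    obtain ⟨n, hn⟩ := h1
    exact ⟨n, Ideal.mem_span_singleton.1 hn⟩
  -- modules
  let Pst := (Scheme.Modules.pullback pst).obj Fi
  let P' := (Scheme.Modules.pullback p₁).obj F
  haveI : Coh.IsQCoh Pst := Groth.L16.AffineBC.isQCoh_pullback pst Fi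
  haveI : Coh.IsQCoh P' := Groth.L16.AffineBC.isQCoh_pullback p₁ F
  letI := Module.compHom Γ(Pst, Ust) (sst.appLE Wst Ust eUst').hom
  haveI : IsScalarTower Γ(Sst i, Wst) Γ(Xst, Ust) Γ(Pst, Ust) := IsScalarTower.of_algebraMap_smul fun _ _ => rfl
  have hgood₀ : GoodM Γ(Sst i, Wst) tst Γ(Pst, Ust) := by
    letI := Module.compHom Γ(Gi, Ust) (sst.appLE Wst Ust eUst').hom
    haveI : IsScalarTower Γ(Sst i, Wst) Γ(Xst, Ust) Γ(Gi, Ust) := IsScalarTower.of_algebraMap_smul fun _ _ => rfl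
    haveI := flat_sections_of_flatOver sst Gi hGiflat hWst hUst eUst'
    obtain ⟨e2⟩ := nonempty_quotient_equiv hGi ⟨Ust, hUst⟩ _ hEst
    haveI : Module.Flat Γ(Sst i, Wst)
        (Γ(Pst, Ust) ⧸ FlatCA.powTorsion Γ(Xst, Ust) (algebraMap Γ(Sst i, Wst) Γ(Xst, Ust) tst) Γ(Pst, Ust)) :=
      Module.Flat.of_linearEquiv (e2.restrictScalars Γ(Sst i, Wst))
    exact goodM_of_flat_quotient (A := Γ(Xst, Ust)) htst
  have hgood₁ : GoodM Γ(pullback (e i) b, W₃) t₃ (Γ(X'', U₂) ⊗[Γ(Xst, Ust)] Γ(Pst, Ust)) :=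
    GoodM.of_chart ht₃ hdvd hgood₀
  have hgood₂ := GoodM.localize ht₃ g Γ(X'', U₃) hgood₁
  have hgood₃ : GoodM Γ(pullback (e i) b, W₃) t₃ (Γ(X'', U₃) ⊗[Γ(Xst, Ust)] Γ(Pst, Ust)) :=
    GoodM.of_equiv ht₃ ((TensorProduct.AlgebraTensorModule.cancelBaseChange Γ(Xst, Ust) Γ(X'', U₂) Γ(X'', U₃)
      Γ(X'', U₃) Γ(Pst, Ust)).symm.restrictScalars Γ(pullback (e i) b, W₃)) hgood₂
  have hgood₄ : GoodM Γ(S', W') t (Γ(X'', U₃) ⊗[Γ(Xst, Ust)] Γ(Pst, Ust)) := GoodM.restrict hgood₃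
  letI := Module.compHom Γ((Scheme.Modules.pullback τ).obj Pst, U₃) (τ.appLE Ust U₃ hτ₃).hom
  haveI : IsScalarTower Γ(Xst, Ust) Γ(X'', U₃) Γ((Scheme.Modules.pullback τ).obj Pst, U₃) :=
    IsScalarTower.of_algebraMap_smul fun _ _ => rfl
  letI := Module.compHom Γ((Scheme.Modules.pullback q₂).obj P', U₃) (q₂.appLE U' U₃ hq₃).hom
  haveI : IsScalarTower Γ(X', U') Γ(X'', U₃) Γ((Scheme.Modules.pullback q₂).obj P', U₃) :=
    IsScalarTower.of_algebraMap_smul fun _ _ => rfl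
  have hbc₁ := Groth.L16.AffineBC.isBaseChange_pull τ Pst hUst hU₃ hτ₃
  have hbc₂ := Groth.L16.AffineBC.isBaseChange_pull q₂ P' hU' hU₃ hq₃
  have hcomp : q₂ ≫ p₁ = (τ ≫ pst) ≫ j i := by rw [hτp]; exact pullback.condition.symm
  obtain ⟨eP⟩ := nonempty_sections_equiv ((Scheme.Modules.pullbackComp q₂ p₁).app F ≪≫
    (Scheme.Modules.pullbackCongr hcomp).app F ≪≫ ((Scheme.Modules.pullbackComp (τ ≫ pst) (j i)).app F).symm ≪≫
    ((Scheme.Modules.pullbackComp τ pst).app Fi).symm) U₃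
  let E₁ : Γ(X'', U₃) ⊗[Γ(X', U')] Γ(P', U') ≃ₗ[Γ(X'', U₃)] Γ(X'', U₃) ⊗[Γ(Xst, Ust)] Γ(Pst, Ust) :=
    (hbc₂.equiv.trans eP).trans hbc₁.equiv.symm
  letI := Module.compHom Γ(P', U') (p₂.appLE W' U' eU'').hom
  haveI : IsScalarTower Γ(S', W') Γ(X', U') Γ(P', U') := IsScalarTower.of_algebraMap_smul fun _ _ => rfl
  have hgood₅ : GoodM Γ(S', W') t (Γ(X'', U₃) ⊗[Γ(X', U')] Γ(P', U')) :=
    GoodM.of_equiv ht (E₁.restrictScalars Γ(S', W')) hgood₄
  -- descent to the point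
  have hqq : ((hU₃.primeIdealOf ⟨x'', hxg⟩).asIdeal).comap (algebraMap Γ(X', U') Γ(X'', U₃)) =
      (hU'.primeIdealOf ⟨x', hxU'⟩).asIdeal := by
    have h1 := congrArg PrimeSpectrum.asIdeal
      (IsAffineOpen.comap_primeIdealOf_appLE U' hU' U₃ hU₃ hq₃ hxg (f := q₂))
    refine h1.trans ?_
    rw [show (⟨q₂ x'', hq₃ hxg⟩ : U') = ⟨x', hxU'⟩ from Subtype.ext hx2]
  have hflatQ := flat_at_of_flat_algebra _ _ hqq hgood₅
  obtain ⟨e2⟩ := nonempty_quotient_equiv hG ⟨U', hU'⟩ _ hE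
  rw [Groth.L20.ModStalk.isFlatOverAt_iff p₂ G hW' hU' eU'' hxU']
  letI := Module.compHom Γ(G, U') (p₂.appLE W' U' eU'').hom
  haveI : IsScalarTower Γ(S', W') Γ(X', U') Γ(G, U') := IsScalarTower.of_algebraMap_smul fun _ _ => rfl
  exact (Groth.L20.RG.flat_localized_iff_of_equiv (R := Γ(S', W')) e2 _).1 hflatQ

end Groth.L20.BlowFlat
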