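import Groth.Agent.L20.BlowFlat.Etale
import Groth.Agent.L20.FlatLocusOpen
import Groth.Agent.L20.RG.Transfer

/-!
# Flatness off the zero locus of an element
-/

set_option autoImplicit false
set_option linter.style.haveILetI false
set_option backward.isDefEq.respectTransparency.types false
universe u

open TensorProduct nonZeroDivisors

namespace Groth.L20.BlowFlat

variable {R : Type u} [CommRing R] {f : R} {N : Type u} [AddCommGroup N] [Module R N]

/-- `N` is flat over `D(f)`: the kernels of `N ⊗ J → N` are `f`-power torsion. -/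
def FlatOff (f : R) (N : Type u) [AddCommGroup N] [Module R N] : Prop :=
  ∀ (J : Ideal R) (z : N ⊗[R] J), J.subtype.lTensor N z = 0 → ∃ k : ℕ, f ^ k • z = 0

theorem flatOff_iff_flat : FlatOff f N ↔ Module.Flat R (LocalizedModule (Submonoid.powers f) N) := by
  rw [Groth.L20.flat_localizedModule_iff_forall]
  constructor
  · intro h J z hz
    obtain ⟨k, hk⟩ := h J z hz
    exact ⟨f ^ k, ⟨k, rfl⟩, hk⟩
  · intro h J z hz
    obtain ⟨_, ⟨k, rfl⟩, hk⟩ := h J z hz
    exact ⟨k, hk⟩

theorem flatOff_of_flat [Module.Flat R N] : FlatOff f N := fun J z hz =>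
  ⟨0, by
    rw [pow_zero, one_smul]
    exact Module.Flat.lTensor_preserves_injective_linearMap J.subtype Subtype.val_injective
      (hz.trans (map_zero _).symm)⟩

/-- Kernels of tensored injections are torsion. -/
theorem FlatOff.exists_pow (h : FlatOff f N) {P Q : Type u} [AddCommGroup P] [Module R P] [AddCommGroup Q] [Module R Q]
    (ι : P →ₗ[R] Q) (hι : Function.Injective ι) (z : N ⊗[R] P) (hz : ι.lTensor N z = 0) :
    ∃ k : ℕ, f ^ k • z = 0 := by
  haveI := flatOff_iff_flat.1 h
  obtain ⟨_, ⟨k, rfl⟩, hk⟩ := Groth.L20.exists_smul_eq_zero_of_flat (Submonoid.powers f) ι hι z hz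
  exact ⟨k, hk⟩

theorem FlatOff.congr {N' : Type u} [AddCommGroup N'] [Module R N'] (e : N ≃ₗ[R] N') (h : FlatOff f N) :
    FlatOff f N' := by
  intro J z hz
  obtain ⟨k, hk⟩ := h J (e.symm.toLinearMap.rTensor J z) (by
    rw [← LinearMap.comp_apply, LinearMap.lTensor_comp_rTensor, ← LinearMap.rTensor_comp_lTensor, LinearMap.comp_apply,
      hz, map_zero])
  exact ⟨k, (LinearEquiv.rTensor J e.symm).injective (by
    rw [map_smul, map_zero]; exact hk)⟩

/-- The base change of a module flat off `f` is flat off `f`. -/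
theorem FlatOff.baseChange (R' : Type u) [CommRing R'] [Algebra R R'] (h : FlatOff f N) :
    FlatOff (algebraMap R R' f) (R' ⊗[R] N) := by
  intro J z hz
  let e : (R' ⊗[R] N) ⊗[R'] J ≃ₗ[R'] J ⊗[R] N :=
    (TensorProduct.comm R' (R' ⊗[R] N) J).trans (AlgebraTensorModule.cancelBaseChange R R' R' J N)
  let e' : (R' ⊗[R] N) ⊗[R'] R' ≃ₗ[R'] R' ⊗[R] N :=
    (TensorProduct.comm R' (R' ⊗[R] N) R').trans (AlgebraTensorModule.cancelBaseChange R R' R' R' N)
  have key : ∀ w, e' (J.subtype.lTensor (R' ⊗[R] N) w) = (J.subtype.restrictScalars R).rTensor N (e w) := by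
    intro w
    induction w using TensorProduct.induction_on with
    | zero => simp
    | add a b ha hb => simp only [map_add, ha, hb]
    | tmul a j =>
      induction a using TensorProduct.induction_on with
      | zero => simp
      | add a b ha hb => simp only [TensorProduct.add_tmul, map_add, ha, hb]
      | tmul s n => simp [e, e', TensorProduct.smul_tmul', mul_comm]
  obtain ⟨k, hk⟩ := h.exists_pow (J.subtype.restrictScalars R) Subtype.val_injective
    (TensorProduct.comm R J N (e z)) (by
      have hc : ∀ y, (J.subtype.restrictScalars R).lTensor N (TensorProduct.comm R J N y) =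
          TensorProduct.comm R R' N ((J.subtype.restrictScalars R).rTensor N y) := fun y => by
        induction y using TensorProduct.induction_on with
        | zero => simp
        | tmul a b => simp
        | add a b ha hb => simp only [map_add, ha, hb]
      rw [hc, ← key, hz, map_zero, map_zero])
  refine ⟨k, e.injective ?_⟩
  rw [map_smul, map_zero, ← map_pow, algebraMap_smul]
  exact (TensorProduct.comm R J N).injective (by rw [map_smul, map_zero]; exact hk)

/-- Flatness off `f` ascends to an étale algebra acting on the module. -/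
theorem FlatOff.of_etale {R' : Type u} [CommRing R'] [Algebra R R'] [Algebra.Etale R R'] {M : Type u} [AddCommGroup M]
    [Module R M] [Module R' M] [IsScalarTower R R' M] (h : FlatOff f M) : FlatOff (algebraMap R R' f) M := by
  rw [flatOff_iff_flat] at h ⊢
  let T := Submonoid.powers (algebraMap R R' f)
  have hT : T = (Submonoid.powers f).map (algebraMap R R') := (Submonoid.map_powers _ f).symm
  haveI : Module.Flat R (LocalizedModule T M) :=
    (Groth.L20.flat_localizedModule_iff_of_semilinear (R := R) (algebraMap R R') (LinearEquiv.refl R M)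
      (fun s m => algebraMap_smul R' s m) (Submonoid.powers f) T hT).2 h
  haveI := Groth.L20.RG.isScalarTower_localizedModule (R := R) (R' := R') (S := R') (M := M) T
  exact (Groth.L20.RG.flat_iff_of_etale (R := R) (R' := R') (M := LocalizedModule T M)).1 ‹_›

/-- Flatness off `f` passes to flat algebras over a ring acting on the module. -/
theorem FlatOff.tensor_flat {S : Type u} [CommRing S] [Algebra R S] [Module S N] [IsScalarTower R S N] (C : Type u)
    [CommRing C] [Algebra S C] [Module.Flat S C] (h : FlatOff f N) : FlatOff f (N ⊗[S] C) := by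
  intro J z hz
  let ε := AlgebraTensorModule.rightComm R S S N C J
  let ε' := AlgebraTensorModule.rightComm R S S N C R
  let φ : N ⊗[R] J →ₗ[S] N ⊗[R] R := AlgebraTensorModule.lTensor S N J.subtype
  have key : ∀ y, ε' (J.subtype.lTensor (N ⊗[S] C) y) = φ.rTensor C (ε y) := by
    intro y
    induction y using TensorProduct.induction_on with
    | zero => simp
    | add a b ha hb => simp only [map_add, ha, hb]
    | tmul a j =>
      induction a using TensorProduct.induction_on with
      | zero => simp
      | add a b ha hb => simp only [TensorProduct.add_tmul, map_add, ha, hb]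
      | tmul n c => simp [ε, ε', φ]
  obtain ⟨w, hw⟩ := ((Module.Flat.rTensor_exact C (LinearMap.exact_subtype_ker_map φ)) (ε z)).1
    (by rw [← key, hz, map_zero])
  suffices hkill : ∀ w : LinearMap.ker φ ⊗[S] C, ∃ k : ℕ, f ^ k • (LinearMap.ker φ).subtype.rTensor C w = 0 by
    obtain ⟨k, hk⟩ := hkill w
    refine ⟨k, ε.injective ?_⟩
    rw [LinearEquiv.map_zero, ← algebraMap_smul S (f ^ k) z, LinearEquiv.map_smul, algebraMap_smul, ← hw]
    exact hk
  intro w
  induction w using TensorProduct.induction_on with
  | zero => exact ⟨0, by simp⟩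
  | tmul y c =>
    obtain ⟨k, hk⟩ := h J y.1 (LinearMap.mem_ker.1 y.2)
    exact ⟨k, by rw [LinearMap.rTensor_tmul, TensorProduct.smul_tmul', Submodule.subtype_apply, hk, TensorProduct.zero_tmul]⟩
  | add a b ha hb =>
    obtain ⟨k, hk⟩ := ha
    obtain ⟨l, hl⟩ := hb
    exact ⟨k + l, by rw [map_add, smul_add, pow_add, mul_smul, mul_smul, hl, smul_zero, add_zero, smul_comm, hk, smul_zero]⟩

section Quotient

variable {M : Type u} [AddCommGroup M] [Module R M] (π : M →ₗ[R] N)

/-- Flatness off `f` passes to quotients by torsion. -/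
theorem FlatOff.of_surjective (hsurj : Function.Surjective π) (hker : ∀ m, π m = 0 → ∃ n : ℕ, f ^ n • m = 0)
    (h : FlatOff f M) : FlatOff f N := by
  intro J z hz
  obtain ⟨z, rfl⟩ := LinearMap.rTensor_surjective J hsurj z
  have h1 : π.rTensor R (J.subtype.lTensor M z) = 0 := by
    rw [← LinearMap.comp_apply, LinearMap.rTensor_comp_lTensor, ← LinearMap.lTensor_comp_rTensor, LinearMap.comp_apply, hz]
  obtain ⟨k, hk⟩ : ∃ k : ℕ, f ^ k • J.subtype.lTensor M z = 0 := by
    have h2 : π (TensorProduct.rid R M (J.subtype.lTensor M z)) = 0 := by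
      have hc : ∀ y : M ⊗[R] R, TensorProduct.rid R N (π.rTensor R y) = π (TensorProduct.rid R M y) := fun y => by
        induction y using TensorProduct.induction_on with
        | zero => simp
        | tmul m r => simp
        | add a b ha hb => simp only [map_add, ha, hb]
      rw [← hc, h1, map_zero]
    obtain ⟨k, hk⟩ := hker _ h2
    exact ⟨k, (TensorProduct.rid R M).injective (by rw [map_smul, map_zero]; exact hk)⟩
  obtain ⟨l, hl⟩ := h J (f ^ k • z) (by rw [map_smul, hk])
  exact ⟨l + k, by rw [← map_smul, pow_add, mul_smul, hl, map_zero]⟩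

/-- Flatness off `f` lifts along quotients by torsion. -/
theorem FlatOff.of_torsion_ker (hsurj : Function.Surjective π) (hker : ∀ m, π m = 0 → ∃ n : ℕ, f ^ n • m = 0)
    (h : FlatOff f N) : FlatOff f M := by
  intro J z hz
  obtain ⟨k, hk⟩ := h J (π.rTensor J z) (by
    rw [← LinearMap.comp_apply, LinearMap.lTensor_comp_rTensor, ← LinearMap.rTensor_comp_lTensor, LinearMap.comp_apply,
      hz, map_zero])
  obtain ⟨w, hw⟩ := ((rTensor_exact J (LinearMap.exact_subtype_ker_map π) hsurj) (f ^ k • z)).1 (by rw [map_smul, hk])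
  suffices hkill : ∀ w : LinearMap.ker π ⊗[R] J, ∃ l : ℕ, f ^ l • (LinearMap.ker π).subtype.rTensor J w = 0 by
    obtain ⟨l, hl⟩ := hkill w
    exact ⟨l + k, by rw [pow_add, mul_smul, ← hw, hl]⟩
  intro w
  induction w using TensorProduct.induction_on with
  | zero => exact ⟨0, by simp⟩
  | tmul y c =>
    obtain ⟨l, hl⟩ := hker y.1 (LinearMap.mem_ker.1 y.2)
    exact ⟨l, by rw [LinearMap.rTensor_tmul, TensorProduct.smul_tmul', Submodule.subtype_apply, hl, TensorProduct.zero_tmul]⟩
  | add a b ha hb =>
    obtain ⟨l, hl⟩ := ha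
    obtain ⟨i, hi⟩ := hb
    exact ⟨l + i, by rw [map_add, smul_add, pow_add, mul_smul, mul_smul, hi, smul_zero, add_zero, smul_comm, hl, smul_zero]⟩

end Quotient

/-- The cokernel of a universally injective map into a module flat off `f` is flat off `f`. -/
theorem FlatOff.quotient_range {M : Type u} [AddCommGroup M] [Module R M] (α : M →ₗ[R] N)
    (hinj : ∀ (J : Ideal R), Function.Injective (α.rTensor (R ⧸ J))) (h : FlatOff f N) :
    FlatOff f (N ⧸ LinearMap.range α) := by
  intro J z hz
  let π := (LinearMap.range α).mkQ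
  obtain ⟨z, rfl⟩ := LinearMap.rTensor_surjective J (g := π) (Submodule.mkQ_surjective _) z
  have h1 : π.rTensor R (J.subtype.lTensor N z) = 0 := by
    rw [← LinearMap.comp_apply, LinearMap.rTensor_comp_lTensor, ← LinearMap.lTensor_comp_rTensor, LinearMap.comp_apply, hz]
  obtain ⟨a, ha⟩ := ((rTensor_exact R (LinearMap.exact_map_mkQ_range α) (Submodule.mkQ_surjective _)) _).1 h1
  have hexJ := LinearMap.exact_subtype_mkQ J
  have hcm : ∀ y : M ⊗[R] R, (J.mkQ).lTensor N (α.rTensor R y) = α.rTensor (R ⧸ J) (J.mkQ.lTensor M y) := fun y => by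
    rw [← LinearMap.comp_apply, LinearMap.lTensor_comp_rTensor, ← LinearMap.rTensor_comp_lTensor, LinearMap.comp_apply]
  have h2 : J.mkQ.lTensor M a = 0 := hinj J (by
    rw [map_zero, ← hcm, ha, ← LinearMap.comp_apply, ← LinearMap.lTensor_comp, hexJ.linearMap_comp_eq_zero,
      LinearMap.lTensor_zero, LinearMap.zero_apply])
  obtain ⟨w, hw⟩ := ((lTensor_exact M hexJ (Submodule.mkQ_surjective _)) a).1 h2
  obtain ⟨k, hk⟩ := h J (z - α.rTensor J w) (by
    rw [map_sub, ← LinearMap.comp_apply, LinearMap.lTensor_comp_rTensor, ← LinearMap.rTensor_comp_lTensor,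
      LinearMap.comp_apply, hw, ha, sub_self])
  refine ⟨k, ?_⟩
  have h3 : π.rTensor J (α.rTensor J w) = 0 := by
    rw [← LinearMap.comp_apply, ← LinearMap.rTensor_comp, (LinearMap.exact_map_mkQ_range α).linearMap_comp_eq_zero,
      LinearMap.rTensor_zero, LinearMap.zero_apply]
  rw [← map_smul, show f ^ k • z = f ^ k • α.rTensor J w by rwa [← sub_eq_zero, ← smul_sub], map_smul, h3, smul_zero]

end Groth.L20.BlowFlat
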