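import Groth.Agent.L20.BlowFlat.Step
import Groth.Agent.S1287
import Groth.Agent.L20.RG.BasisFlat
import Groth.Agent.L20.RG.GenRank

/-!
# The centre making the rank constant, and flattening over a nice algebra
-/

set_option autoImplicit false
set_option linter.style.haveILetI false
set_option backward.isDefEq.respectTransparency.types false
universe u

open TensorProduct nonZeroDivisors

namespace Groth.L20.BlowFlat

open Groth.L13.Fitting
open Groth.L20.RG (DomFib)

attribute [local instance] Algebra.TensorProduct.rightAlgebra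

variable {R : Type u} [CommRing R] {f : R} {D : Type u} [CommRing D] [Algebra R D] {m : ℕ}
  {G : Type u} [AddCommGroup G] [Module D G] [Module R G] [IsScalarTower R D G]

theorem hasCentre_bc {T : Type u} [CommRing T] [Algebra R T] {t : T} (h : HasCentre t ((T ⊗[R] D) ⊗[D] G)) :
    HasCentre t (T ⊗[R] G) :=
  HasCentre.congr (Algebra.IsPushout.cancelBaseChange R T D (T ⊗[R] D) G).symm h

/-- Each coefficient ideal of the Fitting ideals, with a complementary element. -/
theorem exists_rank_pieces (hN : Nice m R D) [Module.FinitePresentation D G] (hflat : FlatOff f G) (r : ℕ) :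
    ∃ (J : Ideal R) (u : R) (N : ℕ), J.FG ∧ Fitt.ideal D G r ≤ J.map (algebraMap R D) ∧ (∀ y ∈ J, u * y = 0) ∧
      f ^ N ∈ J ⊔ Ideal.span {u} ∧
      ∀ (R' D' : Type u) [CommRing R'] [CommRing D'] [Algebra R R'] [Algebra R' D'] [Algebra D D'] [Algebra R D']
        [IsScalarTower R R' D'] [IsScalarTower R D D'] [Algebra.IsPushout R R' D D'] (K : Ideal R'),
        (Fitt.ideal D G r).map (algebraMap D D') ≤ K.map (algebraMap R' D') → J.map (algebraMap R R') ≤ K := by
  classical
  haveI := hN.proj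
  haveI : Algebra.Smooth R D := Groth.L20.RG.smooth_of_relDim hN.relDim
  haveI : Module.Flat R D := Algebra.Smooth.flat R D
  obtain ⟨J, hJ, hEJ, hann, hmin⟩ := exists_content (R := R) (Fitt.ideal D G r) (ideal_fg_of_finitePresentation r)
  have hrad : f ∈ (J ⊔ Submodule.annihilator J).radical := by
    rw [Ideal.radical_eq_sInf, Submodule.mem_sInf]
    rintro p ⟨hle, hp⟩
    by_contra hfp
    haveI := Groth.L20.RG.isPrime_map_of_domFib hN.dom p
    haveI := Groth.L20.RG.liesOver_map (D := D) p hN.dom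
    let q := Ideal.map (algebraMap R D) p
    have hfq : algebraMap R D f ∉ q := fun h => hfp ((Ideal.mem_of_liesOver q p f).2 h)
    haveI : Module.Flat R (LocalizedModule q.primeCompl G) := by
      rw [Groth.L20.flat_localizedModule_iff_forall]
      intro I z hz
      obtain ⟨k, hk⟩ := hflat I z hz
      exact ⟨algebraMap R D f ^ k, pow_mem (show algebraMap R D f ∈ q.primeCompl from hfq) k,
        by rw [← map_pow, algebraMap_smul]; exact hk⟩
    haveI : Module.Free (Localization.AtPrime q) (LocalizedModule q.primeCompl G) :=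
      Groth.L20.RG.free_of_flat_of_map_eq p (Groth.L20.RG.map_atPrime_eq p) _
    let b := Module.finBasis (Localization.AtPrime q) (LocalizedModule q.primeCompl G)
    let k := Module.finrank (Localization.AtPrime q) (LocalizedModule q.primeCompl G)
    rcases le_or_gt k r with hkr | hkr
    · exact (not_le_iff_gens q k).2 ⟨b, b.span_eq⟩
        (((ideal_mono hkr).trans hEJ).trans (Ideal.map_mono (le_sup_left.trans hle)))
    · obtain ⟨F, hF⟩ := ideal_fg_of_finitePresentation (R := D) (M := G) r
      have hd : ∀ d : F, ∃ β : R, β ∉ p ∧ β • d.1 = 0 := fun d => by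
        obtain ⟨w, hw, hwd⟩ := killed_of_localization_bot q.primeCompl (M := G) (r := r)
          (by rw [ideal_of_basis b, if_neg (by omega)]) (hF ▸ Ideal.subset_span d.2 : d.1 ∈ Fitt.ideal D G r)
        exact Groth.Agent.S1287.exists_pow_smul_eq_zero hN.dom p hw hwd
      choose β hβ hβd using hd
      have hkill : ∀ d ∈ Fitt.ideal D G r, (∏ d, β d) • d = 0 := fun d hd => by
        rw [← hF] at hd
        induction hd using Submodule.span_induction with
        | mem d hd =>
          rw [← Finset.prod_erase_mul _ _ (Finset.mem_univ (⟨d, hd⟩ : F)), mul_smul, hβd ⟨d, hd⟩, smul_zero]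
        | zero => rw [smul_zero]
        | add d d' _ _ h h' => rw [smul_add, h, h', add_zero]
        | smul a d _ h => rw [smul_comm, h, smul_zero]
      have hmem : (∏ d, β d) ∈ p := hle (Submodule.mem_sup_right (Submodule.mem_annihilator.2 fun y hy => hann _ hkill y hy))
      obtain ⟨d, -, hd⟩ := (Ideal.IsPrime.prod_mem_iff).1 hmem
      exact hβ d hd
  obtain ⟨N, hN'⟩ := hrad
  obtain ⟨y, hy, u, hu, hsum⟩ := Submodule.mem_sup.1 hN'
  exact ⟨J, u, N, hJ, hEJ, fun y hy => Submodule.mem_annihilator.1 hu y hy,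
    hsum ▸ add_mem (Submodule.mem_sup_left hy) (Submodule.mem_sup_right (Ideal.mem_span_singleton_self u)), hmin⟩

/-- Near a prime, one of the two alternatives holds in an algebra making `J + (u)` invertible. -/
theorem exists_dichotomy {J : Ideal R} {u : R} {N : ℕ} (hJ : J.FG) (hu : ∀ y ∈ J, u * y = 0)
    (hN : f ^ N ∈ J ⊔ Ideal.span {u}) {T : Type u} [CommRing T] [Algebra R T] (h : Inv (J ⊔ Ideal.span {u}) T)
    (m : Ideal T) (hm : m.IsMaximal) :
    ∃ s ∉ m, ∀ (A : Type u) [CommRing A] [Algebra R A] (ψ : Localization.Away s →ₐ[R] A),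
      (∀ x ∈ (Localization.Away s)⁰, ψ x ∈ A⁰) →
      J.map (algebraMap R A) = ⊥ ∨
        ∃ j ∈ A⁰, J.map (algebraMap R A) = Ideal.span {j} ∧ algebraMap R A f ^ N ∈ Ideal.span {j} := by
  classical
  obtain ⟨F, hF⟩ := hJ
  replace hF : Ideal.span (F : Set R) = J := hF
  have hG : Ideal.span ((insert u F : Finset R) : Set R) = J ⊔ Ideal.span {u} := by
    rw [Finset.coe_insert, Ideal.span_insert, hF, sup_comm]
  obtain ⟨s, hs, g, hg, hreg, hgen⟩ := exists_local_generator hG h m hm
  refine ⟨s, hs, fun A _ _ ψ hψ => ?_⟩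
  have hgen' : ∀ x ∈ J ⊔ Ideal.span {u}, algebraMap R A x ∈ Ideal.span {algebraMap R A g} := fun x hx => by
    obtain ⟨w, hw⟩ := Ideal.mem_span_singleton'.1 (hgen ▸ Ideal.mem_map_of_mem _ hx :
      algebraMap R (Localization.Away s) x ∈ Ideal.span {algebraMap R (Localization.Away s) g})
    exact Ideal.mem_span_singleton'.2 ⟨ψ w, by rw [← ψ.commutes g, ← map_mul, hw, ψ.commutes]⟩
  have hregA : algebraMap R A g ∈ A⁰ := ψ.commutes g ▸ hψ _ hreg
  rcases Finset.mem_insert.1 hg with rfl | hgF
  · refine Or.inl (le_bot_iff.1 (Ideal.map_le_iff_le_comap.2 fun y hy => ?_))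
    rw [Ideal.mem_comap, Ideal.mem_bot, ← mul_right_mem_nonZeroDivisors_eq_zero_iff hregA, ← map_mul, mul_comm,
      hu y hy, map_zero]
  · refine Or.inr ⟨_, hregA, le_antisymm (Ideal.map_le_iff_le_comap.2 fun y hy => hgen' y (Submodule.mem_sup_left hy))
      ((Ideal.span_singleton_le_iff_mem _).2 (Ideal.mem_map_of_mem _ (hF ▸ Ideal.subset_span hgF))), ?_⟩
    rw [← map_pow]; exact hgen' _ hN

/-- A minor dividing its neighbours gives a centre. -/
theorem hasCentre_of_minor (hf : f ∈ R⁰) (ih : CentresBelow.{u} m) (hN : Nice m R D) [Module.FinitePresentation D G]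
    (hflat : FlatOff f G) {n r N : ℕ} {x : Fin n → G} (hx : Submodule.span D (Set.range x) = ⊤)
    (z : Fin (n - r) → Fin n → D) (hz : ∀ s, ∑ i, z s i • x i = 0) (e : Fin (n - r) → Fin n) {j : R} {c : D}
    (hje : minor z e = algebraMap R D j * c)
    (hjle : ∀ e' : Fin (n - r) → Fin n, minor z e' ∈ Ideal.span {algebraMap R D j}) (hj : j ∈ R⁰) (hjf : f ^ N ∈ Ideal.span {j})
    (hc : ∀ (Q : Type u) [AddCommGroup Q] [Module R Q], Function.Injective ((LinearMap.mulLeft R c).lTensor Q))
    (hbot : ∀ i, i < r → Fitt.ideal D G i = ⊥) : HasCentre f G := by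
  haveI : Algebra.Smooth R D := Groth.L20.RG.smooth_of_relDim hN.relDim
  haveI : Module.Flat R D := Algebra.Smooth.flat R D
  have hreg : ∀ a : R, a ∈ R⁰ → algebraMap R D a ∈ D⁰ := fun a ha =>
    mem_nonZeroDivisors_iff_right.2 fun y hy =>
      Module.Flat.isSMulRegular_of_nonZeroDivisors (M := D) ha (show a • y = a • 0 by
        rw [smul_zero, Algebra.smul_def, mul_comm, hy])
  refine hasCentre_of_split hf ih hN hflat hc (hasSplit_of_minor (hreg f hf) hx z hz e hje hjle (hreg j hj)
    (fun g hg => ?_) ?_ hbot)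
  · obtain ⟨q, hq⟩ := Ideal.mem_span_singleton'.1 hjf
    exact ⟨N, by rw [← map_pow, ← hq, map_mul, mul_smul, hg, smul_zero]⟩
  · rw [mem_nonZeroDivisors_iff_right]
    intro y hy
    have h1 : (LinearMap.mulLeft R c).lTensor R ((1 : R) ⊗ₜ[R] y) = 0 := by
      rw [LinearMap.lTensor_tmul, LinearMap.mulLeft_apply, mul_comm, hy, TensorProduct.tmul_zero]
    simpa using congrArg (TensorProduct.lid R D) (hc R (h1.trans (map_zero _).symm))

/-- A minor regular at the generic point of a fibre gives a centre near that point of the base. -/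
theorem hasCentre_near (hf : f ∈ R⁰) (ih : CentresBelow.{u} m) (hN : Nice m R D) [Module.FinitePresentation D G]
    (hflat : FlatOff f G) (p : Ideal R) [p.IsPrime] {n r N : ℕ} {x : Fin n → G} (hx : Submodule.span D (Set.range x) = ⊤)
    (z : Fin (n - r) → Fin n → D) (hz : ∀ s, ∑ i, z s i • x i = 0) (e : Fin (n - r) → Fin n) {j : R} {c : D}
    (hje : minor z e = algebraMap R D j * c)
    (hjle : ∀ e' : Fin (n - r) → Fin n, minor z e' ∈ Ideal.span {algebraMap R D j}) (hj : j ∈ R⁰)
    (hjf : f ^ N ∈ Ideal.span {j}) (hc : c ∉ p.map (algebraMap R D))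
    (hbot : ∀ i, i < r → Fitt.ideal D G i = ⊥) :
    ∃ a ∉ p, HasCentre (algebraMap R (Localization.Away a) f) (Localization.Away a ⊗[R] G) := by
  haveI : Algebra.Smooth R D := Groth.L20.RG.smooth_of_relDim hN.relDim
  haveI : Module.Flat R D := Algebra.Smooth.flat R D
  obtain ⟨a, ha, hU⟩ := Groth.L20.RG.exists_nhd_univInj hN.dom p hc
  refine ⟨a, ha, ?_⟩
  let B := Localization.Away a
  let DB := B ⊗[R] D
  haveI : Module.Flat R B := IsLocalization.flat _ (Submonoid.powers a)
  have hregB : ∀ y ∈ R⁰, algebraMap R B y ∈ B⁰ := fun y hy => mem_nonZeroDivisors_iff_right.2 fun w hw =>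
    Module.Flat.isSMulRegular_of_nonZeroDivisors (M := B) hy
      (show y • w = y • (0 : B) by rw [smul_zero, Algebra.smul_def, mul_comm, hw])
  have hmap : ∀ y : R, algebraMap B DB (algebraMap R B y) = algebraMap D DB (algebraMap R D y) := fun y => by
    rw [← IsScalarTower.algebraMap_apply, ← IsScalarTower.algebraMap_apply]
  refine hasCentre_bc (D := D) ?_
  refine hasCentre_of_minor (N := N) (hregB _ hf) ih (hN.baseChange B DB)
    ((hflat.baseChange B).congr (Algebra.IsPushout.cancelBaseChange R B D DB G).symm)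
    (span_bc DB x hx) (fun s => phi DB (z s)) (fun s => mem_rel.1 (phi_mem_rel DB (mem_rel.2 (hz s)))) e
    (j := algebraMap R B j) (c := algebraMap D DB c) ?_ (fun e' => ?_) (hregB j hj) ?_ ?_ fun i hi => ?_
  · rw [minor_phi, hje, map_mul, hmap]
  · rw [minor_phi, hmap, ← Set.image_singleton, ← Ideal.map_span]
    exact Ideal.mem_map_of_mem _ (hjle e')
  · rw [← map_pow, ← Set.image_singleton, ← Ideal.map_span]
    exact Ideal.mem_map_of_mem _ hjf
  · intro Q _ _
    exact hU Q
  · rw [ideal_baseChange, hbot i hi, Ideal.map_bot]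

/-- **Flattening over a nice algebra.** -/
theorem hasCentre_core (hf : f ∈ R⁰) (ih : CentresBelow.{u} m) (hN : Nice m R D) [Module.FinitePresentation D G]
    (hflat : FlatOff f G) : HasCentre f G := by
  classical
  obtain ⟨n, x, hx⟩ := exists_gens (R := D) (M := G)
  choose J u N hJ hEJ hu hNm hmin using fun r : Fin (n + 1) => exists_rank_pieces hN hflat r.1
  have hK : ∀ r, IsCentre f (Ideal.span {f} * (J r ⊔ Ideal.span {u r})) := fun r =>
    ⟨(Submodule.fg_span_singleton f).mul (Submodule.FG.sup (hJ r) (Submodule.fg_span_singleton _)), by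
      rw [Ideal.radical_mul, inf_eq_left]
      exact Ideal.radical_le_radical_iff.2 ((Ideal.span_singleton_le_iff_mem _).2 ⟨N r, hNm r⟩)⟩
  obtain ⟨I, hI, hIinv⟩ := exists_centre_forall _ hK
  suffices key : ∀ (T : Type u) [CommRing T] [Algebra R T], Inv I T → HasCentre (algebraMap R T f) (T ⊗[R] G) by
    exact hasCentre_of_charts hI fun a ha => key _ (chart_inv ha)
  intro T _ _ hT
  have hfT : algebraMap R T f ∈ T⁰ := hT.nonZeroDivisors hI.le_radical
  let DT := T ⊗[R] D
  let GT := DT ⊗[D] G
  refine hasCentre_bc (D := D) ?_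
  refine hasCentre_of_base_cover hfT DT (N := GT) ?_
  intro p hp
  obtain ⟨mx, hmx, hpm⟩ := Ideal.exists_le_maximal p hp.ne_top
  choose s hs hdich using fun r => exists_dichotomy (hJ r) (hu r) (hNm r) (hIinv T hT r).mul_right mx hmx
  let b := ∏ r, s r
  have hb : b ∉ mx := fun h => by
    haveI := hmx.isPrime
    obtain ⟨r, -, hr⟩ := Ideal.IsPrime.prod_mem_iff.1 h
    exact hs r hr
  refine ⟨b, fun h => hb (hpm h), ?_⟩
  let A := Localization.Away b
  haveI : Module.Flat T A := IsLocalization.flat _ (Submonoid.powers b)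
  have hdA : ∀ r, (J r).map (algebraMap R A) = ⊥ ∨
      ∃ j ∈ A⁰, (J r).map (algebraMap R A) = Ideal.span {j} ∧ algebraMap R A f ^ N r ∈ Ideal.span {j} := by
    intro r
    obtain ⟨ψ, hψ⟩ := exists_awayMap (A := T) (B := T) (s r) (s' := b)
      (Finset.dvd_prod_of_mem _ (Finset.mem_univ r))
    refine hdich r A { ψ with commutes' := fun x => ?_ } fun y hy => nzd_awayMap (s r) b ψ hψ hy
    show ψ (algebraMap R (Localization.Away (s r)) x) = algebraMap R A x
    rw [IsScalarTower.algebraMap_apply R T (Localization.Away (s r)), hψ, ← IsScalarTower.algebraMap_apply T T,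
      ← IsScalarTower.algebraMap_apply]
  -- everything over `A`
  let DA := A ⊗[R] D
  let GA := DA ⊗[D] G
  have hfA : algebraMap R A f ∈ A⁰ := (hT.map (T' := A)).nonZeroDivisors hI.le_radical
  have hNA : Nice m A DA := hN.baseChange A DA
  haveI : Algebra.Smooth A DA := Groth.L20.RG.smooth_of_relDim hNA.relDim
  haveI : Module.Flat A DA := Algebra.Smooth.flat A DA
  have hflatA : FlatOff (algebraMap R A f) GA :=
    (hflat.baseChange A).congr (Algebra.IsPushout.cancelBaseChange R A D DA G).symm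
  suffices hA : HasCentre (algebraMap R A f) GA by
    rw [← IsScalarTower.algebraMap_apply]
    exact HasCentre.congr (((AlgebraTensorModule.congr (LinearEquiv.refl A A)
      (Algebra.IsPushout.cancelBaseChange R T D DT G)).trans (AlgebraTensorModule.cancelBaseChange R T A A G)).trans
      (Algebra.IsPushout.cancelBaseChange R A D DA G).symm) hA
  refine hasCentre_of_base_cover hfA DA fun p' hp' => ?_
  haveI := hp'
  haveI : Nontrivial A := Ideal.Quotient.mk_surjective.nontrivial (f := Ideal.Quotient.mk p')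
  haveI hQ := Groth.L20.RG.isPrime_map_of_domFib hNA.dom p'
  have hex : ∃ r : ℕ, ∃ hr : r < n + 1, (J ⟨r, hr⟩).map (algebraMap R A) ≠ ⊥ := by
    refine ⟨n, n.lt_succ_self, fun h0 => hQ.ne_top (top_le_iff.1 ?_)⟩
    have h1 := Ideal.map_mono (f := algebraMap D DA) (hEJ ⟨n, n.lt_succ_self⟩)
    rw [ideal_eq_tup x hx, tup_eq_top x le_rfl, Ideal.map_top, Ideal.map_map, ← IsScalarTower.algebraMap_eq R D DA,
      IsScalarTower.algebraMap_eq R A DA, ← Ideal.map_map, h0, Ideal.map_bot] at h1
    exact h1.trans bot_le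
  let r := Nat.find hex
  obtain ⟨hr, hne⟩ := Nat.find_spec hex
  obtain ⟨j, hj, hJj, hjf⟩ := (hdA ⟨r, hr⟩).resolve_left hne
  have hbot : ∀ i, i < r → Fitt.ideal DA GA i = ⊥ := fun i hi => by
    have h0 : (J ⟨i, hi.trans hr⟩).map (algebraMap R A) = ⊥ := by
      by_contra hne'
      exact Nat.find_min hex hi ⟨hi.trans hr, hne'⟩
    rw [ideal_baseChange, ← le_bot_iff]
    refine (Ideal.map_mono (hEJ ⟨i, hi.trans hr⟩)).trans ?_
    rw [Ideal.map_map, ← IsScalarTower.algebraMap_eq R D DA, IsScalarTower.algebraMap_eq R A DA, ← Ideal.map_map, h0,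
      Ideal.map_bot]
  have hle : ∀ d ∈ Fitt.ideal D G r, algebraMap D DA d ∈ Ideal.span {algebraMap A DA j} := fun d hd => by
    have h1 := Ideal.mem_map_of_mem (algebraMap D DA) (hEJ ⟨r, hr⟩ hd)
    rwa [Ideal.map_map, ← IsScalarTower.algebraMap_eq R D DA, IsScalarTower.algebraMap_eq R A DA, ← Ideal.map_map,
      hJj, Ideal.map_span, Set.image_singleton] at h1
  obtain ⟨z, e, hz, c, hc, hcQ⟩ : ∃ (z : Fin (n - r) → Fin n → D) (e : Fin (n - r) → Fin n),
      (∀ s, ∑ i, z s i • x i = 0) ∧ ∃ c : DA, algebraMap D DA (minor z e) = algebraMap A DA j * c ∧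
        c ∉ p'.map (algebraMap A DA) := by
    by_contra hall
    push Not at hall
    have hk : (Fitt.ideal D G r).map (algebraMap D DA) ≤ (Ideal.span {j} * p').map (algebraMap A DA) := by
      rw [ideal_eq_tup x hx, tup_eq_minors, Ideal.map_le_iff_le_comap, minors, Ideal.span_le]
      rintro _ ⟨z, e, hz, rfl⟩
      obtain ⟨c, hc⟩ := Ideal.mem_span_singleton.1 (hle _ (minor_mem_ideal hx hz e))
      rw [SetLike.mem_coe, Ideal.mem_comap]
      show algebraMap D DA (minor z e) ∈ _
      rw [hc, Ideal.map_mul, Ideal.map_span, Set.image_singleton]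
      exact Ideal.mul_mem_mul (Ideal.mem_span_singleton_self _) (hall z e hz c hc)
    have h2 := hmin ⟨r, hr⟩ A DA _ hk
    rw [hJj, Ideal.span_singleton_le_iff_mem, Ideal.mem_span_singleton_mul] at h2
    obtain ⟨q, hq, hqj⟩ := h2
    have : q = 1 := (mul_cancel_left_mem_nonZeroDivisors hj).1 (hqj.trans (mul_one _).symm)
    exact hp'.ne_top ((Ideal.eq_top_iff_one _).2 (this ▸ hq))
  refine hasCentre_near hfA ih hNA hflatA p' (span_bc DA x hx) (fun s => phi DA (z s))
    (fun s => mem_rel.1 (phi_mem_rel DA (mem_rel.2 (hz s)))) e (j := j) (c := c) ?_ (fun e' => ?_) hj hjf hcQ hbot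
  · rw [minor_phi, hc]
  · rw [minor_phi]
    exact hle _ (minor_mem_ideal hx hz e')

end Groth.L20.BlowFlat
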