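import Groth.Agent.L20.BlowFlat.Affine
import Groth.Agent.L20.BlowFlat.Rank

/-!
# Freeness of the strict transform at the generic points of the fibres
-/

set_option autoImplicit false
set_option linter.style.haveILetI false
set_option backward.isDefEq.respectTransparency.types false
universe u

open TensorProduct nonZeroDivisors

noncomputable section

namespace Groth.L20.BlowFlat

open Groth.L13.Fitting
open Groth.L20.RG (DomFib)

/-- A module split by a unit modulo torsion is free modulo torsion. -/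
theorem free_of_split {A : Type u} [CommRing A] {M : Type u} [AddCommGroup M] [Module A M] {g : A} {t : A}
    (L : Type u) [CommRing L] [Algebra A L] [IsLocalization.Away g L] (ht : algebraMap A L t ∈ L⁰)
    {ML : Type u} [AddCommGroup ML] [Module L ML] (e : L ⊗[A] M ≃ₗ[L] ML) {c : L} (hc : IsUnit c)
    (h : HasSplit (algebraMap A L t) ML c) :
    Module.Free L (L ⊗[A] (M ⧸ FlatCA.powTorsion A t M)) ∧ Module.Finite L (L ⊗[A] (M ⧸ FlatCA.powTorsion A t M)) := by
  classical
  obtain ⟨k, α, ρ, hρα, htor⟩ := h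
  obtain ⟨d, hdc⟩ := hc.exists_left_inv
  let T := FlatCA.powTorsion A t M
  let π : L ⊗[A] M →ₗ[L] L ⊗[A] (M ⧸ T) := T.mkQ.baseChange L
  have hπ : Function.Surjective π := LinearMap.lTensor_surjective L T.mkQ_surjective
  let ρ' : L ⊗[A] M →ₗ[L] (Fin k → L) := d • (ρ.comp e.toLinearMap)
  let α' : (Fin k → L) →ₗ[L] L ⊗[A] M := e.symm.toLinearMap.comp α
  have hρα' : ∀ v, ρ' (α' v) = v := fun v => by
    simp [ρ', α', hρα, smul_smul, hdc]
  haveI hloc : IsLocalizedModule (Submonoid.powers g) (TensorProduct.mk A L M 1) :=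
    (isLocalizedModule_iff_isBaseChange (Submonoid.powers g) L _).2 (TensorProduct.isBaseChange A M L)
  have hkill : ∀ x : L ⊗[A] M, (∃ n : ℕ, algebraMap A L t ^ n • x = 0) → π x = 0 := by
    rintro x ⟨n, hn⟩
    obtain ⟨⟨m, s⟩, hs⟩ := IsLocalizedModule.surj (Submonoid.powers g) (TensorProduct.mk A L M 1) x
    have h1 : (TensorProduct.mk A L M 1) (t ^ n • m) = 0 := by
      rw [map_smul, ← hs, Submonoid.smul_def, smul_comm, ← algebraMap_smul L (t ^ n) x, map_pow, hn, smul_zero]
    obtain ⟨s', hs'⟩ := (IsLocalizedModule.eq_zero_iff (Submonoid.powers g) (TensorProduct.mk A L M 1)).1 h1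
    have h2 : T.mkQ ((s' : A) • m) = 0 :=
      (Submodule.Quotient.mk_eq_zero T).2 ((mem_powTorsion_iff _ _).2 ⟨n, by rw [smul_comm]; exact hs'⟩)
    have h3 : ((s' : A) * s) • π x = 0 := by
      rw [mul_smul, ← LinearMap.map_smul_of_tower π (s : A), show (s : A) • x = (1 : L) ⊗ₜ[A] m from hs, ← LinearMap.map_smul_of_tower π]
      show T.mkQ.baseChange L ((s' : A) • ((1 : L) ⊗ₜ[A] m)) = 0
      rw [← TensorProduct.tmul_smul, LinearMap.baseChange_tmul, h2, TensorProduct.tmul_zero]
    rw [← algebraMap_smul L] at h3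
    exact (IsUnit.smul_eq_zero (IsLocalization.map_units L (s' * s))).1 h3
  have hsect : ∀ x, π (α' (ρ' x)) = π x := fun x => by
    obtain ⟨n, hn⟩ := htor (e x)
    have hz : π (x - α' (ρ' x)) = 0 := by
      refine hkill _ ⟨n, ?_⟩
      have hx : x - α' (ρ' x) = d • e.symm (c • e x - α (ρ (e x))) := by
        simp [α', ρ', smul_sub, smul_smul, hdc]
      rw [hx, smul_comm, ← map_smul, hn, map_zero, smul_zero]
    rw [map_sub, sub_eq_zero] at hz
    exact hz.symm
  let φ : M ⧸ T →ₗ[A] (Fin k → L) := T.liftQ ((ρ'.restrictScalars A).comp (TensorProduct.mk A L M 1)) fun m hm => by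
    obtain ⟨n, hn⟩ := (mem_powTorsion_iff _ _).1 hm
    rw [LinearMap.mem_ker]
    have h1 : algebraMap A L t ^ n • ρ' ((1 : L) ⊗ₜ[A] m) = 0 := by
      rw [← map_smul, ← map_pow, algebraMap_smul, ← TensorProduct.tmul_smul, hn, TensorProduct.tmul_zero, map_zero]
    funext i
    exact (mul_right_mem_nonZeroDivisors_eq_zero_iff (pow_mem ht n)).1
      ((mul_comm _ _).trans (congrFun h1 i))
  let ψ : L ⊗[A] (M ⧸ T) →ₗ[L] (Fin k → L) := φ.liftBaseChange L
  have hψ : ∀ x, ψ (π x) = ρ' x := fun x => by
    induction x using TensorProduct.induction_on with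
    | zero => simp
    | add x y hx hy => simp only [map_add, hx, hy]
    | tmul a m =>
      rw [show a ⊗ₜ[A] m = a • ((1 : L) ⊗ₜ[A] m) by rw [TensorProduct.smul_tmul', smul_eq_mul, mul_one],
        map_smul, map_smul, map_smul]
      congr 1
      simp [ψ, π, φ]
  let E : (L ⊗[A] (M ⧸ T)) ≃ₗ[L] (Fin k → L) := LinearEquiv.ofLinear ψ (π.comp α')
    (LinearMap.ext fun v => by simp [hψ, hρα'])
    (LinearMap.ext fun y => by
      obtain ⟨x, rfl⟩ := hπ y
      simp [hψ, hsect])
  exact ⟨Module.Free.of_equiv E.symm, Module.Finite.equiv E.symm⟩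

variable {R D : Type u} [CommRing R] [CommRing D] [Algebra R D] [Module.Flat R D]

/-- The ideal `pD` lies over `p`. -/
theorem mem_of_map_mem (hdom : DomFib R D) (p : Ideal R) [p.IsPrime] {r : R}
    (h : algebraMap R D r ∈ p.map (algebraMap R D)) : r ∈ p := by
  haveI := hdom p.ResidueField
  haveI : Nontrivial (p.Fiber D) := inferInstanceAs (Nontrivial (p.ResidueField ⊗[R] D))
  by_contra hr
  have hu : IsUnit (algebraMap R p.ResidueField r) :=
    IsUnit.mk0 _ fun h0 => hr (Ideal.algebraMap_residueField_eq_zero.1 h0)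
  have h0 := (Groth.L20.RG.one_tmul_eq_zero_iff p _).2 h
  rw [Algebra.algebraMap_eq_smul_one, TensorProduct.tmul_smul, ← algebraMap_smul p.ResidueField r] at h0
  exact one_ne_zero (α := p.Fiber D) ((IsUnit.smul_eq_zero hu).1 h0)

variable [Module.Projective R D] [Algebra.FinitePresentation R D]
  {N : Type u} [AddCommGroup N] [Module D N] [Module R N] [IsScalarTower R D N] [Module.FinitePresentation D N]

/-- Coefficient ideals of the Fitting ideals for flatness at the generic points of fibres off `V(G)`. -/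
theorem exists_rank_pieces_ideal (hdom : DomFib R D) (G : Finset R)
    (hflat : ∀ (p : Ideal R) [p.IsPrime] [(p.map (algebraMap R D)).IsPrime], ¬ Ideal.span (G : Set R) ≤ p →
      Module.Flat R (LocalizedModule (p.map (algebraMap R D)).primeCompl N)) (r : ℕ) :
    ∃ (J : Ideal R) (E : Finset R), J.FG ∧ Fitt.ideal D N r ≤ J.map (algebraMap R D) ∧
      (∀ w ∈ E, ∀ y ∈ J, w * y = 0) ∧ Ideal.span (G : Set R) ≤ (J ⊔ Ideal.span (E : Set R)).radical ∧
      ∀ (R' D' : Type u) [CommRing R'] [CommRing D'] [Algebra R R'] [Algebra R' D'] [Algebra D D'] [Algebra R D']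
        [IsScalarTower R R' D'] [IsScalarTower R D D'] [Algebra.IsPushout R R' D D'] (K : Ideal R'),
        (Fitt.ideal D N r).map (algebraMap D D') ≤ K.map (algebraMap R' D') → J.map (algebraMap R R') ≤ K := by
  classical
  obtain ⟨J, hJ, hEJ, hann, hmin⟩ := exists_content (R := R) (Fitt.ideal D N r) (ideal_fg_of_finitePresentation r)
  have hrad : Ideal.span (G : Set R) ≤ (J ⊔ Submodule.annihilator J).radical := by
    rw [Ideal.radical_eq_sInf, le_sInf_iff]
    rintro p ⟨hle, hp⟩
    by_contra hGp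
    haveI := Groth.L20.RG.isPrime_map_of_domFib hdom p
    let q := Ideal.map (algebraMap R D) p
    haveI := hflat p hGp
    haveI : Module.Free (Localization.AtPrime q) (LocalizedModule q.primeCompl N) :=
      Groth.L20.RG.free_of_flat_of_map_eq p (Groth.L20.RG.map_atPrime_eq p) _
    let b := Module.finBasis (Localization.AtPrime q) (LocalizedModule q.primeCompl N)
    let k := Module.finrank (Localization.AtPrime q) (LocalizedModule q.primeCompl N)
    rcases le_or_gt k r with hkr | hkr
    · exact (not_le_iff_gens q k).2 ⟨b, b.span_eq⟩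
        (((ideal_mono hkr).trans hEJ).trans (Ideal.map_mono (le_sup_left.trans hle)))
    · obtain ⟨F, hF⟩ := ideal_fg_of_finitePresentation (R := D) (M := N) r
      have hd : ∀ d : F, ∃ β : R, β ∉ p ∧ β • d.1 = 0 := fun d => by
        obtain ⟨w, hw, hwd⟩ := killed_of_localization_bot q.primeCompl (M := N) (r := r)
          (by rw [ideal_of_basis b, if_neg (by omega)]) (hF ▸ Ideal.subset_span d.2 : d.1 ∈ Fitt.ideal D N r)
        exact Groth.Agent.S1287.exists_pow_smul_eq_zero hdom p hw hwd
      choose β hβ hβd using hd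
      have hkill : ∀ d ∈ Fitt.ideal D N r, (∏ d, β d) • d = 0 := fun d hd => by
        rw [← hF] at hd
        induction hd using Submodule.span_induction with
        | mem d hd =>
          rw [← Finset.prod_erase_mul _ _ (Finset.mem_univ (⟨d, hd⟩ : F)), mul_smul, hβd ⟨d, hd⟩, smul_zero]
        | zero => rw [smul_zero]
        | add d d' _ _ h h' => rw [smul_add, h, h', add_zero]
        | smul a d _ h => rw [smul_comm, h, smul_zero]
      have hmem : (∏ d, β d) ∈ p := hle (Submodule.mem_sup_right (Submodule.mem_annihilator.2 fun y hy => hann _ hkill y hy))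
      obtain ⟨d, -, hd⟩ := (Ideal.IsPrime.prod_mem_iff).1 hmem
      exact hβ d hd
  have hpow : ∀ a : G, ∃ (k : ℕ) (y u : R), y ∈ J ∧ u ∈ Submodule.annihilator J ∧ y + u = a.1 ^ k := fun a => by
    obtain ⟨k, hk⟩ := hrad (Ideal.subset_span a.2)
    obtain ⟨y, hy, u, hu, h⟩ := Submodule.mem_sup.1 hk
    exact ⟨k, y, u, hy, hu, h⟩
  choose k y w hy hw hyw using hpow
  refine ⟨J, Finset.univ.image w, hJ, hEJ, fun x hx z hz => ?_, Ideal.span_le.2 fun a ha => ?_, hmin⟩
  · obtain ⟨i, -, rfl⟩ := Finset.mem_image.1 hx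
    exact Submodule.mem_annihilator.1 (hw i) z hz
  · refine ⟨k ⟨a, ha⟩, ?_⟩
    rw [← hyw ⟨a, ha⟩]
    exact add_mem (Submodule.mem_sup_left (hy _))
      (Submodule.mem_sup_right (Ideal.subset_span (Finset.mem_coe.2 (Finset.mem_image_of_mem w (Finset.mem_univ _)))))

/-- **The strict transform is free at the generic points of the fibres.** -/
theorem exists_ideal_free_generic (hdom : DomFib R D) (G : Finset R)
    (hflat : ∀ (p : Ideal R) [p.IsPrime] [(p.map (algebraMap R D)).IsPrime], ¬ Ideal.span (G : Set R) ≤ p →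
      Module.Flat R (LocalizedModule (p.map (algebraMap R D)).primeCompl N)) :
    ∃ I : Ideal R, I.FG ∧ I.radical = (Ideal.span (G : Set R)).radical ∧
      ∀ L : Ideal R, (I * L).radical = (Ideal.span (G : Set R)).radical → ∀ (T : Type u) [CommRing T] [Algebra R T] (t : T),
        t ∈ T⁰ → (I * L).map (algebraMap R T) = Ideal.span {t} →
        ∀ (A : Type u) [CommRing A] [Algebra T A] [Algebra D A] [Algebra R A] [IsScalarTower R T A] [IsScalarTower R D A]
          [Algebra.IsPushout R T D A] (p' : Ideal T) [p'.IsPrime],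
          ∃ g : A, g ∉ p'.map (algebraMap T A) ∧
            Module.Free (Localization.Away g)
              (Localization.Away g ⊗[A] ((A ⊗[D] N) ⧸ FlatCA.powTorsion A (algebraMap T A t) (A ⊗[D] N))) ∧
            Module.Finite (Localization.Away g)
              (Localization.Away g ⊗[A] ((A ⊗[D] N) ⧸ FlatCA.powTorsion A (algebraMap T A t) (A ⊗[D] N))) := by
  classical
  obtain ⟨n, x, hx⟩ := exists_gens (R := D) (M := N)
  choose J E hJ hEJ hE hrad hmin using fun r : Fin (n + 1) => exists_rank_pieces_ideal hdom G hflat r.1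
  let K : Fin (n + 1) → Ideal R := fun r => J r ⊔ Ideal.span (E r : Set R)
  let I : Ideal R := Ideal.span (G : Set R) * ∏ r, K r
  have hKfg : ∀ r, (K r).FG := fun r => Submodule.FG.sup (hJ r) (Submodule.fg_span (Finset.finite_toSet _))
  have hIfg : I.FG := by
    refine (Submodule.fg_span (Finset.finite_toSet G)).mul ?_
    exact Finset.prod_induction _ (fun P : Ideal R => P.FG) (fun _ _ => Submodule.FG.mul)
      (by rw [Ideal.one_eq_top]; exact Module.Finite.fg_top) fun r _ => hKfg r
  have hKI : ∀ r, Ideal.span (G : Set R) ≤ (K r).radical := hrad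
  have hradI : I.radical = (Ideal.span (G : Set R)).radical := by
    refine le_antisymm (Ideal.radical_mono Ideal.mul_le_left) ?_
    rw [Ideal.radical_mul, le_inf_iff]
    refine ⟨le_rfl, Ideal.radical_le_radical_iff.2 ?_⟩
    exact Finset.prod_induction _ (fun P : Ideal R => Ideal.span (G : Set R) ≤ P.radical)
      (fun P Q hP hQ => by rw [Ideal.radical_mul]; exact le_inf hP hQ)
      (by rw [Ideal.one_eq_top, Ideal.radical_top]; exact le_top) fun r _ => hKI r
  refine ⟨I, hIfg, hradI, fun Lc hL T _ _ t ht hIt A _ _ _ _ _ _ _ p' hp' => ?_⟩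
  haveI : Module.Flat T A := by
    haveI : Algebra.IsPushout R T D A := ‹_›
    exact Module.Flat.of_linearEquiv (Algebra.IsPushout.equiv R T D A).toLinearEquiv.symm
  have hinv := inv_of_map_eq ht hIt
  obtain ⟨mx, hmx, hpm⟩ := Ideal.exists_le_maximal p' hp'.ne_top
  have hloc : ∀ r, ∃ s ∉ mx, ∃ w ∈ (hJ r).choose ∪ E r,
      algebraMap R (Localization.Away s) w ∈ (Localization.Away s)⁰ ∧
      (K r).map (algebraMap R (Localization.Away s)) = Ideal.span {algebraMap R (Localization.Away s) w} := by
    intro r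
    have hK : Inv (K r) T := by
      have h1 : Inv (∏ r, K r) T := hinv.mul_left.mul_right
      rw [← Finset.mul_prod_erase _ _ (Finset.mem_univ r)] at h1
      exact h1.mul_left
    refine exists_local_generator ?_ hK mx hmx
    rw [Finset.coe_union, Ideal.span_union]
    exact congrArg (· ⊔ _) (hJ r).choose_spec
  choose s hs w hw hwreg hwgen using hloc
  let b := ∏ r, s r
  have hb : b ∉ p' := fun h => by
    haveI := hmx.isPrime
    obtain ⟨r, -, hr⟩ := Ideal.IsPrime.prod_mem_iff.1 (hpm h)
    exact hs r hr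
  let B := Localization.Away b
  haveI : Module.Flat T B := IsLocalization.flat _ (Submonoid.powers b)
  have htB : algebraMap T B t ∈ B⁰ := IsLocalization.map_nonZeroDivisors_le (Submonoid.powers b) _ ⟨_, ht, rfl⟩
  have hdB : ∀ r, (J r).map (algebraMap R B) = ⊥ ∨
      ∃ j ∈ B⁰, (J r).map (algebraMap R B) = Ideal.span {j} ∧ ∃ e : ℕ, algebraMap T B t ^ e ∈ Ideal.span {j} := by
    intro r
    obtain ⟨ψ, hψ⟩ := exists_awayMap (A := T) (B := T) (s r) (s' := b)
      (Finset.dvd_prod_of_mem _ (Finset.mem_univ r))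
    have hψR : ∀ y, ψ (algebraMap R (Localization.Away (s r)) y) = algebraMap R B y := fun y => by
      rw [IsScalarTower.algebraMap_apply R T (Localization.Away (s r)), hψ, ← IsScalarTower.algebraMap_apply T T,
        ← IsScalarTower.algebraMap_apply]
    have hregB : algebraMap R B (w r) ∈ B⁰ := hψR (w r) ▸ nzd_awayMap (s r) b ψ hψ (hwreg r)
    have hgenB : ∀ y ∈ K r, algebraMap R B y ∈ Ideal.span {algebraMap R B (w r)} := fun y hy => by
      obtain ⟨q, hq⟩ := Ideal.mem_span_singleton'.1 (hwgen r ▸ Ideal.mem_map_of_mem _ hy :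
        algebraMap R (Localization.Away (s r)) y ∈ Ideal.span {algebraMap R (Localization.Away (s r)) (w r)})
      exact Ideal.mem_span_singleton'.2 ⟨ψ q, by rw [← hψR, ← map_mul, hq, hψR]⟩
    rcases Finset.mem_union.1 (hw r) with hwJ | hwE
    · refine Or.inr ⟨_, hregB, le_antisymm (Ideal.map_le_iff_le_comap.2 fun y hy => hgenB y (Submodule.mem_sup_left hy))
        ((Ideal.span_singleton_le_iff_mem _).2 (Ideal.mem_map_of_mem _ ((hJ r).choose_spec ▸ Ideal.subset_span hwJ))), ?_⟩
      have h1 : t ∈ ((K r).map (algebraMap R T)).radical := by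
        refine (Ideal.map_radical_le _) (Ideal.map_mono (f := algebraMap R T) ?_
          (hIt ▸ Ideal.mem_span_singleton_self t : t ∈ (I * Lc).map (algebraMap R T)))
        exact Ideal.le_radical.trans (hL.le.trans (Ideal.radical_le_radical_iff.2 (hKI r)))
      obtain ⟨e, he⟩ := h1
      refine ⟨e, ?_⟩
      have h2 := Ideal.mem_map_of_mem (algebraMap T B) he
      rw [Ideal.map_map, ← IsScalarTower.algebraMap_eq, map_pow] at h2
      exact (show (K r).map (algebraMap R B) ≤ Ideal.span {algebraMap R B (w r)} from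
        Ideal.map_le_iff_le_comap.2 hgenB) h2
    · refine Or.inl (le_bot_iff.1 (Ideal.map_le_iff_le_comap.2 fun y hy => ?_))
      rw [Ideal.mem_comap, Ideal.mem_bot, ← mul_right_mem_nonZeroDivisors_eq_zero_iff hregB, ← map_mul, mul_comm,
        hE r _ hwE y hy, map_zero]
  -- the chart over `B`
  let DB := B ⊗[T] A
  letI : Algebra A DB := Algebra.TensorProduct.rightAlgebra
  letI : Algebra D DB := ((algebraMap A DB).comp (algebraMap D A)).toAlgebra
  haveI : IsScalarTower D A DB := IsScalarTower.of_algebraMap_eq fun _ => rfl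
  haveI : IsScalarTower R D DB := IsScalarTower.of_algebraMap_eq fun y => by
    show algebraMap R DB y = algebraMap A DB (algebraMap D A (algebraMap R D y))
    rw [← IsScalarTower.algebraMap_apply R D A, IsScalarTower.algebraMap_apply R T A,
      ← IsScalarTower.algebraMap_apply T A DB, IsScalarTower.algebraMap_apply R T DB]
  haveI : IsScalarTower R A DB := IsScalarTower.of_algebraMap_eq fun y => by
    rw [IsScalarTower.algebraMap_apply R T DB, IsScalarTower.algebraMap_apply R T A,
      ← IsScalarTower.algebraMap_apply T A DB]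
  haveI : Algebra.IsPushout R D T A := Algebra.IsPushout.symm inferInstance
  haveI : Algebra.IsPushout T B A DB := TensorProduct.isPushout
  haveI : Algebra.IsPushout T A B DB := Algebra.IsPushout.symm inferInstance
  haveI : Algebra.IsPushout R B D DB :=
    (Algebra.IsPushout.comp_iff (R := R) (S := T) (R' := D) (S' := A) (T := B) (T' := DB)).2 inferInstance
  haveI : IsLocalization (Algebra.algebraMapSubmonoid A (Submonoid.powers b)) DB :=
    (Algebra.isLocalization_iff_isPushout (Submonoid.powers b) B).2 inferInstance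
  haveI hBflat : Module.Flat B DB := inferInstanceAs (Module.Flat B (B ⊗[T] A))
  obtain ⟨p'', hp'', hp''c⟩ : ∃ p'' : Ideal B, p''.IsPrime ∧ p''.comap (algebraMap T B) = p' :=
    ⟨p'.map (algebraMap T B),
      IsLocalization.isPrime_of_isPrime_disjoint (Submonoid.powers b) B p' hp'
        (Ideal.disjoint_powers_iff_notMem b hp'.isRadical |>.2 hb),
      IsLocalization.under_map_of_isPrime_disjoint (Submonoid.powers b) B hp'
        (Ideal.disjoint_powers_iff_notMem b hp'.isRadical |>.2 hb)⟩
  haveI := hp''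
  have hdomB : DomFib B DB := hdom.of_isPushout B DB
  haveI hQ := Groth.L20.RG.isPrime_map_of_domFib hdomB p''
  have hmapJ : ∀ r, (J r).map (algebraMap R DB) = ((J r).map (algebraMap R B)).map (algebraMap B DB) := fun r => by
    rw [Ideal.map_map, ← IsScalarTower.algebraMap_eq]
  have hFJ : ∀ r, (Fitt.ideal D N r.1).map (algebraMap D DB) ≤ (J r).map (algebraMap R DB) := fun r =>
    (Ideal.map_mono (hEJ r)).trans (by rw [Ideal.map_map, ← IsScalarTower.algebraMap_eq])
  have hex : ∃ r : ℕ, ∃ hr : r < n + 1, (J ⟨r, hr⟩).map (algebraMap R B) ≠ ⊥ := by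
    refine ⟨n, n.lt_succ_self, fun h0 => hQ.ne_top (top_le_iff.1 ?_)⟩
    have h1 := hFJ ⟨n, n.lt_succ_self⟩
    rw [hmapJ, h0, Ideal.map_bot, ideal_eq_tup x hx, tup_eq_top x le_rfl, Ideal.map_top] at h1
    exact h1.trans bot_le
  let r := Nat.find hex
  obtain ⟨hr, hne⟩ := Nat.find_spec hex
  obtain ⟨j, hj, hJj, e0, hje0⟩ := (hdB ⟨r, hr⟩).resolve_left hne
  have hbot : ∀ i, i < r → (Fitt.ideal D N i).map (algebraMap D DB) = ⊥ := fun i hi => by
    have h0 : (J ⟨i, hi.trans hr⟩).map (algebraMap R B) = ⊥ := by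
      by_contra hne'
      exact Nat.find_min hex hi ⟨hi.trans hr, hne'⟩
    have h1 := hFJ ⟨i, hi.trans hr⟩
    rwa [hmapJ, h0, Ideal.map_bot, le_bot_iff] at h1
  have hle : ∀ d ∈ Fitt.ideal D N r, algebraMap D DB d ∈ Ideal.span {algebraMap B DB j} := fun d hd => by
    have h1 := hFJ ⟨r, hr⟩ (Ideal.mem_map_of_mem _ hd)
    rwa [hmapJ, hJj, Ideal.map_span, Set.image_singleton] at h1
  obtain ⟨z, em, hz, c, hc, hcQ⟩ : ∃ (z : Fin (n - r) → Fin n → D) (em : Fin (n - r) → Fin n),
      (∀ s, ∑ i, z s i • x i = 0) ∧ ∃ c : DB, algebraMap D DB (minor z em) = algebraMap B DB j * c ∧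
        c ∉ p''.map (algebraMap B DB) := by
    by_contra hall
    push Not at hall
    have hk : (Fitt.ideal D N r).map (algebraMap D DB) ≤ (Ideal.span {j} * p'').map (algebraMap B DB) := by
      rw [ideal_eq_tup x hx, tup_eq_minors, Ideal.map_le_iff_le_comap, minors, Ideal.span_le]
      rintro _ ⟨z, em, hz, rfl⟩
      obtain ⟨c, hc⟩ := Ideal.mem_span_singleton.1 (hle _ (minor_mem_ideal hx hz em))
      rw [SetLike.mem_coe, Ideal.mem_comap]
      show algebraMap D DB (minor z em) ∈ _
      rw [hc, Ideal.map_mul, Ideal.map_span, Set.image_singleton]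
      exact Ideal.mul_mem_mul (Ideal.mem_span_singleton_self _) (hall z em hz c hc)
    have h2 := hmin ⟨r, hr⟩ B DB _ hk
    rw [hJj, Ideal.span_singleton_le_iff_mem, Ideal.mem_span_singleton_mul] at h2
    obtain ⟨q, hq, hqj⟩ := h2
    have : q = 1 := (mul_cancel_left_mem_nonZeroDivisors hj).1 (hqj.trans (mul_one _).symm)
    exact hp''.ne_top ((Ideal.eq_top_iff_one _).2 (this ▸ hq))
  obtain ⟨⟨c0, ⟨_, _, ⟨k, rfl⟩, rfl⟩⟩, hc0⟩ := IsLocalization.surj (Algebra.algebraMapSubmonoid A (Submonoid.powers b)) c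
  have hpDB : p''.map (algebraMap B DB) = (p'.map (algebraMap T A)).map (algebraMap A DB) := by
    rw [← hp''c, Ideal.map_map, ← IsScalarTower.algebraMap_eq, IsScalarTower.algebraMap_eq T B DB, ← Ideal.map_map]
    exact congrArg (Ideal.map (algebraMap B DB)) (IsLocalization.map_under (Submonoid.powers b) B p'').symm
  have hunitb : ∀ {L : Type u} [CommRing L] (f : A →+* L), IsUnit (f (algebraMap T A b)) →
      ∀ y ∈ Algebra.algebraMapSubmonoid A (Submonoid.powers b), IsUnit (f y) := by
    rintro L _ f hf _ ⟨_, ⟨m, rfl⟩, rfl⟩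
    rw [map_pow, map_pow]
    exact hf.pow m
  have hc0Q : c0 ∉ p'.map (algebraMap T A) := fun h => hcQ (by
    have h1 := Ideal.mem_map_of_mem (algebraMap A DB) h
    rw [← hc0, ← hpDB] at h1
    exact (hQ.mem_or_mem h1).resolve_right fun hm => hQ.ne_top (Ideal.eq_top_of_isUnit_mem _ hm
      (IsLocalization.map_units DB (⟨_, _, ⟨k, rfl⟩, rfl⟩ : Algebra.algebraMapSubmonoid A (Submonoid.powers b)))))
  refine ⟨algebraMap T A b * c0, fun h => ?_, ?_⟩
  · haveI := Groth.L20.RG.isPrime_map_of_domFib (hdom.of_isPushout T A) p'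
    rcases (Ideal.IsPrime.mem_or_mem ‹_› h) with h | h
    · exact hb (mem_of_map_mem (hdom.of_isPushout T A) p' h)
    · exact hc0Q h
  -- the chart where the minor is invertible
  let L := Localization.Away (algebraMap T A b * c0)
  have hg : IsUnit (algebraMap A L (algebraMap T A b * c0)) := IsLocalization.Away.algebraMap_isUnit _
  rw [map_mul] at hg
  have hub := hunitb (algebraMap A L) (isUnit_of_mul_isUnit_left hg)
  let φ : DB →+* L := IsLocalization.lift (M := Algebra.algebraMapSubmonoid A (Submonoid.powers b))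
    (g := algebraMap A L) fun y => hub y.1 y.2
  letI : Algebra DB L := φ.toAlgebra
  haveI : IsScalarTower A DB L := IsScalarTower.of_algebraMap_eq fun y => (IsLocalization.lift_eq _ y).symm
  have hcL : IsUnit (φ c) := by
    have h1 : φ c * algebraMap A L _ = algebraMap A L c0 :=
      (congrArg (φ c * ·) (IsLocalization.lift_eq _ _).symm).trans ((map_mul φ _ _).symm.trans
        ((congrArg φ hc0).trans (IsLocalization.lift_eq _ c0)))
    exact isUnit_of_mul_isUnit_left (h1.symm ▸ isUnit_of_mul_isUnit_right hg)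
  letI : Algebra B L := (φ.comp (algebraMap B DB)).toAlgebra
  haveI : IsScalarTower T B L := IsScalarTower.of_algebraMap_eq fun y => by
    show _ = φ (algebraMap B DB (algebraMap T B y))
    rw [← IsScalarTower.algebraMap_apply T B DB, IsScalarTower.algebraMap_apply T A DB,
      IsScalarTower.algebraMap_apply T A L]
    exact (IsLocalization.lift_eq _ _).symm
  haveI : Module.Flat A L := IsLocalization.flat _ (Submonoid.powers (algebraMap T A b * c0))
  haveI : Module.Flat T L := Module.Flat.trans T A L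
  haveI : Module.Flat B L := (Module.flat_iff_of_isLocalization B (Submonoid.powers b) L).2 inferInstance
  have hregL : ∀ y ∈ B⁰, algebraMap B L y ∈ L⁰ := fun y hy => mem_nonZeroDivisors_iff_right.2 fun q hq =>
    Module.Flat.isSMulRegular_of_nonZeroDivisors (M := L) hy
      (show y • q = y • (0 : L) by rw [smul_zero, Algebra.smul_def, mul_comm, hq])
  have htL : algebraMap A L (algebraMap T A t) = algebraMap B L (algebraMap T B t) := by
    rw [← IsScalarTower.algebraMap_apply, ← IsScalarTower.algebraMap_apply]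
  have hDB : ∀ d : D, φ (algebraMap D DB d) = algebraMap D L d := fun d =>
    (IsLocalization.lift_eq _ _).trans (IsScalarTower.algebraMap_apply D A L d).symm
  have hjB : φ (algebraMap B DB j) = algebraMap B L j := rfl
  have hsplit : HasSplit (algebraMap A L (algebraMap T A t)) (L ⊗[D] N) (φ c) := by
    refine hasSplit_of_minor (n := n) (r := r) (j := algebraMap B L j) (by rw [htL]; exact hregL _ htB)
      (span_bc L x hx) (fun s => phi L (z s)) (fun s => mem_rel.1 (phi_mem_rel L (mem_rel.2 (hz s)))) em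
      ?_ (fun e' => ?_) (hregL j hj) (fun m hm => ?_) (hcL.mem_nonZeroDivisors) fun i hi => ?_
    · rw [minor_phi, ← hDB, hc, map_mul, hjB]
    · rw [minor_phi, ← hDB, ← hjB]
      obtain ⟨q, hq⟩ := Ideal.mem_span_singleton'.1 (hle _ (minor_mem_ideal hx hz e'))
      exact Ideal.mem_span_singleton'.2 ⟨φ q, by rw [← map_mul, hq]⟩
    · obtain ⟨q, hq⟩ := Ideal.mem_span_singleton'.1 hje0
      exact ⟨e0, by rw [htL, ← map_pow, ← hq, map_mul, mul_smul, hm, smul_zero]⟩
    · rw [ideal_baseChange, show algebraMap D L = φ.comp (algebraMap D DB) from RingHom.ext fun d => (hDB d).symm,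
        ← Ideal.map_map, hbot i hi, Ideal.map_bot]
  exact free_of_split (g := algebraMap T A b * c0) L (by rw [htL]; exact hregL _ htB)
    (AlgebraTensorModule.cancelBaseChange D A L L N) hcL hsplit

end Groth.L20.BlowFlat
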