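import Groth.Agent.L20.BlowFlat.Chart
import Groth.Agent.L20.BlowFlat.Generic
import Groth.Agent.L18.LocFreeFP

/-!
# Finite local freeness of the strict transform on an open meeting all fibres
-/

set_option autoImplicit false
set_option linter.style.haveILetI false
set_option backward.isDefEq.respectTransparency.types false

universe u

open CategoryTheory CategoryTheory.Limits AlgebraicGeometry TopologicalSpace Opposite
open scoped nonZeroDivisors TensorProduct

noncomputable section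

namespace Groth.L20.BlowFlat

open Groth.L13.Fitting (mem_powTorsion_iff)

/-- A finitely presented cover of a finite module which is finitely presented away from some elements. -/
theorem exists_fp_cover {D N : Type u} [CommRing D] [AddCommGroup N] [Module D N] [Module.Finite D N] (G : Finset D)
    (hfp : ∀ a ∈ G, Module.FinitePresentation (Localization.Away a) (LocalizedModule (Submonoid.powers a) N)) :
    ∃ (N₀ : Type u) (_ : AddCommGroup N₀) (_ : Module D N₀) (_ : Module.FinitePresentation D N₀) (π : N₀ →ₗ[D] N),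
      Function.Surjective π ∧ ∀ a ∈ G, ∀ x, π x = 0 → ∃ k : ℕ, a ^ k • x = 0 := by
  classical
  obtain ⟨n, φ, hφ⟩ := Module.Finite.exists_fin' D N
  have hgen : ∀ a ∈ G, ∃ F : Finset (Fin n → D), (∀ v ∈ F, φ v = 0) ∧
      ∀ y, φ y = 0 → LocalizedModule.mkLinearMap (Submonoid.powers a) (Fin n → D) y ∈
        Submodule.span (Localization.Away a)
          (LocalizedModule.mkLinearMap (Submonoid.powers a) (Fin n → D) '' (F : Set (Fin n → D))) := by
    intro a ha
    let S := Submonoid.powers a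
    haveI := hfp a ha
    let φS := LocalizedModule.map S φ
    haveI : Module.Finite (Localization.Away a) (LocalizedModule S (Fin n → D)) :=
      Module.Finite.of_isLocalizedModule S (LocalizedModule.mkLinearMap S (Fin n → D))
    obtain ⟨F, hF⟩ := Module.FinitePresentation.fg_ker φS (LocalizedModule.map_surjective S φ hφ)
    have hlift : ∀ x ∈ F, ∃ v : Fin n → D, φ v = 0 ∧
        x ∈ Submodule.span (Localization.Away a) {LocalizedModule.mkLinearMap S (Fin n → D) v} := by
      intro x hx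
      have hx0 : φS x = 0 := hF.le (Submodule.subset_span hx)
      induction x using LocalizedModule.induction_on with
      | _ v s =>
        rw [LocalizedModule.map_mk, ← LocalizedModule.zero_mk (S := S) s, LocalizedModule.mk_eq] at hx0
        obtain ⟨c, hc⟩ := hx0
        simp only [smul_zero, Submonoid.smul_def] at hc
        rw [smul_smul, ← map_smul] at hc
        refine ⟨((c : D) * s) • v, hc, ?_⟩
        have hu : IsUnit (algebraMap D (Localization.Away a) ((c : D) * s * s)) :=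
          IsLocalization.map_units (Localization.Away a) (c * s * s)
        rw [← Submodule.smul_mem_iff_of_isUnit _ hu, algebraMap_smul, LocalizedModule.smul'_mk]
        convert Submodule.mem_span_singleton_self (R := Localization.Away a) _ using 1
        rw [LocalizedModule.mkLinearMap_apply, LocalizedModule.mk_eq]
        exact ⟨1, by simp [Submonoid.smul_def, smul_smul, mul_comm, mul_left_comm]⟩
    choose v hv hvx using hlift
    refine ⟨F.attach.image fun x => v x.1 x.2, fun w hw => ?_, fun y hy => ?_⟩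
    · obtain ⟨x, -, rfl⟩ := Finset.mem_image.1 hw
      exact hv _ _
    · have hy' : φS (LocalizedModule.mkLinearMap S (Fin n → D) y) = 0 := by
        rw [LocalizedModule.mkLinearMap_apply, LocalizedModule.map_mk, hy, LocalizedModule.zero_mk]
      have hy'' : LocalizedModule.mkLinearMap S (Fin n → D) y ∈ Submodule.span (Localization.Away a) (F : Set _) :=
        hF.symm ▸ hy'
      refine (Submodule.span_le.2 fun x hx => ?_) hy''
      refine Submodule.span_mono ?_ (hvx x hx)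
      rintro _ rfl
      exact ⟨_, Finset.mem_coe.2 (Finset.mem_image.2 ⟨⟨x, hx⟩, Finset.mem_attach _ _, rfl⟩), rfl⟩
  choose F hF0 hFgen using hgen
  let K : Submodule D (Fin n → D) := Submodule.span D ((G.attach.biUnion fun a => F a.1 a.2 : Finset _) : Set _)
  have hK : K ≤ LinearMap.ker φ := Submodule.span_le.2 fun v hv => by
    obtain ⟨a, -, hv⟩ := Finset.mem_biUnion.1 (Finset.mem_coe.1 hv)
    exact hF0 _ _ v hv
  haveI : Module.FinitePresentation D ((Fin n → D) ⧸ K) :=
    Module.finitePresentation_of_surjective K.mkQ K.mkQ_surjective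
      (by rw [Submodule.ker_mkQ]; exact Submodule.fg_span (Finset.finite_toSet _))
  refine ⟨(Fin n → D) ⧸ K, inferInstance, inferInstance, inferInstance, K.liftQ φ hK,
    fun x => (hφ x).imp' K.mkQ fun _ h => h, fun a ha x hx => ?_⟩
  obtain ⟨y, rfl⟩ := K.mkQ_surjective x
  let S := Submonoid.powers a
  have hy := hFgen a ha y hx
  let q := LocalizedModule.map S K.mkQ
  have hq : q (LocalizedModule.mkLinearMap S (Fin n → D) y) = 0 := by
    refine (Submodule.span_le (p := LinearMap.ker q)).2 ?_ hy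
    rintro _ ⟨w, hw, rfl⟩
    rw [SetLike.mem_coe, LinearMap.mem_ker, LocalizedModule.mkLinearMap_apply, LocalizedModule.map_mk,
      Submodule.mkQ_apply, (Submodule.Quotient.mk_eq_zero K).2 (Submodule.subset_span
        (Finset.mem_coe.2 (Finset.mem_biUnion.2 ⟨⟨a, ha⟩, Finset.mem_attach _ _, hw⟩))), LocalizedModule.zero_mk]
  rw [LocalizedModule.mkLinearMap_apply, LocalizedModule.map_mk, ← LocalizedModule.zero_mk (S := S) 1,
    LocalizedModule.mk_eq] at hq
  obtain ⟨⟨_, k, rfl⟩, hk⟩ := hq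
  exact ⟨k, by simpa [Submonoid.smul_def] using hk⟩

/-- Surjections with torsion kernels do not change the quotient by torsion. -/
theorem nonempty_quot_of_torsion_ker {A P P' : Type u} [CommRing A] [AddCommGroup P] [Module A P] [AddCommGroup P']
    [Module A P'] (π : P →ₗ[A] P') (hπ : Function.Surjective π) (t : A)
    (hker : LinearMap.ker π ≤ FlatCA.powTorsion A t P) :
    Nonempty ((P ⧸ FlatCA.powTorsion A t P) ≃ₗ[A] (P' ⧸ FlatCA.powTorsion A t P')) := by
  let U' := FlatCA.powTorsion A t P'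
  let l := U'.mkQ.comp π
  have hl : LinearMap.ker l = FlatCA.powTorsion A t P := by
    ext x
    rw [LinearMap.mem_ker, LinearMap.comp_apply, Submodule.mkQ_apply, Submodule.Quotient.mk_eq_zero, mem_powTorsion_iff,
      mem_powTorsion_iff]
    refine ⟨fun ⟨n, hn⟩ => ?_, fun ⟨n, hn⟩ => ⟨n, by rw [← map_smul, hn, map_zero]⟩⟩
    rw [← map_smul] at hn
    obtain ⟨m, hm⟩ := (mem_powTorsion_iff _ _).1 (hker hn)
    exact ⟨m + n, by rw [pow_add, mul_smul]; exact hm⟩
  exact ⟨(Submodule.quotEquivOfEq _ _ hl.symm).trans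
    (l.quotKerEquivOfSurjective ((Submodule.mkQ_surjective U').comp hπ))⟩

/-- The kernel of the base change of a surjection with `G`-torsion kernel is torsion. -/
theorem ker_baseChange_le {R D A T : Type u} [CommRing R] [CommRing D] [CommRing A] [CommRing T] [Algebra R D]
    [Algebra R T] [Algebra T A] [Algebra D A] [Algebra R A] [IsScalarTower R T A] [IsScalarTower R D A]
    {N₀ N : Type u} [AddCommGroup N₀] [Module D N₀] [AddCommGroup N] [Module D N] (π : N₀ →ₗ[D] N)
    (hπ : Function.Surjective π) (G : Finset R)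
    (hker : ∀ a ∈ G, ∀ x, π x = 0 → ∃ k : ℕ, algebraMap R D a ^ k • x = 0) {t : T}
    (ht : t ∈ ((Ideal.span (G : Set R)).map (algebraMap R T)).radical) :
    LinearMap.ker (π.baseChange A) ≤ FlatCA.powTorsion A (algebraMap T A t) (A ⊗[D] N₀) := by
  intro z hz
  have hex := lTensor_exact A (LinearMap.exact_subtype_ker_map π) hπ
  obtain ⟨y, rfl⟩ := (hex z).1 hz
  rw [mem_powTorsion_iff]
  induction y using TensorProduct.induction_on with
  | zero => exact ⟨0, by simp⟩
  | add y y' h h' =>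
    obtain ⟨e, he⟩ := h (by rw [LinearMap.mem_ker]; exact hex.apply_apply_eq_zero y)
    obtain ⟨e', he'⟩ := h' (by rw [LinearMap.mem_ker]; exact hex.apply_apply_eq_zero y')
    refine ⟨e + e', ?_⟩
    rw [map_add, smul_add, pow_add, mul_smul, smul_comm, he, smul_zero, zero_add, mul_smul, he', smul_zero]
  | tmul c k =>
    let P : Ideal R := Ideal.comap (algebraMap R A)
      (LinearMap.ker (LinearMap.toSpanSingleton A (A ⊗[D] N₀) (c ⊗ₜ[D] (k : N₀))))
    have hP : Ideal.span (G : Set R) ≤ P.radical := Ideal.span_le.2 fun a ha => by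
      obtain ⟨m, hm⟩ := hker a ha k k.2
      refine ⟨m, ?_⟩
      show algebraMap R A (a ^ m) • (c ⊗ₜ[D] (k : N₀)) = 0
      rw [IsScalarTower.algebraMap_apply R D A, algebraMap_smul, ← TensorProduct.tmul_smul, map_pow, hm,
        TensorProduct.tmul_zero]
    obtain ⟨e, he⟩ : t ∈ (P.map (algebraMap R T)).radical :=
      Ideal.radical_le_radical_iff.2 ((Ideal.map_mono hP).trans (Ideal.map_radical_le _)) ht
    refine ⟨e, ?_⟩
    have h2 := Ideal.mem_map_of_mem (algebraMap T A) he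
    rw [Ideal.map_map, ← IsScalarTower.algebraMap_eq, map_pow] at h2
    exact (Ideal.map_comap_le (f := algebraMap R A)) h2

variable {X S X' S' : Scheme.{u}}

/-- A module with free sections on an affine open cover of an open is finite locally free there. -/
theorem isFinLocFree_pullback_of_free (M : X.Modules) [Coh.IsQCoh M] (O : X.Opens)
    (h : ∀ x ∈ O, ∃ D : X.Opens, IsAffineOpen D ∧ x ∈ D ∧ D ≤ O ∧ Module.Free Γ(X, D) Γ(M, D) ∧
      Module.Finite Γ(X, D) Γ(M, D)) :
    FlatMod.IsFinLocFree ((Scheme.Modules.pullback O.ι).obj M) := by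
  let P := (Scheme.Modules.pullback O.ι).obj M
  haveI : Coh.IsQCoh P := Groth.L16.AffineBC.isQCoh_pullback O.ι M
  have key : ∀ y : O.toScheme, ∃ D' : O.toScheme.Opens, IsAffineOpen D' ∧ y ∈ D' ∧
      Module.Free Γ(O.toScheme, D') Γ(P, D') ∧ Module.Finite Γ(O.toScheme, D') Γ(P, D') := by
    intro y
    obtain ⟨D, hD, hyD, hDO, hfree, hfin⟩ := h (O.ι y) y.2
    have hD' : IsAffineOpen (O.ι ⁻¹ᵁ D) := (O.ι.isAffineOpen_iff_of_isOpenImmersion).1 (by
      rw [O.ι.image_preimage_eq_opensRange_inf, Scheme.Opens.opensRange_ι, inf_eq_right.2 hDO]; exact hD)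
    refine ⟨_, hD', hyD, ?_⟩
    letI : Algebra Γ(X, D) Γ(O.toScheme, O.ι ⁻¹ᵁ D) := (O.ι.appLE D _ le_rfl).hom.toAlgebra
    letI := Module.compHom Γ(P, O.ι ⁻¹ᵁ D) (O.ι.appLE D _ le_rfl).hom
    haveI : IsScalarTower Γ(X, D) Γ(O.toScheme, O.ι ⁻¹ᵁ D) Γ(P, O.ι ⁻¹ᵁ D) :=
      IsScalarTower.of_algebraMap_smul fun _ _ => rfl
    have hbc := Groth.L16.AffineBC.isBaseChange_pull O.ι M hD hD' le_rfl
    haveI := hfree
    haveI := hfin
    exact ⟨Module.Free.of_equiv hbc.equiv, Module.Finite.equiv hbc.equiv⟩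
  refine Groth.L18.LFP.isFinLocFree_of_isFlat_of_isFP P (fun y => ?_)
    (Groth.L05.Prufer.isFP_of_sections P fun y => ?_)
  · obtain ⟨D', hD', hy, hfree, -⟩ := key y
    haveI := hfree
    letI := Groth.L20.ModStalk.stalkModule P hy
    haveI := Groth.L20.ModStalk.isLocalizedModule_germ P hD' hy
    letI := O.toScheme.presheaf.algebra_section_stalk (⟨y, hy⟩ : D')
    haveI := hD'.isLocalization_stalk ⟨y, hy⟩
    haveI : IsScalarTower Γ(O.toScheme, D') (O.toScheme.presheaf.stalk y) (P.presheaf.stalk y) :=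
      IsScalarTower.of_algebraMap_smul fun _ _ => rfl
    exact Module.Flat.isBaseChange Γ(O.toScheme, D') (O.toScheme.presheaf.stalk y) Γ(P, D') (P.presheaf.stalk y)
      (IsLocalizedModule.isBaseChange (hD'.primeIdealOf ⟨y, hy⟩).asIdeal.primeCompl (O.toScheme.presheaf.stalk y)
        (Groth.L20.ModStalk.germₗ P hy))
  · obtain ⟨D', hD', hy, hfree, hfin⟩ := key y
    haveI := hfree
    haveI := hfin
    exact ⟨D', hD', hy, Module.finitePresentation_of_projective _ _⟩

/-- Free localisations give free sections on the basic open. -/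
theorem free_sections_of_away (M : X.Modules) [Coh.IsQCoh M] {V : X.Opens} (hV : IsAffineOpen V) (g : Γ(X, V))
    [Module.Free (Localization.Away g) (Localization.Away g ⊗[Γ(X, V)] Γ(M, V))]
    [Module.Finite (Localization.Away g) (Localization.Away g ⊗[Γ(X, V)] Γ(M, V))] :
    Module.Free Γ(X, X.basicOpen g) Γ(M, X.basicOpen g) ∧ Module.Finite Γ(X, X.basicOpen g) Γ(M, X.basicOpen g) := by
  letI := Module.compHom Γ(M, X.basicOpen g) (X.presheaf.map (homOfLE (X.basicOpen_le g)).op).hom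
  letI : Algebra Γ(X, V) Γ(X, X.basicOpen g) := (X.presheaf.map (homOfLE (X.basicOpen_le g)).op).hom.toAlgebra
  haveI : IsScalarTower Γ(X, V) Γ(X, X.basicOpen g) Γ(M, X.basicOpen g) :=
    IsScalarTower.of_algebraMap_smul fun _ _ => rfl
  haveI : IsLocalization.Away g Γ(X, X.basicOpen g) := hV.isLocalization_basicOpen g
  let ε := IsLocalization.algEquiv (Submonoid.powers g) (Localization.Away g) Γ(X, X.basicOpen g)
  letI : Algebra (Localization.Away g) Γ(X, X.basicOpen g) := ε.toAlgHom.toRingHom.toAlgebra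
  haveI : IsScalarTower Γ(X, V) (Localization.Away g) Γ(X, X.basicOpen g) :=
    IsScalarTower.of_algebraMap_eq fun a => (ε.commutes a).symm
  haveI := Groth.L20.ModStalk.isLocalizedModule_res M hV g
  let e := (TensorProduct.AlgebraTensorModule.cancelBaseChange Γ(X, V) (Localization.Away g) Γ(X, X.basicOpen g)
      Γ(X, X.basicOpen g) Γ(M, V)).trans
    (IsLocalizedModule.isBaseChange (Submonoid.powers g) Γ(X, X.basicOpen g)
        ({ toFun := fun s => Groth.L18.Frame.rs M (X.basicOpen_le g) s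
           map_add' := fun a b => map_add _ a b
           map_smul' := fun a s => Groth.L18.Frame.rs_smul M (X.basicOpen_le g) a s } :
          Γ(M, V) →ₗ[Γ(X, V)] Γ(M, X.basicOpen g))).equiv
  exact ⟨Module.Free.of_equiv e, Module.Finite.equiv e⟩

/-- Rings of sections over an affine open of the base and its preimage. -/
theorem geomIntegralFibres_sections (f : X ⟶ S) [IsAffineHom f] [GeometricallyIntegral f] {W : S.Opens}
    (hW : IsAffineOpen W) :
    letI : Algebra Γ(S, W) Γ(X, f ⁻¹ᵁ W) := (f.appLE W _ le_rfl).hom.toAlgebra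
    FlatCA.GeomIntegralFibres Γ(S, W) Γ(X, f ⁻¹ᵁ W) := by
  haveI : IsAffine W.toScheme := hW
  haveI : IsAffine (f ⁻¹ᵁ W).toScheme := hW.preimage f
  have h0 : GeometricallyIntegral (f ∣_ W) :=
    MorphismProperty.of_isPullback (P := @GeometricallyIntegral) (isPullback_morphismRestrict f W).flip ‹_›
  have h1 : GeometricallyIntegral (Spec.map (f ∣_ W).appTop) :=
    (MorphismProperty.arrow_mk_iso_iff @GeometricallyIntegral (arrowIsoSpecΓOfIsAffine (f ∣_ W))).mp h0
  have h2 : (f ∣_ W).appTop = W.topIso.hom ≫ f.appLE W _ le_rfl ≫ (f ⁻¹ᵁ W).topIso.inv := by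
    rw [← Scheme.Hom.resLE_eq_morphismRestrict, Scheme.Hom.appTop, Scheme.Hom.resLE_app_top]
  rw [h2, Spec.map_comp, Spec.map_comp, MorphismProperty.cancel_right_of_respectsIso @GeometricallyIntegral,
    MorphismProperty.cancel_left_of_respectsIso @GeometricallyIntegral] at h1
  exact h1

/-- A centre making the strict transform free at the generic points of the fibres over one affine open. -/
theorem exists_chart_centre_generic [CompactSpace S] [QuasiSeparatedSpace S]
    (f : X ⟶ S) [IsAffineHom f] [LocallyOfFinitePresentation f] [Flat f] [GeometricallyIntegral f]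
    (U : S.Opens) (hU : IsCompact (U : Set S)) (F : X.Modules) [Coh.IsQCoh F] (hft : CohB1.IsFT F)
    (hfpU : CohB1.IsFP ((Scheme.Modules.pullback (f ⁻¹ᵁ U).ι).obj F))
    (hflU : ∀ x : X, f.base x ∈ U → closure ({f.asFiber x} : Set (f.fiber (f.base x))) = Set.univ →
      FlatMod.IsFlatOverAt f F x)
    {W : S.Opens} (hW : IsAffineOpen W) :
    letI : Algebra Γ(S, W) Γ(X, f ⁻¹ᵁ W) := (f.appLE W _ le_rfl).hom.toAlgebra
    ∃ J : S.IdealSheafData, BlowUp.IsAdmissibleFor U J ∧ ∀ K : S.IdealSheafData, BlowUp.IsAdmissibleFor U K →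
      (∃ L, K.ideal ⟨W, hW⟩ = J.ideal ⟨W, hW⟩ * L) →
      ∀ (T : Type u) [CommRing T] [Algebra Γ(S, W) T] (t : T), t ∈ T⁰ →
        (K.ideal ⟨W, hW⟩).map (algebraMap Γ(S, W) T) = Ideal.span {t} →
        ∀ (A : Type u) [CommRing A] [Algebra T A] [Algebra Γ(X, f ⁻¹ᵁ W) A] [Algebra Γ(S, W) A]
          [IsScalarTower Γ(S, W) T A] [IsScalarTower Γ(S, W) Γ(X, f ⁻¹ᵁ W) A]
          [Algebra.IsPushout Γ(S, W) T Γ(X, f ⁻¹ᵁ W) A] (p' : Ideal T) [p'.IsPrime],
          (p'.map (algebraMap T A)).IsPrime ∧ (∀ r, algebraMap T A r ∈ p'.map (algebraMap T A) → r ∈ p') ∧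
          ∃ g : A, g ∉ p'.map (algebraMap T A) ∧
            Module.Free (Localization.Away g) (Localization.Away g ⊗[A]
              ((A ⊗[Γ(X, f ⁻¹ᵁ W)] Γ(F, f ⁻¹ᵁ W)) ⧸
                FlatCA.powTorsion A (algebraMap T A t) (A ⊗[Γ(X, f ⁻¹ᵁ W)] Γ(F, f ⁻¹ᵁ W)))) ∧
            Module.Finite (Localization.Away g) (Localization.Away g ⊗[A]
              ((A ⊗[Γ(X, f ⁻¹ᵁ W)] Γ(F, f ⁻¹ᵁ W)) ⧸
                FlatCA.powTorsion A (algebraMap T A t) (A ⊗[Γ(X, f ⁻¹ᵁ W)] Γ(F, f ⁻¹ᵁ W)))) := by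
  classical
  let V := f ⁻¹ᵁ W
  have hV : IsAffineOpen V := hW.preimage f
  letI : Algebra Γ(S, W) Γ(X, V) := (f.appLE W _ le_rfl).hom.toAlgebra
  haveI : Algebra.FinitePresentation Γ(S, W) Γ(X, V) := f.finitePresentation_appLE hW hV le_rfl
  haveI : Module.Flat Γ(S, W) Γ(X, V) := f.flat_appLE hW hV le_rfl
  have hgi : FlatCA.GeomIntegralFibres Γ(S, W) Γ(X, V) := geomIntegralFibres_sections f hW
  have hdom := Groth.L20.RG.DomFib.of_geomIntegralFibres hgi
  haveI : Module.Projective Γ(S, W) Γ(X, V) :=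
    (Groth.Agent.S1219.result Γ(X, V)).mpr fun p _ A' B' N' _ _ _ _ _ _ _ _ _ _ _ _ _ _ g t' t _ _ P _ _ =>
      Groth.Agent.S1223.result hgi p A' B' N' g t' t P
  haveI : Module.Finite Γ(X, V) Γ(F, V) := Groth.L20.ModStalk.finite_sections F ⟨‹_›, hft⟩ hV
  obtain ⟨G, hG, hcov⟩ := exists_gens_inter U hU hW
  have hbas : ∀ a : Γ(S, W), X.basicOpen (algebraMap Γ(S, W) Γ(X, V) a) = V ⊓ f ⁻¹ᵁ S.basicOpen a :=
    fun a => Scheme.basicOpen_appLE f V W le_rfl a
  obtain ⟨N₀, iN₀, mN₀, fpN₀, π, hπ, hker⟩ := exists_fp_cover (N := Γ(F, V)) (G.image (algebraMap Γ(S, W) Γ(X, V)))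
    fun b hb => by
      obtain ⟨a, ha, rfl⟩ := Finset.mem_image.1 hb
      exact fp_away_of_sections F hV _ (fp_sections_of_restrict F (f ⁻¹ᵁ U) hfpU (hV.basicOpen _)
        ((hbas a).le.trans (inf_le_right.trans fun y hy => hG a ha hy)))
  have hker' : ∀ a ∈ G, ∀ x, π x = 0 → ∃ k : ℕ, algebraMap Γ(S, W) Γ(X, V) a ^ k • x = 0 :=
    fun a ha => hker _ (Finset.mem_image_of_mem _ ha)
  letI : Module Γ(S, W) N₀ := Module.compHom N₀ (algebraMap Γ(S, W) Γ(X, V))
  haveI : IsScalarTower Γ(S, W) Γ(X, V) N₀ := IsScalarTower.of_algebraMap_smul fun _ _ => rfl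
  have hflat : ∀ (p : Ideal Γ(S, W)) [p.IsPrime] [(p.map (algebraMap Γ(S, W) Γ(X, V))).IsPrime],
      ¬ Ideal.span (G : Set Γ(S, W)) ≤ p →
      Module.Flat Γ(S, W) (LocalizedModule (p.map (algebraMap Γ(S, W) Γ(X, V))).primeCompl N₀) := by
    intro p _ hq hGp
    obtain ⟨a, ha, hap⟩ : ∃ a ∈ G, a ∉ p := by
      by_contra hne
      push Not at hne
      exact hGp (Ideal.span_le.2 hne)
    let q := p.map (algebraMap Γ(S, W) Γ(X, V))
    have haq : algebraMap Γ(S, W) Γ(X, V) a ∉ q := fun h => hap (mem_of_map_mem hdom p h)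
    let x : X := hV.fromSpec ⟨q, hq⟩
    have hxa : x ∈ X.basicOpen (algebraMap Γ(S, W) Γ(X, V) a) := by
      have : (⟨q, hq⟩ : PrimeSpectrum Γ(X, V)) ∈
          hV.fromSpec ⁻¹ᵁ X.basicOpen (algebraMap Γ(S, W) Γ(X, V) a) := by
        rw [hV.fromSpec_preimage_basicOpen]
        exact haq
      exact this
    rw [hbas] at hxa
    have hqx : hV.primeIdealOf ⟨x, hxa.1⟩ = ⟨q, hq⟩ :=
      hV.fromSpec.isOpenEmbedding.injective (hV.fromSpec_primeIdealOf ⟨x, hxa.1⟩)
    have hgeneric : closure ({f.asFiber x} : Set (f.fiber (f.base x))) = Set.univ := by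
      refine Set.eq_univ_of_forall fun y => specializes_iff_mem_closure.1 ?_
      rw [← (f.fiberι (f.base x)).isEmbedding.toIsInducing.specializes_iff, Scheme.Hom.fiberι_asFiber]
      have hz : f.fiberι (f.base x) y ∈ f ⁻¹' {f.base x} := f.range_fiberι (f.base x) ▸ Set.mem_range_self y
      have hzV : f.fiberι (f.base x) y ∈ V := by
        show f (f.fiberι (f.base x) y) ∈ W
        rw [show f (f.fiberι (f.base x) y) = f x from hz]
        exact hxa.1
      have hle : (⟨q, hq⟩ : PrimeSpectrum Γ(X, V)) ≤ hV.primeIdealOf ⟨_, hzV⟩ := by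
        refine Ideal.map_le_iff_le_comap.2 ?_
        have h1 := congrArg PrimeSpectrum.asIdeal
          (IsAffineOpen.comap_primeIdealOf_appLE W hW V hV le_rfl hzV (f := f))
        have h2 := congrArg PrimeSpectrum.asIdeal
          (IsAffineOpen.comap_primeIdealOf_appLE W hW V hV le_rfl hxa.1 (f := f))
        have heq : hW.primeIdealOf ⟨f (f.fiberι (f.base x) y), hzV⟩ = hW.primeIdealOf ⟨f x, hxa.1⟩ :=
          congrArg hW.primeIdealOf (Subtype.ext hz)
        rw [heq, ← h2] at h1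
        refine le_of_le_of_eq ?_ h1.symm
        show p ≤ (hV.primeIdealOf ⟨x, hxa.1⟩).asIdeal.comap (algebraMap Γ(S, W) Γ(X, V))
        rw [hqx]
        exact Ideal.le_comap_map
      have h3 := ((PrimeSpectrum.le_iff_specializes _ _).1 hle).map hV.fromSpec.continuous
      rwa [hV.fromSpec_primeIdealOf] at h3
    letI : Module Γ(S, W) Γ(F, V) := Module.compHom Γ(F, V) (f.appLE W V le_rfl).hom
    haveI : IsScalarTower Γ(S, W) Γ(X, V) Γ(F, V) := IsScalarTower.of_algebraMap_smul fun _ _ => rfl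
    have h1 := (Groth.L20.ModStalk.isFlatOverAt_iff f F hW hV le_rfl hxa.1).1 (hflU x (hG a ha hxa.2) hgeneric)
    have h1' : Module.Flat Γ(S, W) (LocalizedModule q.primeCompl Γ(F, V)) := by
      revert h1
      generalize hV.primeIdealOf ⟨x, hxa.1⟩ = qq at hqx
      subst hqx
      exact fun h1 => h1
    haveI := h1'
    let πq := LocalizedModule.map q.primeCompl π
    have hbij : Function.Bijective πq := by
      refine ⟨(injective_iff_map_eq_zero _).mpr fun y hy => ?_, LocalizedModule.map_surjective q.primeCompl π hπ⟩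
      induction y using LocalizedModule.induction_on with
      | _ x s =>
        rw [LocalizedModule.map_mk, ← LocalizedModule.zero_mk (S := q.primeCompl) s, LocalizedModule.mk_eq] at hy
        obtain ⟨c, hc⟩ := hy
        simp only [smul_zero, Submonoid.smul_def] at hc
        rw [smul_smul, ← map_smul] at hc
        obtain ⟨k, hk⟩ := hker' a ha _ hc
        rw [← LocalizedModule.zero_mk (S := q.primeCompl) s, LocalizedModule.mk_eq]
        refine ⟨⟨_, pow_mem (show algebraMap Γ(S, W) Γ(X, V) a ∈ q.primeCompl from haq) k⟩ * c, ?_⟩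
        simp only [smul_zero, Submonoid.smul_def, Submonoid.coe_mul]
        rw [smul_smul, mul_assoc, mul_smul, hk]
    exact Module.Flat.of_linearEquiv
      ((LinearEquiv.ofBijective πq hbij).restrictScalars Γ(S, W))
  obtain ⟨I, hI, hrad, hgood⟩ := exists_ideal_free_generic hdom G hflat
  obtain ⟨J, hJ, hJW⟩ := exists_extend U hU hW G hcov I hI
    (fun a ha => hrad.symm ▸ Ideal.le_radical (Ideal.subset_span ha))
  refine ⟨J, hJ, fun K hK ⟨L, hL⟩ T _ _ t ht hKt A _ _ _ _ _ _ _ p' _ => ?_⟩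
  rw [hJW] at hL
  have hradK : (I * L).radical = (Ideal.span (G : Set Γ(S, W))).radical := by
    refine le_antisymm ?_ ?_
    · rw [← hrad]
      exact Ideal.radical_mono Ideal.mul_le_left
    · rw [← hL]
      exact Ideal.radical_le_radical_iff.2 (gens_le_radical K hK.2 hW G hG)
  rw [hL] at hKt
  obtain ⟨g, hg, hfree, hfin⟩ := hgood L hradK T t ht hKt A p'
  haveI : Module.Flat T A := Module.Flat.of_linearEquiv (Algebra.IsPushout.equiv Γ(S, W) T Γ(X, V) A).toLinearEquiv.symm
  refine ⟨Groth.L20.RG.isPrime_map_of_domFib (hdom.of_isPushout T A) p',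
    fun r hr => mem_of_map_mem (hdom.of_isPushout T A) p' hr, g, hg, ?_⟩
  have htG : t ∈ ((Ideal.span (G : Set Γ(S, W))).map (algebraMap Γ(S, W) T)).radical :=
    (Ideal.map_radical_le _) (Ideal.map_mono (Ideal.le_radical.trans hradK.le) (hKt ▸ Ideal.mem_span_singleton_self t))
  obtain ⟨e⟩ := nonempty_quot_of_torsion_ker (π.baseChange A) (LinearMap.lTensor_surjective A hπ) (algebraMap T A t)
    (ker_baseChange_le π hπ G hker' htG)
  let e' := TensorProduct.AlgebraTensorModule.congr (LinearEquiv.refl (Localization.Away g) (Localization.Away g)) e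
  haveI := hfree
  haveI := hfin
  exact ⟨Module.Free.of_equiv e', Module.Finite.equiv e'⟩

/-- **The strict transform is finite locally free on an open meeting every fibre.** -/
theorem exists_finLocFree_open [CompactSpace S] [QuasiSeparatedSpace S]
    (f : X ⟶ S) [IsAffineHom f] [LocallyOfFinitePresentation f] [Flat f] [GeometricallyIntegral f]
    (U : S.Opens) (hU : IsCompact (U : Set S)) (F : X.Modules) (hqc : Coh.IsQCoh F) (hft : CohB1.IsFT F)
    (hfpU : CohB1.IsFP ((Scheme.Modules.pullback (f ⁻¹ᵁ U).ι).obj F))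
    (hflU : ∀ x : X, f.base x ∈ U → closure ({f.asFiber x} : Set (f.fiber (f.base x))) = Set.univ →
      FlatMod.IsFlatOverAt f F x) :
    ∃ (𝓘 : S.IdealSheafData) (S' : Scheme.{u}) (b : S' ⟶ S), BlowUp.IsBlowUp b 𝓘 ∧ BlowUp.IsAdmissibleFor U 𝓘 ∧
      ∀ (X' : Scheme.{u}) (p₁ : X' ⟶ X) (p₂ : X' ⟶ S'), IsPullback p₁ p₂ f b →
      ∀ (G : X'.Modules) (π : (Scheme.Modules.pullback p₁).obj F ⟶ G),
        BlowUp.IsStrictTransform p₁ (𝓘.comap f) F G π →
        ∃ V : X'.Opens, FlatMod.IsFinLocFree ((Scheme.Modules.pullback V.ι).obj G) ∧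
          Function.Surjective (V.ι ≫ p₂).base := by
  classical
  haveI := hqc
  have hch : ∀ s : S, ∃ W : S.Opens, IsAffineOpen W ∧ s ∈ W := fun s => by
    obtain ⟨_, ⟨W, hW, rfl⟩, hs, -⟩ := S.isBasis_affineOpens.exists_subset_of_mem_open (Set.mem_univ s) isOpen_univ
    exact ⟨W, hW, hs⟩
  choose W hW hsW using hch
  obtain ⟨s, hs⟩ := isCompact_univ.elim_finite_subcover (fun x : S => (W x : Set S)) (fun x => (W x).2)
    (fun x _ => Set.mem_iUnion.2 ⟨x, hsW x⟩)
  let c : Fin s.card → S := fun i => (s.equivFin.symm i).1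
  have hc : ∀ y : S, ∃ i, y ∈ W (c i) := fun y => by
    obtain ⟨x, hx, hy⟩ := Set.mem_iUnion₂.1 (hs (Set.mem_univ y))
    exact ⟨s.equivFin ⟨x, hx⟩, by simpa [c] using hy⟩
  choose J hJ hgood using fun i => exists_chart_centre_generic f U hU F hft hfpU hflU (hW (c i))
  obtain ⟨K, hK, hKJ⟩ := exists_prod U J hJ
  obtain ⟨S', b, hb⟩ := Groth.L13.BU.exists_isBlowUp K
  refine ⟨K, S', b, hb, hK, fun X' p₁ p₂ hsq G π hG => ?_⟩
  have hLP : LocPrincipal (BlowUp.exceptional p₁ (K.comap f)) := fun x' => by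
    obtain ⟨W', U', eW, eU, eU', hW', hxU', -, hU', t, -, -, hE⟩ := exists_chart_pullback (x' := x') hsq K hb.1
      (hW (c (hc (f (p₁ x'))).choose)) ((hW (c (hc (f (p₁ x'))).choose)).preimage f) le_rfl
      (hc (f (p₁ x'))).choose_spec
    exact ⟨⟨U', hU'⟩, _, hxU', hE⟩
  haveI hGqc : Coh.IsQCoh G := isQCoh_strict hqc hLP hG
  let Vs : X'.Opens := sSup {D : X'.Opens | IsAffineOpen D ∧ Module.Free Γ(X', D) Γ(G, D) ∧ Module.Finite Γ(X', D) Γ(G, D)}
  refine ⟨Vs, isFinLocFree_pullback_of_free G Vs fun x hx => ?_, fun s' => ?_⟩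
  · obtain ⟨D, hD, hxD⟩ := Opens.mem_sSup.1 hx
    exact ⟨D, hD.1, hxD, le_sSup hD, hD.2.1, hD.2.2⟩
  obtain ⟨i, hi⟩ := hc (b s')
  obtain ⟨x, hx⟩ := (inferInstance : Surjective f).surj (b s')
  obtain ⟨x', hx1, hx2⟩ := Scheme.exists_preimage_of_isPullback hsq x s' hx
  have hxV : p₁ x' ∈ f ⁻¹ᵁ W (c i) := by
    show f (p₁ x') ∈ W (c i)
    rw [hx1, hx]; exact hi
  obtain ⟨W', U', eW, eU, eU', hW', hxU', hpo, hU', t, ht, hKt, hE⟩ :=
    exists_chart_pullback hsq K hb.1 (hW (c i)) ((hW (c i)).preimage f) le_rfl hxV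
  have hsW' : s' ∈ W' := hx2 ▸ eU' hxU'
  letI : Algebra Γ(S, W (c i)) Γ(X, f ⁻¹ᵁ W (c i)) := (f.appLE (W (c i)) _ le_rfl).hom.toAlgebra
  letI : Algebra Γ(S, W (c i)) Γ(S', W') := (b.appLE _ W' eW).hom.toAlgebra
  letI : Algebra Γ(X, f ⁻¹ᵁ W (c i)) Γ(X', U') := (p₁.appLE _ U' eU).hom.toAlgebra
  letI : Algebra Γ(S', W') Γ(X', U') := (p₂.appLE W' U' eU').hom.toAlgebra
  letI : Algebra Γ(S, W (c i)) Γ(X', U') :=
    ((p₂.appLE W' U' eU').hom.comp (b.appLE _ W' eW).hom).toAlgebra
  haveI : IsScalarTower Γ(S, W (c i)) Γ(S', W') Γ(X', U') := IsScalarTower.of_algebraMap_eq fun _ => rfl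
  haveI : IsScalarTower Γ(S, W (c i)) Γ(X, f ⁻¹ᵁ W (c i)) Γ(X', U') :=
    IsScalarTower.of_algebraMap_eq' (congrArg CommRingCat.Hom.hom hpo.w).symm
  haveI : Algebra.IsPushout Γ(S, W (c i)) Γ(X, f ⁻¹ᵁ W (c i)) Γ(S', W') Γ(X', U') :=
    CommRingCat.isPushout_iff_isPushout.1 hpo
  haveI : Algebra.IsPushout Γ(S, W (c i)) Γ(S', W') Γ(X, f ⁻¹ᵁ W (c i)) Γ(X', U') := Algebra.IsPushout.symm inferInstance
  obtain ⟨hQ, hQp, g, hg, hfree, hfin⟩ := hgood i K hK (hKJ i ⟨_, hW (c i)⟩) Γ(S', W') t ht hKt Γ(X', U')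
    (hW'.primeIdealOf ⟨s', hsW'⟩).asIdeal
  set Q := Ideal.map (algebraMap Γ(S', W') Γ(X', U')) (hW'.primeIdealOf ⟨s', hsW'⟩).asIdeal with hQdef
  let y : X' := hU'.fromSpec ⟨Q, hQ⟩
  have hyg : y ∈ X'.basicOpen g := by
    have : (⟨Q, hQ⟩ : PrimeSpectrum Γ(X', U')) ∈ hU'.fromSpec ⁻¹ᵁ X'.basicOpen g := by
      rw [hU'.fromSpec_preimage_basicOpen]
      exact hg
    exact this
  have hyU : y ∈ U' := X'.basicOpen_le g hyg
  have hy2 : p₂ y = s' := by
    have hq : hU'.primeIdealOf ⟨y, hyU⟩ = ⟨Q, hQ⟩ :=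
      hU'.fromSpec.isOpenEmbedding.injective (hU'.fromSpec_primeIdealOf ⟨y, hyU⟩)
    have h1 := IsAffineOpen.comap_primeIdealOf_appLE W' hW' U' hU' eU' hyU (f := p₂)
    rw [hq] at h1
    have h2 : hW'.primeIdealOf ⟨p₂ y, eU' hyU⟩ = hW'.primeIdealOf ⟨s', hsW'⟩ := by
      rw [← h1]
      refine PrimeSpectrum.ext (le_antisymm (fun r hr => hQp r hr) ?_)
      exact Ideal.le_comap_map
    calc p₂ y = hW'.fromSpec (hW'.primeIdealOf ⟨p₂ y, eU' hyU⟩) := (hW'.fromSpec_primeIdealOf ⟨p₂ y, eU' hyU⟩).symm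
      _ = hW'.fromSpec (hW'.primeIdealOf ⟨s', hsW'⟩) := by rw [h2]
      _ = s' := hW'.fromSpec_primeIdealOf _
  letI := Module.compHom Γ((Scheme.Modules.pullback p₁).obj F, U') (p₁.appLE (f ⁻¹ᵁ W (c i)) U' eU).hom
  haveI : IsScalarTower Γ(X, f ⁻¹ᵁ W (c i)) Γ(X', U') Γ((Scheme.Modules.pullback p₁).obj F, U') :=
    IsScalarTower.of_algebraMap_smul fun _ _ => rfl
  have hbc := Groth.L16.AffineBC.isBaseChange_pull p₁ F ((hW (c i)).preimage f) hU' eU
  obtain ⟨e1⟩ := nonempty_quot_torsion_equiv hbc.equiv (algebraMap Γ(S', W') Γ(X', U') t)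
  obtain ⟨e2⟩ := nonempty_quotient_equiv hG ⟨U', hU'⟩ _ hE
  let e := TensorProduct.AlgebraTensorModule.congr (LinearEquiv.refl (Localization.Away g) (Localization.Away g))
    (e1.trans e2)
  haveI := hfree
  haveI := hfin
  haveI : Module.Free (Localization.Away g) (Localization.Away g ⊗[Γ(X', U')] Γ(G, U')) := Module.Free.of_equiv e
  haveI : Module.Finite (Localization.Away g) (Localization.Away g ⊗[Γ(X', U')] Γ(G, U')) := Module.Finite.equiv e
  obtain ⟨hfr, hfi⟩ := free_sections_of_away G hU' g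
  exact ⟨⟨y, Opens.mem_sSup.2 ⟨_, ⟨hU'.basicOpen g, hfr, hfi⟩, hyg⟩⟩, hy2⟩

end Groth.L20.BlowFlat
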