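import Groth.Agent.L20.BlowFlat.Sections
import Groth.Agent.S8857
import Groth.Agent.L13.BlowUp.Exists
import Groth.Agent.L13.Nagata.Base

/-!
# The centre on the whole scheme
-/

set_option autoImplicit false
set_option linter.style.haveILetI false
set_option backward.isDefEq.respectTransparency.types false
set_option backward.isDefEq.respectTransparency false

universe u

open CategoryTheory CategoryTheory.Limits AlgebraicGeometry TopologicalSpace Opposite
open scoped nonZeroDivisors TensorProduct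

noncomputable section

namespace Groth.L20.BlowFlat

open Groth.L18.Frame (rs ro rs_rs ro_ro rs_smul rs_self ro_self)

variable {X S : Scheme.{u}}

/-- The intersection of an affine open with a quasi-compact open is a finite union of basic opens. -/
theorem exists_gens_inter [QuasiSeparatedSpace S] (U : S.Opens) (hU : IsCompact (U : Set S)) {W : S.Opens}
    (hW : IsAffineOpen W) :
    ∃ G : Finset Γ(S, W), (∀ g ∈ G, S.basicOpen g ≤ U) ∧ ∀ x ∈ W, x ∈ U → ∃ g ∈ G, x ∈ S.basicOpen g := by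
  classical
  have hc : IsCompact ((W : Set S) ∩ U) :=
    QuasiSeparatedSpace.inter_isCompact _ _ W.2 hW.isCompact U.2 hU
  have hcov : ((W : Set S) ∩ U) ⊆ ⋃ g : {g : Γ(S, W) // S.basicOpen g ≤ U}, (S.basicOpen g.1 : Set S) := by
    rintro x ⟨hxW, hxU⟩
    obtain ⟨g, hg, hxg⟩ := hW.exists_basicOpen_le (V := U) ⟨x, hxU⟩ hxW
    exact Set.mem_iUnion.2 ⟨⟨g, hg⟩, hxg⟩
  obtain ⟨F, hF⟩ := hc.elim_finite_subcover
    (fun g : {g : Γ(S, W) // S.basicOpen g ≤ U} => (S.basicOpen g.1 : Set S)) (fun g => (S.basicOpen g.1).2) hcov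
  refine ⟨F.image Subtype.val, fun g hg => ?_, fun x hxW hxU => ?_⟩
  · obtain ⟨g', -, rfl⟩ := Finset.mem_image.1 hg
    exact g'.2
  · obtain ⟨g, hg, hxg⟩ := Set.mem_iUnion₂.1 (hF ⟨hxW, hxU⟩)
    exact ⟨g.1, Finset.mem_image_of_mem _ hg, hxg⟩

/-- Primes containing an ideal sheaf disjoint from an open avoid the open. -/
theorem gens_le_radical (K : S.IdealSheafData) {U : S.Opens} (hK : Disjoint (K.support : Set S) (U : Set S))
    {W : S.Opens} (hW : IsAffineOpen W) (G : Finset Γ(S, W)) (hG : ∀ g ∈ G, S.basicOpen g ≤ U) :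
    Ideal.span (G : Set Γ(S, W)) ≤ (K.ideal ⟨W, hW⟩).radical := by
  refine Ideal.span_le.2 fun g hg => ?_
  rw [SetLike.mem_coe, Ideal.radical_eq_sInf, Submodule.mem_sInf]
  rintro p ⟨hle, hp⟩
  by_contra hgp
  let x := hW.fromSpec ⟨p, hp⟩
  have h1 : x ∈ hW.fromSpec '' PrimeSpectrum.zeroLocus (K.ideal ⟨W, hW⟩ : Set Γ(S, W)) := ⟨⟨p, hp⟩, hle, rfl⟩
  rw [hW.fromSpec_image_zeroLocus] at h1
  refine Set.disjoint_left.1 hK ((Scheme.IdealSheafData.mem_support_iff_of_mem (U := ⟨W, hW⟩) h1.2).2 h1.1)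
    (hG g hg ?_)
  have : (⟨p, hp⟩ : PrimeSpectrum Γ(S, W)) ∈ hW.fromSpec ⁻¹ᵁ S.basicOpen g := by
    rw [hW.fromSpec_preimage_basicOpen]
    exact hgp
  exact this

/-- An ideal of an affine open with support off `U` extends to an admissible centre. -/
theorem exists_extend [CompactSpace S] [QuasiSeparatedSpace S] (U : S.Opens) (hU : IsCompact (U : Set S))
    {W : S.Opens} (hW : IsAffineOpen W) (G : Finset Γ(S, W))
    (hcov : ∀ x ∈ W, x ∈ U → ∃ g ∈ G, x ∈ S.basicOpen g) (I : Ideal Γ(S, W)) (hI : I.FG)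
    (hrad : (G : Set Γ(S, W)) ⊆ I.radical) :
    ∃ J : S.IdealSheafData, BlowUp.IsAdmissibleFor U J ∧ J.ideal ⟨W, hW⟩ = I := by
  haveI : IsAffine W.toScheme := hW
  let I₀ : Ideal Γ(W.toScheme, ⊤) := I.map W.topIso.inv.hom
  let K₀ : W.toScheme.IdealSheafData := Scheme.IdealSheafData.ofIdealTop I₀
  have hK₀ : K₀.ideal ⟨⊤, isAffineOpen_top _⟩ = I₀ := Scheme.IdealSheafData.equivOfIsAffine.apply_symm_apply _
  have hft : BlowUp.IsFiniteTypeIdeal K₀ := fun V => by
    rw [← Scheme.IdealSheafData.map_ideal K₀ (U := V) (V := ⟨⊤, isAffineOpen_top _⟩) (show V.1 ≤ ⊤ from le_top), hK₀]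
    exact (hI.map _).map _
  have hdis : Disjoint (K₀.support : Set W.toScheme) ((W.ι ⁻¹ᵁ U : W.toScheme.Opens) : Set W.toScheme) := by
    rw [Set.disjoint_left]
    intro x hx hxU
    obtain ⟨g, hg, hxg⟩ := hcov (W.ι x) x.2 hxU
    obtain ⟨n, hn⟩ := hrad hg
    have h1 := (Scheme.IdealSheafData.mem_support_iff_of_mem (U := ⟨⊤, isAffineOpen_top _⟩) trivial).1 hx
    rw [hK₀, Scheme.mem_zeroLocus_iff] at h1
    refine h1 _ (Ideal.mem_map_of_mem _ hn) ?_
    rw [map_pow]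
    rcases Nat.eq_zero_or_pos n with rfl | hn0
    · rw [pow_zero, Scheme.basicOpen_of_isUnit _ isUnit_one]; trivial
    · refine (Scheme.basicOpen_pow (X := W.toScheme) (U := ⊤) (f := W.topIso.inv g) hn0).symm ▸ ?_
      have h2 : W.ι x ∈ W.ι ''ᵁ W.toScheme.basicOpen (W.topIso.inv g) := by
        rw [Scheme.Opens.ι_image_basicOpen_topIso_inv]; exact hxg
      obtain ⟨y, hy, hyx⟩ := h2
      exact W.ι.isOpenEmbedding.injective hyx ▸ hy
  obtain ⟨J, hJ, hJK, -⟩ := Groth.Agent.S8857.result S U W hU hW.isCompact K₀ ⟨hft, hdis⟩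
  refine ⟨J, hJ, Groth.L22.Ideals.map_hom_inj W.topIso.symm ?_⟩
  rw [Iso.symm_hom, ← Groth.L22.Ideals.comap_ideal_ι J ⟨W, hW⟩, hJK, hK₀]

/-- The product of finitely many admissible centres. -/
theorem exists_prod (U : S.Opens) :
    ∀ {k : ℕ} (J : Fin k → S.IdealSheafData), (∀ i, BlowUp.IsAdmissibleFor U (J i)) →
      ∃ K : S.IdealSheafData, BlowUp.IsAdmissibleFor U K ∧
        ∀ (i : Fin k) (W : S.affineOpens), ∃ L, K.ideal W = (J i).ideal W * L := by
  intro k
  induction k with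
  | zero =>
    intro J _
    refine ⟨⊤, ⟨Groth.L13.Nagata.isFiniteType_top (X := S), ?_⟩, fun i => i.elim0⟩
    simp
  | succ k ih =>
    intro J hJ
    obtain ⟨K, hK, hKJ⟩ := ih (fun i => J i.succ) fun i => hJ _
    refine ⟨J 0 * K, ⟨Groth.L13.Nagata.isFiniteType_mul (hJ 0).1 hK.1, ?_⟩, fun i W => ?_⟩
    · rw [Scheme.IdealSheafData.support_mul, Closeds.coe_sup, Set.disjoint_union_left]
      exact ⟨(hJ 0).2, hK.2⟩
    · induction i using Fin.cases with
      | zero => exact ⟨K.ideal W, rfl⟩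
      | succ i =>
        obtain ⟨L, hL⟩ := hKJ i W
        refine ⟨(J 0).ideal W * L, ?_⟩
        show (J 0).ideal W * K.ideal W = _
        rw [hL, mul_left_comm]

end Groth.L20.BlowFlat
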