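import Groth.Agent.L20.BlowFlat.Rank
import Groth.Agent.S1249
import Groth.Agent.L20.RG.Induction
import Groth.Agent.L20.RG.TransferFp
import Mathlib.RingTheory.Finiteness.Prod

/-!
# Induction on the dimension of the fibres
-/

set_option autoImplicit false
set_option linter.style.haveILetI false
set_option backward.isDefEq.respectTransparency.types false
universe u

open TensorProduct nonZeroDivisors

namespace Groth.L20.BlowFlat

attribute [local instance] Algebra.TensorProduct.rightAlgebra

/-- Centres exist in every dimension. -/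
theorem centresBelow : ∀ n : ℕ, CentresBelow.{u} n := by
  intro n
  induction n using Nat.strong_induction_on with
  | _ n ih =>
  intro R _ f hf S _ _ _ N _ _ _ _ _ hflat hdim
  refine hasCentre_of_local (S := S) fun q hq => ?_
  haveI := hq.isPrime
  by_cases hsupp : (⟨q, inferInstance⟩ : PrimeSpectrum S) ∈ Module.support S N
  swap
  · rw [Module.mem_support_iff_of_finite, SetLike.not_le_iff_exists] at hsupp
    obtain ⟨h, hh, hhq⟩ := hsupp
    exact LocCentre.of_smul_eq_zero q hhq (Module.mem_annihilator.1 hh)
  let p := q.comap (algebraMap R S)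
  haveI : q.LiesOver p := ⟨rfl⟩
  obtain ⟨x, hxq, hx⟩ := Groth.L20.RG.exists_mem_support N p q hsupp
  obtain ⟨h1, h2⟩ := Groth.L20.RG.localDim_support_le N p ⟨x, hx⟩
  obtain ⟨m, hm, hmn⟩ : ∃ m : ℕ,
      FlatMor.localDim (Module.support (p.Fiber S) (FlatCA.fiberMod p S N)) ⟨x, hx⟩ = m ∧ m < n := by
    have h3 := lt_of_le_of_lt h1 (hdim p)
    revert h2 h3
    generalize FlatMor.localDim (Module.support (p.Fiber S) (FlatCA.fiberMod p S N)) ⟨x, hx⟩ = l
    intro h2 h3
    cases l with
    | bot => exact absurd h2 (by simp)
    | coe l =>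
      cases l with
      | top => exact absurd h3 (by simp)
      | coe m => exact ⟨m, rfl, by exact_mod_cast h3⟩
  obtain ⟨E⟩ := Groth.Agent.S1249.result N p q m x hxq hx hm
  haveI := E.etaleR.1
  haveI := E.etaleS.1
  haveI := E.etaleS.2.1
  haveI := E.finiteDC
  haveI := E.finiteG
  haveI := E.fpC
  haveI : Algebra.Smooth E.R' E.D := Groth.L20.RG.smooth_of_relDim E.smooth
  haveI : Module.Flat R E.R' := Algebra.Smooth.flat R E.R'
  haveI : Module.Flat S E.S' := Algebra.Smooth.flat S E.S'
  haveI : SMulCommClass S E.R' E.S' := ⟨fun s r y => by simp only [Algebra.smul_def]; ring⟩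
  -- finite presentation
  haveI : Algebra.FinitePresentation R E.S' := Algebra.FinitePresentation.trans R S E.S'
  haveI : Algebra.FinitePresentation E.R' E.S' :=
    Algebra.FinitePresentation.of_restrict_scalars_finitePresentation R E.R' E.S'
  haveI : Algebra.FinitePresentation E.R' E.C := Algebra.FinitePresentation.trans E.R' E.S' E.C
  haveI : Algebra.FinitePresentation E.D E.C :=
    Algebra.FinitePresentation.of_restrict_scalars_finitePresentation E.R' E.D E.C
  haveI : Module.FinitePresentation E.D E.C := Module.FinitePresentation.of_finite_of_finitePresentation E.D E.C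
  haveI : Module.FinitePresentation E.S' E.N' := Module.FinitePresentation.of_equiv E.isBaseChange.equiv
  haveI : Module.FinitePresentation E.S' E.G := Module.FinitePresentation.of_equiv E.iso
  haveI : Module.Finite E.S' E.C := Module.Finite.of_surjective (Algebra.linearMap E.S' E.C) E.surjC
  haveI : Module.FinitePresentation E.C E.G := Groth.L20.RG.finitePresentation_of_finite_algebra E.S' E.C E.G
  haveI : Module.FinitePresentation E.D E.G := Module.FinitePresentation.trans E.D E.G E.C
  haveI : IsScalarTower E.R' E.S' E.G := IsScalarTower.of_algebraMap_smul fun r g => by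
    rw [← algebraMap_smul E.C (algebraMap E.R' E.S' r) g, ← IsScalarTower.algebraMap_apply, algebraMap_smul]
  letI : Module R E.G := Module.compHom E.G (algebraMap R E.R')
  haveI : IsScalarTower R E.R' E.G := IsScalarTower.of_algebraMap_smul fun _ _ => rfl
  haveI : IsScalarTower R E.S' E.G := IsScalarTower.of_algebraMap_smul fun r g => by
    rw [IsScalarTower.algebraMap_apply R E.R' E.S', algebraMap_smul, algebraMap_smul]
  have hfR' : algebraMap R E.R' f ∈ E.R'⁰ := mem_nonZeroDivisors_iff_right.2 fun y hy =>
    Module.Flat.isSMulRegular_of_nonZeroDivisors (M := E.R') hf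
      (show f • y = f • (0 : E.R') by rw [smul_zero, Algebra.smul_def, mul_comm, hy])
  let e : E.S' ⊗[S] N ≃ₗ[E.S'] E.G := E.isBaseChange.equiv.trans E.iso
  have hG : FlatOff (algebraMap R E.R' f) E.G :=
    (((hflat.tensor_flat E.S').congr ((TensorProduct.comm S N E.S').restrictScalars R)).congr
      (e.restrictScalars R)).of_etale
  refine LocCentre.of_etale hf q E.q' (HasCentre.congr (e.restrictScalars E.R') ?_)
  exact hasCentre_core hfR' (ih m hmn) (nice_of_geomInt E.smooth E.geomInt) hG

end Groth.L20.BlowFlat
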