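import Groth.Agent.L20.BlowFlat.Tors
import Mathlib.RingTheory.Localization.Away.Basic
import Mathlib.RingTheory.Localization.Ideal
import Mathlib.RingTheory.Flat.Localization

/-!
# Algebras making an ideal invertible

`Inv I T`: near every closed point of `Spec T` the ideal `I` becomes generated by the image of one of
its elements, a nonzerodivisor; these are the algebras mapping to the blow-up of `Spec R` in `I`.
-/

set_option autoImplicit false
set_option linter.style.haveILetI false
universe u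

open TensorProduct nonZeroDivisors

namespace Groth.L20.BlowFlat

variable {R : Type u} [CommRing R] {I J : Ideal R} {T : Type u} [CommRing T] [Algebra R T]

/-- `I` is, locally on `Spec T`, generated by a nonzerodivisor coming from `I`. -/
def Inv (I : Ideal R) (T : Type u) [CommRing T] [Algebra R T] : Prop :=
  ∀ m : Ideal T, m.IsMaximal → ∃ h ∉ m, ∃ a ∈ I, algebraMap R (Localization.Away h) a ∈ (Localization.Away h)⁰ ∧
    I.map (algebraMap R (Localization.Away h)) = Ideal.span {algebraMap R (Localization.Away h) a}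

theorem nonZeroDivisors_of_dvd {A : Type u} [CommRing A] {x y : A} (h : x ∣ y) (hy : y ∈ A⁰) : x ∈ A⁰ := by
  obtain ⟨z, rfl⟩ := h
  exact (mul_mem_nonZeroDivisors.1 hy).1

/-- A nonzerodivisor lying in the radical of `(f)` makes `f` a nonzerodivisor. -/
theorem nonZeroDivisors_of_mem_radical {f a : R} (ha : a ∈ (Ideal.span {f}).radical)
    (h : algebraMap R T a ∈ T⁰) : algebraMap R T f ∈ T⁰ := by
  obtain ⟨n, hn⟩ := ha
  refine nonZeroDivisors_of_dvd (y := algebraMap R T a ^ n) ?_ (pow_mem h n)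
  rw [← map_pow]
  exact map_dvd _ (Ideal.mem_span_singleton.1 hn)

theorem nonZeroDivisors_of_local {t : T}
    (h : ∀ m : Ideal T, m.IsMaximal → ∃ s ∉ m, algebraMap T (Localization.Away s) t ∈ (Localization.Away s)⁰) :
    t ∈ T⁰ := by
  refine mem_nonZeroDivisors_iff_right.2 fun x hx => ?_
  by_contra hne
  obtain ⟨m, hm, hle⟩ := Ideal.exists_le_maximal (Ideal.torsionOf T T x)
    (fun htop => hne ((Ideal.torsionOf_eq_top_iff T x).1 htop))
  obtain ⟨s, hs, hreg⟩ := h m hm
  have h0 : algebraMap T (Localization.Away s) x = 0 :=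
    (mem_nonZeroDivisors_iff_right.1 hreg) _ (by rw [← map_mul, hx, map_zero])
  obtain ⟨⟨_, k, rfl⟩, hk⟩ := (IsLocalization.map_eq_zero_iff (Submonoid.powers s) (Localization.Away s) x).1 h0
  exact hs (hm.isPrime.mem_of_pow_mem k (hle (by rw [Ideal.mem_torsionOf_iff, smul_eq_mul]; exact hk)))

theorem Inv.nonZeroDivisors {f : R} (h : Inv I T) (hI : I ≤ (Ideal.span {f}).radical) : algebraMap R T f ∈ T⁰ :=
  nonZeroDivisors_of_local fun m hm => by
    obtain ⟨s, hs, a, ha, hreg, -⟩ := h m hm
    refine ⟨s, hs, ?_⟩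
    rw [← IsScalarTower.algebraMap_apply]
    exact nonZeroDivisors_of_mem_radical (hI ha) hreg

theorem inv_of_span {a : R} (ha : a ∈ I) (hreg : algebraMap R T a ∈ T⁰)
    (hI : I.map (algebraMap R T) = Ideal.span {algebraMap R T a}) : Inv I T := by
  intro m hm
  refine ⟨1, fun h => hm.ne_top ((Ideal.eq_top_iff_one _).2 h), a, ha, ?_, ?_⟩
  · rw [IsScalarTower.algebraMap_apply R T (Localization.Away (1 : T))]
    exact IsLocalization.map_nonZeroDivisors_le (Submonoid.powers (1 : T)) _ ⟨_, hreg, rfl⟩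
  · rw [IsScalarTower.algebraMap_eq R T (Localization.Away (1 : T)), ← Ideal.map_map, hI, Ideal.map_span,
      Set.image_singleton]
    rfl

theorem exists_awayMap {A B : Type u} [CommRing A] [CommRing B] [Algebra A B] (s : A) {s' : B}
    (h : algebraMap A B s ∣ s') :
    ∃ ψ : Localization.Away s →+* Localization.Away s',
      ∀ x, ψ (algebraMap A _ x) = algebraMap B _ (algebraMap A B x) := by
  have hu : IsUnit (((algebraMap B (Localization.Away s')).comp (algebraMap A B)) s) :=
    isUnit_of_dvd_unit (map_dvd (algebraMap B (Localization.Away s')) h) (IsLocalization.Away.algebraMap_isUnit s')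
  exact ⟨IsLocalization.Away.lift s hu, fun x => IsLocalization.Away.lift_eq s hu x⟩

/-- Nonzerodivisors pass along maps of localisations at elements of a flat algebra. -/
theorem nzd_awayMap {A B : Type u} [CommRing A] [CommRing B] [Algebra A B] [Module.Flat A B] (s : A) (s' : B)
    (ψ : Localization.Away s →+* Localization.Away s')
    (hψ : ∀ x, ψ (algebraMap A _ x) = algebraMap B _ (algebraMap A B x)) {x : Localization.Away s}
    (hx : x ∈ (Localization.Away s)⁰) : ψ x ∈ (Localization.Away s')⁰ := by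
  letI := ψ.toAlgebra
  haveI : IsScalarTower A (Localization.Away s) (Localization.Away s') := IsScalarTower.of_algebraMap_eq fun a => by
    rw [RingHom.algebraMap_toAlgebra, hψ, ← IsScalarTower.algebraMap_apply]
  haveI : Module.Flat B (Localization.Away s') := IsLocalization.flat _ (Submonoid.powers s')
  haveI : Module.Flat A (Localization.Away s') := Module.Flat.trans A B _
  haveI : Module.Flat (Localization.Away s) (Localization.Away s') :=
    (Module.flat_iff_of_isLocalization (Localization.Away s) (Submonoid.powers s) (Localization.Away s')).2 ‹_›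
  refine mem_nonZeroDivisors_iff_right.2 fun z hz => ?_
  refine Module.Flat.isSMulRegular_of_nonZeroDivisors (M := Localization.Away s') hx ?_
  show x • z = x • 0
  rw [smul_zero, Algebra.smul_def, RingHom.algebraMap_toAlgebra, mul_comm, hz]

/-- Flat algebras inherit invertibility. -/
theorem Inv.map {T' : Type u} [CommRing T'] [Algebra R T'] [Algebra T T'] [IsScalarTower R T T'] [Module.Flat T T']
    (h : Inv I T) : Inv I T' := by
  intro m' hm'
  haveI := hm'.isPrime
  obtain ⟨m, hm, hle⟩ := Ideal.exists_le_maximal (m'.comap (algebraMap T T')) (Ideal.IsPrime.comap _).ne_top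
  obtain ⟨s, hs, a, ha, hreg, hI⟩ := h m hm
  obtain ⟨ψ, hψ⟩ := exists_awayMap (A := T) (B := T') s (s' := algebraMap T T' s) dvd_rfl
  have e : algebraMap R (Localization.Away (algebraMap T T' s)) = ψ.comp (algebraMap R (Localization.Away s)) := by
    refine RingHom.ext fun r => ?_
    rw [RingHom.comp_apply, IsScalarTower.algebraMap_apply R T (Localization.Away s), hψ,
      ← IsScalarTower.algebraMap_apply R T T', ← IsScalarTower.algebraMap_apply]
  refine ⟨algebraMap T T' s, fun hs' => hs (hle hs'), a, ha, ?_, ?_⟩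
  · rw [e]; exact nzd_awayMap s _ ψ hψ hreg
  · rw [e, ← Ideal.map_map, hI, Ideal.map_span, Set.image_singleton]
    rfl

/-- An algebra over `R'` making `I R'` invertible makes `I` invertible. -/
theorem Inv.map_base {R' : Type u} [CommRing R'] [Algebra R R'] [Algebra R' T] [IsScalarTower R R' T]
    (h : Inv I T) : Inv (I.map (algebraMap R R')) T := by
  intro m hm
  obtain ⟨s, hs, a, ha, hreg, hI⟩ := h m hm
  refine ⟨s, hs, algebraMap R R' a, Ideal.mem_map_of_mem _ ha, ?_, ?_⟩
  · rwa [← IsScalarTower.algebraMap_apply]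
  · rw [Ideal.map_map, ← IsScalarTower.algebraMap_eq, hI, ← IsScalarTower.algebraMap_apply]

/-- Factors of an invertible ideal are invertible. -/
theorem Inv.mul_left (h : Inv (I * J) T) : Inv I T := by
  intro m hm
  haveI := hm.isPrime
  obtain ⟨s, hs, c, hc, hreg, hIJ⟩ := h m hm
  let A := Localization.Away s
  let φ := algebraMap R A
  let Z : Ideal A := Ideal.span {z | ∃ a ∈ I, ∃ y ∈ J, φ a * φ y = φ c * z}
  have hZ : ∀ x ∈ I * J, ∃ z ∈ Z, φ x = φ c * z := by
    intro x hx
    refine Submodule.mul_induction_on hx (fun a ha y hy => ?_) (fun x x' hx hx' => ?_)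
    · have : φ (a * y) ∈ Ideal.span {φ c} := hIJ ▸ Ideal.mem_map_of_mem φ (Ideal.mul_mem_mul ha hy)
      obtain ⟨z, hz⟩ := Ideal.mem_span_singleton'.1 this
      rw [map_mul] at hz
      exact ⟨z, Ideal.subset_span ⟨a, ha, y, hy, by rw [← hz, mul_comm]⟩, by rw [map_mul, ← hz, mul_comm]⟩
    · obtain ⟨z, hz, e⟩ := hx
      obtain ⟨z', hz', e'⟩ := hx'
      exact ⟨z + z', add_mem hz hz', by rw [map_add, e, e', mul_add]⟩
  obtain ⟨z₁, hz₁, e₁⟩ := hZ c hc
  have hone : (1 : A) ∈ Z := by
    rwa [show z₁ = 1 from (mul_cancel_left_mem_nonZeroDivisors hreg).1 (by rw [← e₁, mul_one])] at hz₁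
  have hmA : (m.map (algebraMap T A)).IsPrime := IsLocalization.isPrime_of_isPrime_disjoint (Submonoid.powers s) A m
    hm.isPrime (Set.disjoint_left.2 fun y ⟨k, (hk : s ^ k = y)⟩ hmem => hs (hm.isPrime.mem_of_pow_mem k (hk.symm ▸ hmem)))
  obtain ⟨z, hzS, hz⟩ : ∃ z ∈ {z | ∃ a ∈ I, ∃ y ∈ J, φ a * φ y = φ c * z}, z ∉ m.map (algebraMap T A) := by
    by_contra hne
    push Not at hne
    exact hmA.ne_top ((Ideal.eq_top_iff_one _).2 (Ideal.span_le.2 hne hone))
  obtain ⟨a, ha, y, hy, hay⟩ := hzS
  obtain ⟨z₀, ⟨_, k, rfl⟩, rfl⟩ := IsLocalization.exists_mk'_eq (Submonoid.powers s) z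
  have hz₀ : z₀ ∉ m := fun hm' => hz ((IsLocalization.mk'_mem_iff).2 (Ideal.mem_map_of_mem _ hm'))
  refine ⟨s * z₀, fun hm' => (hm.isPrime.mem_or_mem hm').elim hs hz₀, a, ha, ?_, ?_⟩
  all_goals
    obtain ⟨ψ, hψ⟩ := exists_awayMap (A := T) (B := T) s (s' := s * z₀) (dvd_mul_right _ _)
    let B := Localization.Away (s * z₀)
    have hψR : ∀ r, ψ (φ r) = algebraMap R B r := fun r => by
      simp only [φ]
      rw [IsScalarTower.algebraMap_apply R T A, hψ, ← IsScalarTower.algebraMap_apply T T, ← IsScalarTower.algebraMap_apply]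
    have hunit : IsUnit (ψ (IsLocalization.mk' A z₀ (⟨_, k, rfl⟩ : Submonoid.powers s))) := by
      have hsu : IsUnit (ψ (algebraMap T A z₀)) := by
        rw [hψ]
        exact isUnit_of_dvd_unit (map_dvd _ (dvd_mul_left z₀ s)) (IsLocalization.Away.algebraMap_isUnit (s * z₀))
      rw [← IsLocalization.mk'_spec A z₀ (⟨_, k, rfl⟩ : Submonoid.powers s), map_mul] at hsu
      exact (IsUnit.mul_iff.1 hsu).1
    have hcreg : algebraMap R B c ∈ B⁰ := hψR c ▸ nzd_awayMap s (s * z₀) ψ hψ hreg
  · refine nonZeroDivisors_of_dvd (y := algebraMap R B c * ψ (IsLocalization.mk' A z₀ (⟨_, k, rfl⟩ : Submonoid.powers s)))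
      ⟨algebraMap R B y, ?_⟩ (mul_mem hcreg hunit.mem_nonZeroDivisors)
    rw [← hψR, ← hψR, ← hψR, ← map_mul ψ, ← map_mul ψ, hay]
  · refine le_antisymm ?_ ((Ideal.span_singleton_le_iff_mem _).2 (Ideal.mem_map_of_mem _ ha))
    rw [Ideal.map_le_iff_le_comap]
    intro x hx
    rw [Ideal.mem_comap, Ideal.mem_span_singleton, ← hunit.dvd_mul_right]
    have hxy : φ (x * y) ∈ Ideal.span {φ c} := hIJ ▸ Ideal.mem_map_of_mem φ (Ideal.mul_mem_mul hx hy)
    obtain ⟨w, hw⟩ := Ideal.mem_span_singleton'.1 hxy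
    refine ⟨ψ w, (mul_cancel_left_mem_nonZeroDivisors hcreg).1 ?_⟩
    rw [← hψR, ← hψR, ← hψR, ← map_mul ψ, ← map_mul ψ, ← map_mul ψ, ← map_mul ψ]
    congr 1
    rw [map_mul] at hw
    linear_combination (-(φ x)) * hay + (-(φ a)) * hw

theorem Inv.mul_right (h : Inv (I * J) T) : Inv J T := by
  rw [mul_comm] at h
  exact h.mul_left

theorem Inv.of_finset_prod {ι : Type*} {F : Finset ι} {K : ι → Ideal R} (h : Inv (∏ i ∈ F, K i) T) {i : ι}
    (hi : i ∈ F) : Inv (K i) T := by
  classical
  rw [← Finset.mul_prod_erase F K hi] at h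
  exact h.mul_left

end Groth.L20.BlowFlat
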