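import Groth.Agent.L20.BlowFlat.Induct
import Groth.Agent.L20.RG.FlatOpenFp

/-!
# Flattening of a module by a centre
-/

set_option autoImplicit false
set_option linter.style.haveILetI false
set_option backward.isDefEq.respectTransparency.types false
universe u

open TensorProduct nonZeroDivisors

namespace Groth.L20.BlowFlat

attribute [local instance] Algebra.TensorProduct.rightAlgebra

variable {R : Type u} [CommRing R] {f : R} {S : Type u} [CommRing S] [Algebra R S] [Algebra.FinitePresentation R S]

/-- A uniform bound for the dimension of the fibres. -/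
theorem exists_dim_bound (R : Type u) [CommRing R] (S : Type u) [CommRing S] [Algebra R S] [Algebra.FiniteType R S] :
    ∃ n : ℕ, ∀ (p : Ideal R) [p.IsPrime], ringKrullDim (p.Fiber S) < (n : WithBot ℕ∞) := by
  obtain ⟨k, φ, hφ⟩ := Algebra.FiniteType.iff_quotient_mvPolynomial''.mp (inferInstance : Algebra.FiniteType R S)
  refine ⟨k + 1, fun p _ => ?_⟩
  let ψ : MvPolynomial (Fin k) p.ResidueField →ₐ[p.ResidueField] p.Fiber S :=
    MvPolynomial.aeval fun i => ((1 : p.ResidueField) ⊗ₜ[R] φ (MvPolynomial.X i) : p.Fiber S)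
  have hψ : Function.Surjective ψ := by
    intro y
    induction y using TensorProduct.induction_on with
    | zero => exact ⟨0, map_zero _⟩
    | add a b ha hb =>
      obtain ⟨a', rfl⟩ := ha
      obtain ⟨b', rfl⟩ := hb
      exact ⟨a' + b', map_add _ _ _⟩
    | tmul c s =>
      obtain ⟨g, rfl⟩ := hφ s
      refine ⟨MvPolynomial.C c * MvPolynomial.map (algebraMap R p.ResidueField) g, ?_⟩
      have h : ψ (MvPolynomial.map (algebraMap R p.ResidueField) g) = ((1 : p.ResidueField) ⊗ₜ[R] φ g : p.Fiber S) := by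
        simp only [ψ, MvPolynomial.aeval_map_algebraMap]
        rw [show (fun i => ((1 : p.ResidueField) ⊗ₜ[R] φ (MvPolynomial.X i) : p.Fiber S)) =
          (⇑((Algebra.TensorProduct.includeRight : S →ₐ[R] p.Fiber S).comp φ) ∘ MvPolynomial.X) from rfl,
          ← MvPolynomial.aeval_unique]
        rfl
      rw [map_mul, h]
      show ψ (MvPolynomial.C c) * _ = _
      rw [← MvPolynomial.algebraMap_eq, ψ.commutes, Algebra.TensorProduct.algebraMap_apply,
        Algebra.TensorProduct.tmul_mul_tmul, one_mul]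
      simp
  refine lt_of_le_of_lt (ringKrullDim_le_of_surjective ψ.toRingHom hψ) ?_
  rw [MvPolynomial.ringKrullDim_of_isNoetherianRing, ringKrullDim_eq_zero_of_field, zero_add, Nat.card_fin]
  exact_mod_cast Nat.lt_succ_self k

/-- **Flattening by a centre.** -/
theorem hasCentre (f : R) (N : Type u) [AddCommGroup N] [Module S N] [Module R N] [IsScalarTower R S N] [Module.Finite S N]
    (hfp : Module.FinitePresentation (Localization.Away (algebraMap R S f))
      (LocalizedModule (Submonoid.powers (algebraMap R S f)) N))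
    (hflat : FlatOff f N) : HasCentre f N := by
  classical
  obtain ⟨k, π₀, hπ₀⟩ := Module.Finite.exists_fin' S N
  obtain ⟨F, hF, hFgen⟩ := Groth.L20.RG.exists_finset_ker π₀ hπ₀ (Submonoid.powers (algebraMap R S f)) hfp
  let K₀ : Submodule S (Fin k → S) := Submodule.span S (F : Set (Fin k → S))
  haveI : Module.FinitePresentation S ((Fin k → S) ⧸ K₀) :=
    Module.finitePresentation_of_surjective K₀.mkQ K₀.mkQ_surjective (by rw [Submodule.ker_mkQ]; exact ⟨F, rfl⟩)
  let π : ((Fin k → S) ⧸ K₀) →ₗ[S] N := Submodule.liftQ K₀ π₀ (Submodule.span_le.mpr hF)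
  have hsurj : Function.Surjective (π.restrictScalars R) := fun y => by
    obtain ⟨v, hv⟩ := hπ₀ y
    exact ⟨K₀.mkQ v, hv⟩
  have hker : ∀ x, (π.restrictScalars R) x = 0 → ∃ n : ℕ, f ^ n • x = 0 := by
    intro x hx
    obtain ⟨v, rfl⟩ := K₀.mkQ_surjective x
    obtain ⟨t, ⟨n, rfl⟩, htv⟩ := hFgen v hx
    refine ⟨n, ?_⟩
    simp only [← map_pow, algebraMap_smul] at htv
    rw [← LinearMap.map_smul_of_tower, Submodule.mkQ_apply, Submodule.Quotient.mk_eq_zero]
    exact htv
  refine HasCentre.to_torsion_ker (π.restrictScalars R) hsurj hker ?_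
  have hflat₀ : FlatOff f ((Fin k → S) ⧸ K₀) := hflat.of_torsion_ker (π.restrictScalars R) hsurj hker
  suffices key : ∀ (T : Type u) [CommRing T] [Algebra R T], algebraMap R T f ∈ T⁰ →
      HasCentre (algebraMap R T f) (T ⊗[R] ((Fin k → S) ⧸ K₀)) by
    exact hasCentre_of_charts (isCentre_span (f := f)) fun a ha =>
      key _ ((chart_inv ha).nonZeroDivisors (isCentre_span (f := f)).le_radical)
  intro T _ _ hT
  refine hasCentre_bc (D := S) ?_
  obtain ⟨n, hn⟩ := exists_dim_bound T (T ⊗[R] S)
  exact centresBelow n T _ hT (T ⊗[R] S) ((T ⊗[R] S) ⊗[S] ((Fin k → S) ⧸ K₀))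
    ((hflat₀.baseChange T).congr (Algebra.IsPushout.cancelBaseChange R T S (T ⊗[R] S) _).symm)
    fun p _ => lt_of_le_of_lt (Module.supportDim_le_ringKrullDim _ _) (hn p)

end Groth.L20.BlowFlat
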