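import Groth.Agent.L20.BlowFlat.Main

/-!
# Flattening off the zero locus of a finitely generated ideal
-/

set_option autoImplicit false
set_option linter.style.haveILetI false
set_option backward.isDefEq.respectTransparency.types false
universe u

open TensorProduct nonZeroDivisors

namespace Groth.L20.BlowFlat

open Groth.L13.Fitting (mem_powTorsion_iff)

attribute [local instance] Algebra.TensorProduct.rightAlgebra

variable {R : Type u} [CommRing R]

/-- Torsion only depends on the radical of the generated ideal. -/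
theorem GoodM.congr_elem {T : Type u} [CommRing T] {a b : T} {M : Type u} [AddCommGroup M] [Module T M]
    (hab : ∃ k : ℕ, a ∣ b ^ k) (hba : ∃ k : ℕ, b ∣ a ^ k) (h : GoodM T a M) : GoodM T b M := by
  have key : ∀ {x y : T}, (∃ k : ℕ, x ∣ y ^ k) → FlatCA.powTorsion T x M ≤ FlatCA.powTorsion T y M := by
    rintro x y ⟨k, c, hc⟩ m hm
    rw [mem_powTorsion_iff] at hm ⊢
    obtain ⟨n, hn⟩ := hm
    exact ⟨k * n, by rw [pow_mul, hc, mul_pow, mul_comm, mul_smul, hn, smul_zero]⟩
  haveI : Module.Flat T (M ⧸ FlatCA.powTorsion T a M) := h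
  exact Module.Flat.of_linearEquiv (Submodule.quotEquivOfEq _ _ (le_antisymm (key hab) (key hba))).symm

/-- Finite presentation away from an element survives base change. -/
theorem fp_away_tensor {S C : Type u} [CommRing S] [CommRing C] [Algebra S C] {N : Type u} [AddCommGroup N] [Module S N]
    (g : S) (h : Module.FinitePresentation (Localization.Away g) (LocalizedModule (Submonoid.powers g) N)) :
    Module.FinitePresentation (Localization.Away (algebraMap S C g))
      (LocalizedModule (Submonoid.powers (algebraMap S C g)) (C ⊗[S] N)) := by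
  have h1 := Groth.L20.RG.fp_away_baseChange (Y := C) g ((Groth.L20.RG.fpLoc_iff (Submonoid.powers g)).1 h)
  exact (Groth.L20.RG.fpLoc_iff (Submonoid.powers (algebraMap S C g))).2
    ((Groth.L20.RG.fp_baseChange_iff (TensorProduct.mk S C N 1) (TensorProduct.isBaseChange S N C) _).1 h1)

/-- A centre on a chart, seen on the base. -/
theorem exists_lift_centre {I : Ideal R} (hI : I.FG) {a : R} (ha : a ∈ I) {L' : Ideal (BlowUp.affineAlgebra R I a)}
    (hL' : IsCentre (algebraMap R (BlowUp.affineAlgebra R I a) a) L') :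
    ∃ L : Ideal R, L.FG ∧ I ≤ L.radical ∧
      ∀ (T : Type u) [CommRing T] [Algebra R T] [Algebra (BlowUp.affineAlgebra R I a) T]
        [IsScalarTower R (BlowUp.affineAlgebra R I a) T], Inv L T → Inv L' T := by
  classical
  let C := BlowUp.affineAlgebra R I a
  obtain ⟨H, hH⟩ := hL'.fg
  replace hH : Ideal.span (H : Set C) = L' := hH
  choose n r hr using fun x : C => exists_pow_mul_eq x
  let M := H.sup n
  obtain ⟨k, hk⟩ := hL'.mem_radical
  let L : Ideal R := Ideal.span ((H.image fun x => a ^ (M - n x) * r x : Finset R) : Set R) ⊔ I ^ (M + k)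
  have hmem : ∀ x ∈ H, algebraMap R C (a ^ (M - n x) * r x) = algebraMap R C a ^ M * x := fun x hx => by
    rw [map_mul, map_pow, ← hr, ← mul_assoc, ← pow_add, Nat.sub_add_cancel (Finset.le_sup hx)]
  have hL : L.map (algebraMap R C) = Ideal.span {algebraMap R C a ^ M} * L' := by
    refine le_antisymm (Ideal.map_le_iff_le_comap.2 (sup_le (Ideal.span_le.2 ?_) ?_)) ?_
    · intro y hy
      obtain ⟨x, hx, rfl⟩ := Finset.mem_image.1 (Finset.mem_coe.1 hy)
      rw [SetLike.mem_coe, Ideal.mem_comap, hmem x hx]
      exact Ideal.mul_mem_mul (Ideal.mem_span_singleton_self _) (hH ▸ Ideal.subset_span hx)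
    · rw [← Ideal.map_le_iff_le_comap, Ideal.map_pow, chart_eq_span ha, Ideal.span_singleton_pow,
        Ideal.span_singleton_le_iff_mem, pow_add]
      exact Ideal.mul_mem_mul (Ideal.mem_span_singleton_self _) hk
    · rw [← hH, Ideal.span_mul_span', Ideal.span_le]
      rintro _ ⟨_, rfl, x, hx, rfl⟩
      show algebraMap R C a ^ M * x ∈ _
      rw [← hmem x hx]
      exact Ideal.mem_map_of_mem _ (Submodule.mem_sup_left (Ideal.subset_span (Finset.mem_image_of_mem _ hx)))
  refine ⟨L, Submodule.FG.sup (Submodule.fg_span (Finset.finite_toSet _)) (Submodule.FG.pow hI _),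
    fun x hx => ⟨M + k, Submodule.mem_sup_right (Ideal.pow_mem_pow hx _)⟩, fun T _ _ _ _ hT => ?_⟩
  have h1 := hT.map_base (R' := C)
  rw [hL] at h1
  exact h1.mul_right

variable {S : Type u} [CommRing S] [Algebra R S] [Algebra.FinitePresentation R S]

/-- **Flattening off a closed set cut out by finitely many elements.** -/
theorem exists_ideal_flattening (N : Type u) [AddCommGroup N] [Module S N] [Module R N] [IsScalarTower R S N]
    [Module.Finite S N] (G : Finset R)
    (hfp : ∀ a ∈ G, Module.FinitePresentation (Localization.Away (algebraMap R S a))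
      (LocalizedModule (Submonoid.powers (algebraMap R S a)) N))
    (hflat : ∀ a ∈ G, FlatOff a N) :
    ∃ I : Ideal R, I.FG ∧ I.radical = (Ideal.span (G : Set R)).radical ∧
      ∀ (T : Type u) [CommRing T] [Algebra R T] (t : T), t ∈ T⁰ → I.map (algebraMap R T) = Ideal.span {t} →
        GoodM T t (T ⊗[R] N) := by
  classical
  let J := Ideal.span (G : Set R)
  have key : ∀ a : G, ∃ L : Ideal R, L.FG ∧ J ≤ L.radical ∧
      ∀ (T : Type u) [CommRing T] [Algebra R T] [Algebra (BlowUp.affineAlgebra R J a.1) T]
        [IsScalarTower R (BlowUp.affineAlgebra R J a.1) T], algebraMap R T a.1 ∈ T⁰ → Inv L T → Good a.1 N T := by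
    intro a
    let C := BlowUp.affineAlgebra R J a.1
    have haJ : a.1 ∈ J := Ideal.subset_span a.2
    obtain ⟨L', hL', hflatL⟩ : HasCentre (algebraMap R C a.1) (C ⊗[R] N) := by
      suffices key : ∀ (T : Type u) [CommRing T] [Algebra R T], HasCentre (algebraMap R T a.1) (T ⊗[R] N) from key C
      intro T _ _
      refine hasCentre_bc (D := S) ?_
      refine hasCentre (S := T ⊗[R] S) _ _ ?_
        (((hflat a.1 a.2).baseChange T).congr (Algebra.IsPushout.cancelBaseChange R T S (T ⊗[R] S) N).symm)
      have h := fp_away_tensor (C := T ⊗[R] S) _ (hfp a.1 a.2)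
      rwa [← IsScalarTower.algebraMap_apply R S (T ⊗[R] S), IsScalarTower.algebraMap_apply R T (T ⊗[R] S)] at h
    obtain ⟨L, hL, hJL, hLinv⟩ := exists_lift_centre (Submodule.fg_span G.finite_toSet) haJ hL'
    exact ⟨L, hL, hJL, fun T _ _ _ _ hT hinv => (good_iff_base hT).1 (hflatL T (hLinv T hinv))⟩
  choose L hLfg hJL hLgood using key
  let P := ∏ a, L a
  have hJP : J ≤ P.radical := fun x hx => by
    have : ∀ F : Finset G, x ∈ (∏ a ∈ F, L a).radical := fun F => by
      induction F using Finset.induction_on with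
      | empty => rw [Finset.prod_empty, Ideal.one_eq_top, Ideal.radical_top]; exact Submodule.mem_top
      | insert a F ha ih => rw [Finset.prod_insert ha, Ideal.radical_mul]; exact ⟨hJL a hx, ih⟩
    exact this _
  have hPfg : P.FG := by
    have : ∀ F : Finset G, (∏ a ∈ F, L a).FG := fun F => by
      induction F using Finset.induction_on with
      | empty => rw [Finset.prod_empty, Ideal.one_eq_top]; exact ⟨{1}, by simp⟩
      | insert a F ha ih => rw [Finset.prod_insert ha]; exact (hLfg a).mul ih
    exact this _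
  refine ⟨J * P, (Submodule.fg_span G.finite_toSet).mul hPfg, ?_, fun T _ _ t ht hIt => ?_⟩
  · rw [Ideal.radical_mul, inf_eq_left]
    exact Ideal.radical_le_radical_iff.2 hJP
  have hinv : Inv (J * P) T := by
    intro m hm
    obtain ⟨a, ha, hnot⟩ : ∃ a ∈ J * P, ∀ w, algebraMap R T a = w * t → w ∉ m := by
      by_contra hne
      push Not at hne
      have h1 : (J * P).map (algebraMap R T) ≤ m * Ideal.span {t} := Ideal.map_le_iff_le_comap.2 fun a ha => by
        obtain ⟨w, hw, hwm⟩ := hne a ha
        rw [Ideal.mem_comap, hw]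
        exact Ideal.mul_mem_mul hwm (Ideal.mem_span_singleton_self t)
      rw [hIt, Ideal.span_singleton_le_iff_mem] at h1
      obtain ⟨q, hq, hqt⟩ := Ideal.mem_mul_span_singleton.1 h1
      exact hm.ne_top ((Ideal.eq_top_iff_one _).2
        ((mul_cancel_right_mem_nonZeroDivisors ht).1 (hqt.trans (one_mul t).symm) ▸ hq))
    obtain ⟨w, hw⟩ := Ideal.mem_span_singleton'.1 (hIt ▸ Ideal.mem_map_of_mem (algebraMap R T) ha :
      algebraMap R T a ∈ Ideal.span {t})
    have hu := IsLocalization.Away.algebraMap_isUnit (S := Localization.Away w) w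
    have hat : algebraMap R (Localization.Away w) a = algebraMap T _ w * algebraMap T _ t := by
      rw [IsScalarTower.algebraMap_apply R T (Localization.Away w), ← hw, map_mul]
    refine ⟨w, hnot w hw.symm, a, ha, ?_, ?_⟩
    · rw [hat]
      exact mul_mem hu.mem_nonZeroDivisors (IsLocalization.map_nonZeroDivisors_le (Submonoid.powers w) _ ⟨_, ht, rfl⟩)
    · rw [hat, Ideal.span_singleton_mul_left_unit hu, IsScalarTower.algebraMap_eq R T (Localization.Away w),
        ← Ideal.map_map, hIt, Ideal.map_span, Set.image_singleton]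
  refine GoodM.of_flat_cover fun m hm => ?_
  obtain ⟨s, hs, g, hg, hreg, hgen⟩ := exists_local_generator (I := J) rfl hinv.mul_left m hm
  haveI : Module.Flat T (Localization.Away s) := IsLocalization.flat _ (Submonoid.powers s)
  obtain ⟨χ⟩ := exists_chartHom hreg hgen
  letI := χ.toRingHom.toAlgebra
  haveI : IsScalarTower R (BlowUp.affineAlgebra R J g) (Localization.Away s) :=
    IsScalarTower.of_algebraMap_eq fun r => (χ.commutes r).symm
  refine ⟨Localization.Away s, inferInstance, inferInstance, inferInstance, maximal_map_away_ne_top hm.isPrime hs, ?_⟩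
  have hgd : Good g N (Localization.Away s) :=
    hLgood ⟨g, hg⟩ _ hreg (hinv.mul_right.of_finset_prod (Finset.mem_univ _)).map
  refine GoodM.of_equiv (IsLocalization.map_nonZeroDivisors_le (Submonoid.powers s) _ ⟨_, ht, rfl⟩)
    (AlgebraTensorModule.cancelBaseChange R T (Localization.Away s) (Localization.Away s) N) ?_
  refine GoodM.congr_elem ?_ ?_ hgd
  all_goals
    have hI' : (J * P).map (algebraMap R (Localization.Away s)) = Ideal.span {algebraMap T _ t} := by
      rw [IsScalarTower.algebraMap_eq R T (Localization.Away s), ← Ideal.map_map, hIt, Ideal.map_span, Set.image_singleton]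
  · refine ⟨1, ?_⟩
    rw [pow_one, ← Ideal.mem_span_singleton, ← hgen, ← Ideal.span_singleton_le_iff_mem, ← hI']
    exact Ideal.map_mono Ideal.mul_le_left
  · obtain ⟨k, hk⟩ : g ∈ (J * P).radical := by
      rw [Ideal.radical_mul]
      exact ⟨Ideal.le_radical (Ideal.subset_span hg), hJP (Ideal.subset_span hg)⟩
    refine ⟨k, ?_⟩
    rw [← Ideal.mem_span_singleton, ← hI', ← map_pow]
    exact Ideal.mem_map_of_mem _ hk

end Groth.L20.BlowFlat
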