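import Groth.Agent.L20.BlowFlat.Affine
import Groth.Agent.L07.FittStrict
import Groth.Agent.L20.ModPullback
import Groth.Agent.L05.Prufer.Sheaf
import Groth.Agent.L22.Ideal

/-!
# Sections of restrictions and of strict transforms
-/

set_option autoImplicit false
set_option linter.style.haveILetI false
set_option backward.isDefEq.respectTransparency.types false
set_option backward.isDefEq.respectTransparency false

universe u

open CategoryTheory CategoryTheory.Limits AlgebraicGeometry TopologicalSpace Opposite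

noncomputable section

namespace Groth.L20.BlowFlat

open Groth.L18.Frame (rs ro rs_rs ro_ro rs_smul rs_self ro_self)

variable {X : Scheme.{u}}

/-- Sections of a module finitely presented on an open, over smaller affine opens. -/
theorem fp_sections_of_restrict (M : X.Modules) [Coh.IsQCoh M] (O : X.Opens)
    (h : CohB1.IsFP ((Scheme.Modules.pullback O.ι).obj M)) {V : X.Opens} (hV : IsAffineOpen V) (hVO : V ≤ O) :
    Module.FinitePresentation Γ(X, V) Γ(M, V) := by
  have hrange : V ≤ O.ι.opensRange := by rwa [Scheme.Opens.opensRange_ι]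
  haveI := Scheme.Hom.isIso_app O.ι V hrange
  have hU : IsAffineOpen (O.ι ⁻¹ᵁ V) := (O.ι.isAffineOpen_iff_of_isOpenImmersion).1 (by
    rw [O.ι.image_preimage_eq_opensRange_inf, inf_eq_right.2 hrange]; exact hV)
  let ψ := (O.ι.appLE V (O.ι ⁻¹ᵁ V) le_rfl).hom
  have hψ : Function.Bijective ψ := by
    have : O.ι.appLE V (O.ι ⁻¹ᵁ V) le_rfl = O.ι.app V := (Scheme.Hom.app_eq_appLE O.ι).symm
    show Function.Bijective (O.ι.appLE V (O.ι ⁻¹ᵁ V) le_rfl).hom
    rw [this]
    exact ConcreteCategory.bijective_of_isIso (O.ι.app V)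
  haveI := Groth.L20.ModStalk.finitePresentation_sections _ h hU
  letI : Algebra Γ(X, V) Γ(↑O, O.ι ⁻¹ᵁ V) := ψ.toAlgebra
  letI := Module.compHom Γ((Scheme.Modules.pullback O.ι).obj M, O.ι ⁻¹ᵁ V) ψ
  haveI : IsScalarTower Γ(X, V) Γ(↑O, O.ι ⁻¹ᵁ V) Γ((Scheme.Modules.pullback O.ι).obj M, O.ι ⁻¹ᵁ V) :=
    IsScalarTower.of_algebraMap_smul fun _ _ => rfl
  let ε := AlgEquiv.ofBijective (Algebra.ofId Γ(X, V) Γ(↑O, O.ι ⁻¹ᵁ V)) hψ
  haveI : Module.FinitePresentation Γ(X, V) Γ(↑O, O.ι ⁻¹ᵁ V) :=
    Module.FinitePresentation.of_equiv ε.toLinearEquiv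
  haveI : Module.FinitePresentation Γ(X, V) Γ((Scheme.Modules.pullback O.ι).obj M, O.ι ⁻¹ᵁ V) :=
    Module.FinitePresentation.trans Γ(X, V) _ Γ(↑O, O.ι ⁻¹ᵁ V)
  have hbc := Groth.L16.AffineBC.isBaseChange_pull O.ι M hV hU le_rfl
  refine Module.FinitePresentation.of_equiv (((TensorProduct.lid Γ(X, V) Γ(M, V)).symm.trans
    (TensorProduct.congr ε.toLinearEquiv (LinearEquiv.refl _ _))).trans
      (hbc.equiv.restrictScalars Γ(X, V))).symm

section Strict

variable {S : Scheme.{u}} {b : X ⟶ S} {I : S.IdealSheafData} {F : S.Modules} {G : X.Modules}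
  {π : (Scheme.Modules.pullback b).obj F ⟶ G}

/-- The inverse image ideal is locally principal. -/
def LocPrincipal (E : X.IdealSheafData) : Prop :=
  ∀ x : X, ∃ (V : X.affineOpens) (t : Γ(X, V.1)), x ∈ V.1 ∧ E.ideal V = Ideal.span {t}

/-- The strict transform along a locally principal exceptional ideal is quasi-coherent. -/
theorem isQCoh_strict (hF : Coh.IsQCoh F) (hb : LocPrincipal (BlowUp.exceptional b I))
    (hG : BlowUp.IsStrictTransform b I F G π) : Coh.IsQCoh G := by
  haveI := hF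
  haveI : Coh.IsQCoh ((Scheme.Modules.pullback b).obj F) := Groth.L16.AffineBC.isQCoh_pullback b F
  haveI := hG.1
  have hker : Coh.IsQCoh (kernel π) := by
    refine Groth.L16.QcqsPush.isQCoh_of_sections _ fun x => ?_
    obtain ⟨V, t, hx, hE⟩ := hb x
    refine ⟨V.1, hx, V.2, fun a => ⟨fun s => ?_, fun s hs => ?_⟩⟩
    · let m : Γ((Scheme.Modules.pullback b).obj F, X.basicOpen a) := (kernel.ι π).app (X.basicOpen a) s
      have hm : π.app (X.basicOpen a) m = 0 :=
        congrArg (fun φ : kernel π ⟶ G => φ.app (X.basicOpen a) s) (kernel.condition π)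
      obtain ⟨n, hn⟩ := (Groth.L07.FittStrict.app_eq_zero_iff hG (X.affineBasicOpen a) (ro (X.basicOpen_le a) t)
        (Groth.L07.FittStrict.ideal_basicOpen_span V t a _ hE) m).1 hm
      obtain ⟨N, m', hm'⟩ :=
        Groth.L16.QCohSect.exists_pow_smul_eq_res (M := (Scheme.Modules.pullback b).obj F) V.2 a m
      have h0 : rs _ (X.basicOpen_le a) (t ^ n • m') = 0 := by
        rw [rs_smul, hm', smul_comm, show ro (X.basicOpen_le a) (t ^ n) = ro (X.basicOpen_le a) t ^ n from map_pow _ _ _]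
        have hn' : ro (X.basicOpen_le a) t ^ n • m = 0 := hn
        rw [hn', smul_zero]
      obtain ⟨L, hL⟩ :=
        Groth.L16.QCohSect.exists_pow_smul_eq_zero (M := (Scheme.Modules.pullback b).obj F) V.2 a _ h0
      have hk : π.app V.1 (a ^ L • m') = 0 :=
        (Groth.L07.FittStrict.app_eq_zero_iff hG V t hE _).2 ⟨n, by rw [smul_comm]; exact hL⟩
      obtain ⟨z, hz⟩ := Groth.L09.ModGen.exists_kernel_lift π (Z := op V.1) (a ^ L • m') hk
      refine ⟨L + N, z, Groth.L20.Strat.app_injective_of_mono (kernel.ι π) (X.basicOpen a) ?_⟩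
      have hz' : (kernel.ι π).app V.1 z = a ^ L • m' := hz
      have hnat := congrArg (fun φ => φ z) ((kernel.ι π).mapPresheaf.naturality (homOfLE (X.basicOpen_le a)).op)
      refine (hnat.trans (congrArg (rs _ (X.basicOpen_le a)) hz')).trans ?_
      rw [rs_smul, hm', smul_smul, ← map_mul, ← pow_add]
      exact (Scheme.Modules.Hom.app_smul (kernel.ι π) _ s).symm
    · have h0 : rs _ (X.basicOpen_le a) ((kernel.ι π).app V.1 s) = 0 := by
        have hnat := congrArg (fun φ => φ s) ((kernel.ι π).mapPresheaf.naturality (homOfLE (X.basicOpen_le a)).op)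
        exact hnat.symm.trans ((congrArg ((kernel.ι π).app _) hs).trans (map_zero _))
      obtain ⟨n, hn⟩ :=
        Groth.L16.QCohSect.exists_pow_smul_eq_zero (M := (Scheme.Modules.pullback b).obj F) V.2 a _ h0
      refine ⟨n, Groth.L20.Strat.app_injective_of_mono (kernel.ι π) V.1 ?_⟩
      rw [map_zero]
      exact (Scheme.Modules.Hom.app_smul (kernel.ι π) _ s).trans hn
  haveI := hker
  haveI : Coh.IsQCoh (cokernel (kernel.ι π)) := Groth.L16.Devissage.isQCoh_cokernel _
  have hc : IsColimit (Cofork.ofπ (f := kernel.ι π) (g := 0) π (by simp)) :=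
    Abelian.epiIsCokernelOfKernel (Fork.ofι (kernel.ι π) _) (kernelIsKernel π)
  exact (SheafOfModules.isQuasicoherent X.ringCatSheaf).prop_of_iso
    (IsColimit.coconePointUniqueUpToIso (cokernelIsCokernel (kernel.ι π)) hc)
    (show Coh.IsQCoh (cokernel (kernel.ι π)) from inferInstance)

/-- Sections of the strict transform: the quotient by the torsion. -/
theorem nonempty_quotient_equiv [Coh.IsQCoh F] [Coh.IsQCoh G] (hG : BlowUp.IsStrictTransform b I F G π)
    (V : X.affineOpens) (t : Γ(X, V.1)) (hE : (BlowUp.exceptional b I).ideal V = Ideal.span {t}) :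
    Nonempty ((Γ((Scheme.Modules.pullback b).obj F, V.1) ⧸
      FlatCA.powTorsion Γ(X, V.1) t Γ((Scheme.Modules.pullback b).obj F, V.1)) ≃ₗ[Γ(X, V.1)] Γ(G, V.1)) := by
  haveI : Coh.IsQCoh ((Scheme.Modules.pullback b).obj F) := Groth.L16.AffineBC.isQCoh_pullback b F
  haveI := hG.1
  let l : Γ((Scheme.Modules.pullback b).obj F, V.1) →ₗ[Γ(X, V.1)] Γ(G, V.1) :=
    { toFun := π.app V.1
      map_add' := fun a c => map_add _ a c
      map_smul' := fun a m => Scheme.Modules.Hom.app_smul π a m }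
  refine ⟨(Submodule.quotEquivOfEq _ _ ?_).trans
    (l.quotKerEquivOfSurjective (Groth.L16.AffineBC.surjective_app_of_epi π V.2))⟩
  ext m
  rw [Groth.L13.Fitting.mem_powTorsion_iff, LinearMap.mem_ker]
  exact (Groth.L07.FittStrict.app_eq_zero_iff hG V t hE m).symm

end Strict

end Groth.L20.BlowFlat
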