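import Groth.Agent.L13.Fitting.StrictTransform
import Groth.Agent.L13.Fitting.Torsion
import Groth.Agent.L13.Fitting.LocFree
import Groth.Agent.L13.Fitting.BaseChange

/-!
# Splitting a module modulo torsion from a minor
-/

set_option autoImplicit false
set_option linter.style.haveILetI false
set_option backward.isDefEq.respectTransparency.types false
universe u

open TensorProduct nonZeroDivisors

namespace Groth.L20.BlowFlat

open Groth.L13.Fitting

/-- A free module maps to `M` with a retraction up to `c`, and onto up to `c` and `a`-power torsion. -/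
def HasSplit {A : Type u} [CommRing A] (a : A) (M : Type u) [AddCommGroup M] [Module A M] (c : A) : Prop :=
  ∃ (k : ℕ) (α : (Fin k → A) →ₗ[A] M) (ρ : M →ₗ[A] (Fin k → A)),
    (∀ v, ρ (α v) = c • v) ∧ ∀ x, ∃ l : ℕ, a ^ l • (c • x - α (ρ x)) = 0

theorem hasSplit_of_minor {A : Type u} [CommRing A] {M : Type u} [AddCommGroup M] [Module A M] [Module.Finite A M]
    {a : A} (ha : a ∈ A⁰) {n r : ℕ} {x : Fin n → M} (hx : Submodule.span A (Set.range x) = ⊤)
    (z : Fin (n - r) → Fin n → A) (hz : ∀ s, ∑ i, z s i • x i = 0) (e : Fin (n - r) → Fin n) {j c : A}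
    (hje : minor z e = j * c) (hjle : ∀ e' : Fin (n - r) → Fin n, minor z e' ∈ Ideal.span {j}) (hj : j ∈ A⁰)
    (hjt : ∀ m : M, j • m = 0 → ∃ N : ℕ, a ^ N • m = 0) (hc : c ∈ A⁰)
    (hbot : ∀ i, i < r → Fitt.ideal A M i = ⊥) : HasSplit a M c := by
  classical
  rcases subsingleton_or_nontrivial A with hA | hA
  · haveI : Subsingleton M := Module.subsingleton A M
    exact ⟨0, 0, 0, fun v => Subsingleton.elim _ _, fun x => ⟨0, Subsingleton.elim _ _⟩⟩
  have he : Function.Injective e := by
    by_contra he
    simp only [Function.Injective, not_forall] at he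
    obtain ⟨i, i', hij, hne'⟩ := he
    rw [minor, Matrix.det_zero_of_row_eq hne' (funext fun b => by simp [hij])] at hje
    exact nonZeroDivisors.ne_zero (mul_mem hj hc) hje.symm
  let T := FlatCA.powTorsion A a M
  let Q := M ⧸ T
  let π : M →ₗ[A] Q := T.mkQ
  let K := Finset.univ.filter fun i => i ∉ Set.range e
  let k := K.card
  let idx : Fin k → Fin n := fun i => (K.equivFin.symm i).1
  have hk : k ≤ r := by
    show K.card ≤ r
    rw [card_compl_range he]
    omega
  have hidx : ∀ i, i ∉ Set.range e → ∃ l, idx l = i := fun i hi =>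
    ⟨K.equivFin ⟨i, Finset.mem_filter.2 ⟨Finset.mem_univ _, hi⟩⟩, by simp [idx]⟩
  let α : (Fin k → A) →ₗ[A] M := Fintype.linearCombination A fun i => x (idx i)
  let ψ : (Fin k → A) →ₗ[A] Q := π.comp α
  have hψ : ∀ i, ψ (Pi.single i 1) = π (x (idx i)) := fun i => by
    simp [ψ, α, Fintype.linearCombination_apply, Pi.single_apply]
  choose b hb using fun (p : Fin (n - r) × Fin n) =>
    Ideal.mem_span_singleton'.1 (hjle (Function.update e p.1 p.2))
  have hrange : ∀ q : Q, c • q ∈ LinearMap.range ψ := by
    have hgen : ∀ i, c • π (x i) ∈ LinearMap.range ψ := by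
      intro i
      have hKmem : ∀ i, i ∉ Set.range e → π (x i) ∈ LinearMap.range ψ := fun i hi => by
        obtain ⟨l, rfl⟩ := hidx i hi
        exact ⟨_, hψ l⟩
      by_cases hi : i ∈ Set.range e
      · obtain ⟨s, rfl⟩ := hi
        have h := cramer_split hz he s
        rw [hje] at h
        have hz0 : j • (c • x (e s) + ∑ i ∈ K, b (s, i) • x i) = 0 := by
          rw [smul_add, smul_smul, Finset.smul_sum, ← h]
          congr 1
          refine Finset.sum_congr rfl fun i _ => ?_
          rw [smul_smul, mul_comm j, hb]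
        have h1 : π (c • x (e s) + ∑ i ∈ K, b (s, i) • x i) = 0 :=
          (Submodule.Quotient.mk_eq_zero _).2 ((mem_powTorsion_iff _ _).2 (hjt _ hz0))
        rw [map_add, map_smul, add_eq_zero_iff_eq_neg] at h1
        rw [h1, map_sum]
        exact neg_mem (Submodule.sum_mem _ fun i hi => by
          rw [map_smul]; exact Submodule.smul_mem _ _ (hKmem i (Finset.mem_filter.1 hi).2))
      · exact Submodule.smul_mem _ c (hKmem i hi)
    intro q
    obtain ⟨m, rfl⟩ := T.mkQ_surjective q
    have hm : m ∈ Submodule.span A (Set.range x) := hx ▸ Submodule.mem_top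
    induction hm using Submodule.span_induction with
    | mem y hy => obtain ⟨i, rfl⟩ := hy; exact hgen i
    | zero => rw [map_zero, smul_zero]; exact zero_mem _
    | add y y' _ _ hy hy' => rw [map_add, smul_add]; exact add_mem hy hy'
    | smul t y _ hy => rw [map_smul, smul_comm]; exact Submodule.smul_mem _ t hy
  have hinj : Function.Injective ψ := by
    rw [injective_iff_map_eq_zero]
    intro v hv
    let L := Localization.Away c
    let w : Fin k → L ⊗[A] Q := fun i => (1 : L) ⊗ₜ[A] π (x (idx i))
    have hspan : Submodule.span L (Set.range w) = ⊤ := by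
      refine top_unique fun y _ => ?_
      have hu : IsUnit (algebraMap A L c) := IsLocalization.Away.algebraMap_isUnit c
      rw [← Submodule.smul_mem_iff_of_isUnit _ hu, algebraMap_smul]
      induction y using TensorProduct.induction_on with
      | zero => rw [smul_zero]; exact zero_mem _
      | add y y' hy hy' => rw [smul_add]; exact add_mem (hy trivial) (hy' trivial)
      | tmul l q =>
        obtain ⟨u, hu'⟩ := hrange q
        rw [← TensorProduct.tmul_smul, ← hu', show u = ∑ i, u i • Pi.single i (1 : A) from by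
          simp [← Pi.single_smul, Finset.univ_sum_single u], map_sum, TensorProduct.tmul_sum]
        refine Submodule.sum_mem _ fun i _ => ?_
        rw [map_smul, hψ, TensorProduct.tmul_smul, ← algebraMap_smul L (u i) (l ⊗ₜ[A] π (x (idx i))),
          show l ⊗ₜ[A] π (x (idx i)) = l • w i by simp [w, TensorProduct.smul_tmul'], smul_smul]
        exact Submodule.smul_mem _ _ (Submodule.subset_span ⟨i, rfl⟩)
    have hli := linearIndependent_of_bot w hspan fun i hi => by
      rw [ideal_baseChange, ideal_quotient_eq_bot ha (hbot i (lt_of_lt_of_le hi hk)) T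
        (fun m hm => (mem_powTorsion_iff _ _).1 hm), Ideal.map_bot]
    have h0 : ∑ i, algebraMap A L (v i) • w i = 0 := by
      simp only [w, algebraMap_smul, ← TensorProduct.tmul_smul, ← TensorProduct.tmul_sum]
      rw [show ∑ i, v i • π (x (idx i)) = ψ v by simp [ψ, α, Fintype.linearCombination_apply], hv,
        TensorProduct.tmul_zero]
    funext i
    refine IsLocalization.injective L (Submonoid.powers_le.2 hc) ?_
    rw [Fintype.linearIndependent_iff.1 hli _ h0 i, Pi.zero_apply, map_zero]
  let ρ : M →ₗ[A] (Fin k → A) := (LinearEquiv.ofInjective ψ hinj).symm.toLinearMap.comp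
    ((c • π).codRestrict (LinearMap.range ψ) fun m => hrange (π m))
  have hρ : ∀ m, ψ (ρ m) = c • π m := fun m =>
    congrArg Subtype.val ((LinearEquiv.ofInjective ψ hinj).apply_symm_apply ⟨c • π m, hrange (π m)⟩)
  refine ⟨k, α, ρ, fun v => hinj ?_, fun m => ?_⟩
  · rw [hρ, map_smul]; rfl
  · refine (mem_powTorsion_iff _ _).1 ((Submodule.Quotient.mk_eq_zero T).1 ?_)
    show π (c • m - α (ρ m)) = 0
    rw [map_sub, map_smul, ← hρ m]
    exact sub_self _

end Groth.L20.BlowFlat
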