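import Groth.Agent.L20.BlowFlat.Centre
import Mathlib.LinearAlgebra.TensorProduct.Tower
import Mathlib.RingTheory.IsTensorProduct

/-!
# Goodness descends along flat covers of the source
-/

set_option autoImplicit false
set_option linter.style.haveILetI false
set_option backward.isDefEq.respectTransparency.types false
universe u

open TensorProduct nonZeroDivisors

namespace Groth.L20.BlowFlat

open Groth.L13.Fitting (mem_powTorsion_iff)

variable {T : Type u} [CommRing T] {f : T}

/-- Goodness of a module over a `T`-algebra descends along flat covers of a ring acting on it. -/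
theorem GoodM.of_src_cover {S A : Type u} [CommRing S] [CommRing A] [Algebra T A] [Algebra S A]
    {M : Type u} [AddCommGroup M] [Module A M] [Module T M] [Module S M] [IsScalarTower T A M] [IsScalarTower S A M]
    [SMulCommClass S T M]
    (h : ∀ q : Ideal S, q.IsMaximal → ∃ (C : Type u) (_ : CommRing C) (_ : Algebra S C), Module.Flat S C ∧
      q.map (algebraMap S C) ≠ ⊤ ∧ GoodM T f (M ⊗[S] C)) : GoodM T f M := by
  haveI : SMulCommClass T S M := SMulCommClass.symm S T M
  let PA := FlatCA.powTorsion A (algebraMap T A f) M
  let Q := M ⧸ PA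
  have hmem : ∀ m : M, m ∈ PA ↔ ∃ n : ℕ, f ^ n • m = 0 := fun m => by
    rw [mem_powTorsion_iff]
    simp only [← map_pow, algebraMap_smul]
  haveI : SMulCommClass T S Q := ⟨fun t s m => by
    rw [← algebraMap_smul A t, ← algebraMap_smul A s m, ← algebraMap_smul A t m,
      ← algebraMap_smul A s, smul_comm]⟩
  haveI : SMulCommClass S T Q := SMulCommClass.symm T S Q
  have hQ : Module.Flat T Q := by
    rw [Module.Flat.iff_lTensor_injective']
    intro I
    rw [injective_iff_map_eq_zero]
    intro x hx
    by_contra hne
    obtain ⟨q, hq, hle⟩ := Ideal.exists_le_maximal (Ideal.torsionOf S (Q ⊗[T] I) x)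
      (fun htop => hne ((Ideal.torsionOf_eq_top_iff S x).1 htop))
    obtain ⟨C, _, _, hflat, hqC, hgood⟩ := h q hq
    haveI := hflat
    let π : M →ₗ[A] Q := PA.mkQ
    have hflatQC : Module.Flat T (Q ⊗[S] C) := by
      haveI : Module.Flat T ((M ⊗[S] C) ⧸ FlatCA.powTorsion T f (M ⊗[S] C)) := hgood
      let πC : M ⊗[S] C →ₗ[T] Q ⊗[S] C := (AlgebraTensorModule.rTensor S C π).restrictScalars T
      have hsurj : Function.Surjective πC := LinearMap.rTensor_surjective C (g := π.restrictScalars S)
        (Submodule.mkQ_surjective PA)
      have hreg : ∀ n : ℕ, Function.Injective fun z : Q ⊗[S] C => f ^ n • z := by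
        intro n
        let μ : Q →ₗ[S] Q :=
          { toFun := fun m => f ^ n • m, map_add' := smul_add _, map_smul' := fun s m => (smul_comm s (f ^ n) m).symm }
        have hμ : Function.Injective μ := by
          rw [injective_iff_map_eq_zero]
          intro m hm
          obtain ⟨m, rfl⟩ := PA.mkQ_surjective m
          replace hm : f ^ n • PA.mkQ m = 0 := hm
          rw [← algebraMap_smul A, ← map_smul, algebraMap_smul, Submodule.mkQ_apply, Submodule.Quotient.mk_eq_zero,
            hmem] at hm
          obtain ⟨k, hk⟩ := hm
          rw [Submodule.mkQ_apply, Submodule.Quotient.mk_eq_zero, hmem]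
          exact ⟨k + n, by rwa [pow_add, mul_smul]⟩
        have e : ∀ z : Q ⊗[S] C, μ.rTensor C z = f ^ n • z := fun z => by
          induction z using TensorProduct.induction_on with
          | zero => simp
          | tmul m c => rw [LinearMap.rTensor_tmul, TensorProduct.smul_tmul']; rfl
          | add a b ha hb => rw [map_add, ha, hb, smul_add]
        intro a b hab
        exact Module.Flat.rTensor_preserves_injective_linearMap μ hμ ((e a).trans (hab.trans (e b).symm))
      have e : FlatCA.powTorsion T f (M ⊗[S] C) = LinearMap.ker πC := by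
        ext z
        rw [mem_powTorsion_iff, LinearMap.mem_ker]
        refine ⟨fun ⟨n, hn⟩ => hreg n (show f ^ n • πC z = f ^ n • 0 by rw [← map_smul, hn, map_zero, smul_zero]),
          fun hz => ?_⟩
        have hex : Function.Exact ((PA.subtype).restrictScalars S) (π.restrictScalars S) :=
          LinearMap.exact_subtype_mkQ PA
        obtain ⟨w, rfl⟩ := (rTensor_exact C hex (Submodule.mkQ_surjective PA) z).1 hz
        clear hz
        induction w using TensorProduct.induction_on with
        | zero => exact ⟨0, by simp⟩
        | tmul m c =>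
          obtain ⟨n, hn⟩ := (hmem _).1 m.2
          refine ⟨n, ?_⟩
          rw [LinearMap.rTensor_tmul, TensorProduct.smul_tmul', LinearMap.restrictScalars_apply,
            Submodule.subtype_apply, hn, TensorProduct.zero_tmul]
        | add a b ha hb =>
          obtain ⟨n, hn⟩ := ha
          obtain ⟨k, hk⟩ := hb
          exact ⟨n + k, by rw [map_add, smul_add, pow_add, mul_smul, mul_smul, hk, smul_zero, add_zero,
            smul_comm, hn, smul_zero]⟩
      exact Module.Flat.of_linearEquiv ((Submodule.quotEquivOfEq _ _ e).trans
        (πC.quotKerEquivOfSurjective hsurj)).symm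
    haveI := hflatQC
    refine hqC (eq_top_iff.2 (le_trans (le_of_eq ?_) (Ideal.map_mono hle)))
    refine (map_annihilator_eq_top x C ?_).symm
    let ε := AlgebraTensorModule.rightComm T S A Q C I
    have key : ∀ y : Q ⊗[T] I, I.subtype.lTensor (Q ⊗[S] C) (ε.symm (y ⊗ₜ[S] (1 : C))) =
        (AlgebraTensorModule.rightComm T S A Q C T).symm ((I.subtype.lTensor Q y) ⊗ₜ[S] (1 : C)) := by
      intro y
      induction y using TensorProduct.induction_on with
      | zero => simp
      | tmul m i => simp [ε]
      | add a b ha hb => simp only [map_add, TensorProduct.add_tmul, ha, hb]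
    have h0 : x ⊗ₜ[S] (1 : C) = 0 := by
      refine ε.symm.injective ?_
      refine Module.Flat.lTensor_preserves_injective_linearMap (M := Q ⊗[S] C) I.subtype Subtype.val_injective ?_
      rw [key, hx]
      simp
    have := congrArg (TensorProduct.comm S (Q ⊗[T] I) C) h0
    simpa using this
  haveI := hQ
  have e : FlatCA.powTorsion T f M = LinearMap.ker (PA.mkQ.restrictScalars T) := by
    ext m
    rw [mem_powTorsion_iff, LinearMap.mem_ker, LinearMap.restrictScalars_apply, Submodule.mkQ_apply,
      Submodule.Quotient.mk_eq_zero, hmem]
  exact Module.Flat.of_linearEquiv ((Submodule.quotEquivOfEq _ _ e).trans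
    ((PA.mkQ.restrictScalars T).quotKerEquivOfSurjective (Submodule.mkQ_surjective PA)))

end Groth.L20.BlowFlat
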