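import Groth.Agent.L20.BlowFlat.BaseCover
import Groth.Agent.L20.BlowFlat.Content
import Groth.Agent.L20.BlowFlat.Split
import Groth.Agent.L07.GrModel

/-!
# The step of the induction
-/

set_option autoImplicit false
set_option linter.style.haveILetI false
set_option backward.isDefEq.respectTransparency.types false
universe u

open TensorProduct nonZeroDivisors

namespace Groth.L20.BlowFlat

open Groth.L20.RG (DomFib)
open Groth.L13.Fitting (mem_powTorsion_iff)

/-- Centres exist for modules with fibres of dimension below `m`. -/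
def CentresBelow (m : ℕ) : Prop :=
  ∀ (R : Type u) [CommRing R] (f : R), f ∈ R⁰ → ∀ (S : Type u) [CommRing S] [Algebra R S]
    [Algebra.FinitePresentation R S] (N : Type u) [AddCommGroup N] [Module S N] [Module R N] [IsScalarTower R S N]
    [Module.FinitePresentation S N], FlatOff f N →
    (∀ (p : Ideal R) [p.IsPrime], Module.supportDim (p.Fiber S) (FlatCA.fiberMod p S N) < (m : WithBot ℕ∞)) →
    HasCentre f N

variable {R : Type u} [CommRing R] {f : R} {D : Type u} [CommRing D] [Algebra R D]

/-- An element universally regular acts universally regularly on free modules. -/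
theorem injective_lTensor_pi (c : D) {k : ℕ}
    (hc : ∀ (Q : Type u) [AddCommGroup Q] [Module R Q], Function.Injective ((LinearMap.mulLeft R c).lTensor Q))
    (Q : Type u) [AddCommGroup Q] [Module R Q] :
    Function.Injective (((LinearMap.lsmul D (Fin k → D) c).restrictScalars R).lTensor Q) := by
  classical
  rw [injective_iff_map_eq_zero]
  intro z hz
  have key : ∀ (i : Fin k) (y : Q ⊗[R] (Fin k → D)),
      (LinearMap.proj i : (Fin k → D) →ₗ[R] D).lTensor Q
        (((LinearMap.lsmul D (Fin k → D) c).restrictScalars R).lTensor Q y) =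
      (LinearMap.mulLeft R c).lTensor Q ((LinearMap.proj i : (Fin k → D) →ₗ[R] D).lTensor Q y) := fun i y => by
    rw [← LinearMap.comp_apply, ← LinearMap.lTensor_comp, ← LinearMap.comp_apply, ← LinearMap.lTensor_comp]
    rfl
  have h0 : ∀ i, (LinearMap.proj i : (Fin k → D) →ₗ[R] D).lTensor Q z = 0 := fun i =>
    hc Q (by rw [← key, hz, map_zero, map_zero])
  have hsum : ∀ y : Q ⊗[R] (Fin k → D), y = ∑ i, (LinearMap.single R (fun _ => D) i).lTensor Q
      ((LinearMap.proj i : (Fin k → D) →ₗ[R] D).lTensor Q y) := fun y => by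
    induction y using TensorProduct.induction_on with
    | zero => simp
    | add p q hp hq => simp only [map_add, Finset.sum_add_distrib, ← hp, ← hq]
    | tmul q v =>
      simp only [LinearMap.lTensor_tmul, LinearMap.proj_apply, LinearMap.coe_single, ← TensorProduct.tmul_sum]
      rw [Finset.univ_sum_single]
  rw [hsum z]
  exact Finset.sum_eq_zero fun i _ => by rw [h0, map_zero]

theorem notMem_map_of_univInj {c : D} (hdom : DomFib R D)
    (hc : ∀ (Q : Type u) [AddCommGroup Q] [Module R Q], Function.Injective ((LinearMap.mulLeft R c).lTensor Q))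
    (p : Ideal R) [p.IsPrime] : c ∉ p.map (algebraMap R D) := by
  intro hmem
  haveI := hdom p.ResidueField
  have h1 : ∀ x ∈ p.map (algebraMap R D), (1 : p.ResidueField) ⊗ₜ[R] x = 0 := fun x hx => by
    rw [← Submodule.restrictScalars_mem R, ← Ideal.smul_top_eq_map] at hx
    refine Submodule.smul_induction_on hx (fun r hr y _ => ?_) fun a b ha hb => by
      rw [TensorProduct.tmul_add, ha, hb, add_zero]
    rw [← TensorProduct.smul_tmul, Algebra.smul_def, mul_one, Ideal.algebraMap_residueField_eq_zero.2 hr,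
      TensorProduct.zero_tmul]
  have h2 : (1 : p.ResidueField) ⊗ₜ[R] (1 : D) = 0 := hc p.ResidueField (by
    rw [map_zero, LinearMap.lTensor_tmul, LinearMap.mulLeft_apply, mul_one]; exact h1 c hmem)
  exact one_ne_zero (α := p.ResidueField ⊗[R] D) (by rw [Algebra.TensorProduct.one_def]; exact h2)

variable (f) in
/-- The sum of a free module and a module with a centre, along a universally split-up-to-`c` map. -/
theorem hasCentre_extension {F G C : Type u} [AddCommGroup F] [Module R F] [Module.Flat R F] [AddCommGroup G] [Module R G]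
    [AddCommGroup C] [Module R C] (α : F →ₗ[R] G) (ρ : G →ₗ[R] F) (γ : F →ₗ[R] F) (π : G →ₗ[R] C)
    (hρ : ρ ∘ₗ α = γ) (hγ : ∀ (Q : Type u) [AddCommGroup Q] [Module R Q], Function.Injective (γ.lTensor Q))
    (hex : Function.Exact α π) (hπ : Function.Surjective π) (hC : HasCentre f C) : HasCentre f G := by
  obtain ⟨I, hI, hflat⟩ := hC
  refine ⟨I, hI, fun T _ _ hT => ?_⟩
  set t := algebraMap R T f with ht
  have htreg : t ∈ T⁰ := hT.nonZeroDivisors hI.le_radical
  let αT := α.baseChange T
  let πT := π.baseChange T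
  have hπT : Function.Surjective πT := surjective_baseChange T π hπ
  have hexT : ∀ y, πT y = 0 → ∃ a, αT a = y := fun y hy =>
    (lTensor_exact T hex hπ y).1 (by simpa [πT, LinearMap.baseChange_eq_ltensor] using hy)
  have hpow : ∀ (n : ℕ) {X : Type u} [AddCommGroup X] [Module R X] (y : T ⊗[R] X), t ^ n • y = f ^ n • y :=
    fun n X _ _ y => by rw [ht, ← map_pow, algebraMap_smul]
  have hργ : ∀ a, (ρ.lTensor T) (α.lTensor T a) = γ.lTensor T a := fun a => by
    rw [← LinearMap.comp_apply, ← LinearMap.lTensor_comp, hρ]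
  let G' := (T ⊗[R] G) ⧸ FlatCA.powTorsion T t (T ⊗[R] G)
  let C' := (T ⊗[R] C) ⧸ FlatCA.powTorsion T t (T ⊗[R] C)
  haveI : Module.Flat T C' := hflat T hT
  let u : T ⊗[R] F →ₗ[T] G' := (FlatCA.powTorsion T t (T ⊗[R] G)).mkQ.comp αT
  let g : G' →ₗ[T] C' := Submodule.mapQ _ _ πT (fun y hy => by
    rw [mem_powTorsion_iff] at hy
    obtain ⟨n, hn⟩ := hy
    rw [Submodule.mem_comap, mem_powTorsion_iff]
    exact ⟨n, by rw [← map_smul, hn, map_zero]⟩)
  have hu : Function.Injective u := by
    rw [injective_iff_map_eq_zero]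
    intro a ha
    obtain ⟨n, hn⟩ := (mem_powTorsion_iff _ _).1 ((Submodule.Quotient.mk_eq_zero _).1 ha)
    have h1 : α.lTensor T (t ^ n • a) = 0 := by
      rw [← hn, ← map_smul, ← LinearMap.baseChange_eq_ltensor]
    have h2 : t ^ n • a = 0 := hγ T (by rw [map_zero, ← hργ, h1, map_zero])
    exact eq_zero_of_pow_smul htreg h2
  have hg : Function.Surjective g := fun y => by
    obtain ⟨y, rfl⟩ := Submodule.Quotient.mk_surjective _ y
    obtain ⟨x, rfl⟩ := hπT y
    exact ⟨Submodule.Quotient.mk x, rfl⟩
  have hexact : Function.Exact u g := by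
    intro y
    obtain ⟨b, rfl⟩ := Submodule.Quotient.mk_surjective _ y
    constructor
    · intro hb
      obtain ⟨n, hn⟩ := (mem_powTorsion_iff _ _).1 ((Submodule.Quotient.mk_eq_zero _).1 hb)
      obtain ⟨a, ha⟩ := hexT (t ^ n • b) (by rw [map_smul]; exact hn)
      let μ : T →ₗ[R] T := f ^ n • LinearMap.id
      let q : T →ₗ[R] T ⧸ LinearMap.range μ := (LinearMap.range μ).mkQ
      have hc : γ.lTensor (T ⧸ LinearMap.range μ) (q.rTensor F a) = 0 := by
        rw [← LinearMap.comp_apply, LinearMap.lTensor_comp_rTensor, ← LinearMap.rTensor_comp_lTensor,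
          LinearMap.comp_apply, ← hργ, show α.lTensor T a = t ^ n • b by rw [← ha]; simp [αT, LinearMap.baseChange_eq_ltensor],
          hpow, map_smul, map_smul]
        generalize ρ.lTensor T b = w
        induction w using TensorProduct.induction_on with
        | zero => simp
        | add x y hx hy => rw [map_add, smul_add, hx, hy, add_zero]
        | tmul s v =>
          rw [LinearMap.rTensor_tmul, TensorProduct.smul_tmul', ← map_smul,
            show q (f ^ n • s) = 0 from (Submodule.Quotient.mk_eq_zero _).2 ⟨s, rfl⟩, TensorProduct.zero_tmul]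
      have hq0 : q.rTensor F a = 0 := hγ _ (hc.trans (map_zero _).symm)
      obtain ⟨a', ha'⟩ := ((rTensor_exact F (LinearMap.exact_map_mkQ_range μ) (Submodule.mkQ_surjective _)) a).1 hq0
      have ha'' : a = t ^ n • a' := by
        rw [← ha', hpow]
        simp [μ, LinearMap.rTensor_smul]
      refine ⟨a', ?_⟩
      show Submodule.Quotient.mk (αT a') = _
      rw [Submodule.Quotient.eq, mem_powTorsion_iff]
      exact ⟨n, by rw [smul_sub, ← map_smul, ← ha'', ha, sub_self]⟩
    · rintro ⟨a, ha⟩
      rw [← ha]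
      show Submodule.Quotient.mk (πT (αT a)) = 0
      have : πT (αT a) = 0 := by
        simp only [πT, αT, LinearMap.baseChange_eq_ltensor]
        rw [← LinearMap.comp_apply, ← LinearMap.lTensor_comp, hex.linearMap_comp_eq_zero, LinearMap.lTensor_zero,
          LinearMap.zero_apply]
      rw [this, Submodule.Quotient.mk_zero]
  exact Groth.L07.FlatDescent.flat_of_shortExact u g hu hg hexact

/-- **The step.** -/
theorem hasCentre_of_split {m : ℕ} (hf : f ∈ R⁰) (ih : CentresBelow.{u} m) (hN : Nice m R D) {G : Type u} [AddCommGroup G]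
    [Module D G] [Module R G] [IsScalarTower R D G] [Module.FinitePresentation D G] (hflat : FlatOff f G) {c : D}
    (hc : ∀ (Q : Type u) [AddCommGroup Q] [Module R Q], Function.Injective ((LinearMap.mulLeft R c).lTensor Q))
    (hsplit : HasSplit (algebraMap R D f) G c) : HasCentre f G := by
  obtain ⟨k, α, ρ, hρ, he⟩ := hsplit
  haveI : Algebra.Smooth R D := Groth.L20.RG.smooth_of_relDim hN.relDim
  haveI : Module.Flat R D := Algebra.Smooth.flat R D
  let e : G →ₗ[D] G := LinearMap.lsmul D G c - α.comp ρ
  let π₁ : G →ₗ[D] G ⧸ LinearMap.range e := (LinearMap.range e).mkQ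
  have hker : ∀ x, (π₁.restrictScalars R) x = 0 → ∃ l : ℕ, f ^ l • x = 0 := by
    intro x hx
    obtain ⟨y, rfl⟩ := (Submodule.Quotient.mk_eq_zero _).1 hx
    obtain ⟨l, hl⟩ := he y
    exact ⟨l, by rw [← map_pow, algebraMap_smul] at hl; simpa [e] using hl⟩
  haveI : Module.FinitePresentation D (G ⧸ LinearMap.range e) :=
    Module.finitePresentation_of_surjective π₁ (Submodule.mkQ_surjective _)
      (by rw [Submodule.ker_mkQ]; exact Module.Finite.iff_fg.1 (Module.Finite.range e))
  refine HasCentre.of_torsion_ker (π₁.restrictScalars R) (Submodule.mkQ_surjective _) hker ?_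
  have hρe : LinearMap.range e ≤ LinearMap.ker ρ := by
    rintro _ ⟨y, rfl⟩
    simp [e, map_sub, hρ]
  let α₁ : (Fin k → D) →ₗ[D] G ⧸ LinearMap.range e := π₁.comp α
  let ρ₁ : G ⧸ LinearMap.range e →ₗ[D] (Fin k → D) := (LinearMap.range e).liftQ ρ hρe
  let π₂ : G ⧸ LinearMap.range e →ₗ[D] (G ⧸ LinearMap.range e) ⧸ LinearMap.range α₁ := (LinearMap.range α₁).mkQ
  haveI : Module.FinitePresentation D ((G ⧸ LinearMap.range e) ⧸ LinearMap.range α₁) :=
    Module.finitePresentation_of_surjective π₂ (Submodule.mkQ_surjective _)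
      (by rw [Submodule.ker_mkQ]; exact Module.Finite.iff_fg.1 (Module.Finite.range α₁))
  let γ := (LinearMap.lsmul D (Fin k → D) c).restrictScalars R
  have hρα : (ρ₁.restrictScalars R) ∘ₗ (α₁.restrictScalars R) = γ := LinearMap.ext fun v => hρ v
  have hγ : ∀ (Q : Type u) [AddCommGroup Q] [Module R Q], Function.Injective (γ.lTensor Q) :=
    fun Q _ _ => injective_lTensor_pi c hc Q
  haveI : Module.Flat R (Fin k → D) := Module.Flat.trans R D _
  refine hasCentre_extension f (α₁.restrictScalars R) (ρ₁.restrictScalars R) γ (π₂.restrictScalars R) hρα hγ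
    (LinearMap.exact_map_mkQ_range α₁) (Submodule.mkQ_surjective _) (ih R f hf D _ ?_ fun p _ => ?_)
  · have h1 : FlatOff f (G ⧸ LinearMap.range e) :=
      FlatOff.of_surjective (π₁.restrictScalars R) (Submodule.mkQ_surjective _) hker hflat
    have h2 := h1.quotient_range (α₁.restrictScalars R) fun J => by
      rw [← LinearMap.lTensor_inj_iff_rTensor_inj]
      refine Function.Injective.of_comp (f := (ρ₁.restrictScalars R).lTensor (R ⧸ J)) ?_
      rw [← LinearMap.coe_comp, ← LinearMap.lTensor_comp, hρα]
      exact hγ _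
    rw [LinearMap.range_restrictScalars] at h2
    exact h2.congr (Submodule.Quotient.restrictScalarsEquiv R (LinearMap.range α₁))
  · haveI := Groth.L20.RG.isPrime_map_of_domFib hN.dom p
    refine Groth.L20.RG.supportDim_fiberMod_lt p hN.relDim hN.dom _ fun y => ⟨c, notMem_map_of_univInj hN.dom hc p, ?_⟩
    obtain ⟨y, rfl⟩ := Submodule.Quotient.mk_surjective _ y
    obtain ⟨x, rfl⟩ := Submodule.Quotient.mk_surjective _ y
    rw [← Submodule.Quotient.mk_smul, Submodule.Quotient.mk_eq_zero]
    refine ⟨ρ x, ?_⟩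
    show Submodule.Quotient.mk (α (ρ x)) = Submodule.Quotient.mk (c • x)
    exact ((Submodule.Quotient.eq (LinearMap.range e)).2 (LinearMap.mem_range.2 ⟨x, by simp [e]⟩)).symm

end Groth.L20.BlowFlat
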