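import Groth.Agent.L20.BlowFlat.AlgScheme
import Groth.Agent.L20.GenericFlatScheme
import Groth.Agent.L20.FlatLocusOpen
import Groth.Agent.L13.BlowUp.Proper
import Groth.Agent.L13.Nagata.Modification
import Groth.Agent.L13.Nagata.Base
import Groth.Prelude.Def_W4c2submetdescSubtr

/-!
# Flattening a subtrusive morphism over a reduced base
-/

set_option autoImplicit false
set_option linter.style.haveILetI false
set_option backward.isDefEq.respectTransparency.types false

universe u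

open CategoryTheory CategoryTheory.Limits AlgebraicGeometry TopologicalSpace Opposite
open scoped TensorProduct

noncomputable section

namespace Groth.L20.BlowFlat

variable {X Y : Scheme.{u}}

/-- A point of a scheme which is the only generalisation of itself. -/
def IsMaxPt (y : Y) : Prop := ∀ y' : Y, y' ⤳ y → y' = y

/-- Every point has a maximal generalisation. -/
theorem exists_isMaxPt (y : Y) : ∃ η : Y, η ⤳ y ∧ IsMaxPt η := by
  have hc : IsClosed (irreducibleComponent y) := isClosed_irreducibleComponent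
  obtain ⟨η, hη⟩ := QuasiSober.sober (isIrreducible_irreducibleComponent (x := y)) hc
  refine ⟨η, hη.specializes mem_irreducibleComponent, fun y' hy' => ?_⟩
  have h1 : irreducibleComponent y ⊆ closure ({y'} : Set Y) := by
    rw [← hη.def]
    exact hy'.closure_subset
  have h2 : closure ({y'} : Set Y) = irreducibleComponent y :=
    eq_irreducibleComponent isIrreducible_singleton.closure.isPreirreducible h1
  exact IsGenericPoint.eq (show IsGenericPoint y' (irreducibleComponent y) from h2) hη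

/-- An algebra of finite presentation over a reduced ring is flat near a minimal prime. -/
theorem exists_flat_away_minimal {R S : Type u} [CommRing R] [IsReduced R] [CommRing S] [Algebra R S]
    [Algebra.FinitePresentation R S] (p : Ideal R) [p.IsPrime]
    (hmin : ∀ q : Ideal R, q.IsPrime → q ≤ p → q = p) :
    ∃ r ∉ p, Module.Flat R (LocalizedModule (Submonoid.powers (algebraMap R S r)) S) := by
  have hfield : IsField (Localization.AtPrime p) := by
    haveI : Ring.KrullDimLE 0 (Localization.AtPrime p) := by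
      refine Ring.KrullDimLE.mk₀ fun I hI => ?_
      have hq : (I.comap (algebraMap R (Localization.AtPrime p))) = p := by
        refine hmin _ inferInstance fun x hx => ?_
        by_contra hxp
        exact hI.ne_top (I.eq_top_of_isUnit_mem hx
          (IsLocalization.map_units (Localization.AtPrime p) ⟨x, show x ∈ p.primeCompl from hxp⟩))
      have hI' : I = IsLocalRing.maximalIdeal (Localization.AtPrime p) := by
        rw [← IsLocalization.map_under p.primeCompl (Localization.AtPrime p) I, show I.under R = p from hq,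
          Localization.AtPrime.map_eq_maximalIdeal]
      rw [hI']
      infer_instance
    exact Ring.KrullDimLE.isField_of_isReduced
  letI := hfield.toField
  let T := Algebra.algebraMapSubmonoid S p.primeCompl
  haveI : Module.Flat R (LocalizedModule T S) := by
    haveI : IsScalarTower R (Localization.AtPrime p) (Localization T) :=
      IsScalarTower.of_algebraMap_eq fun x => by
        rw [IsScalarTower.algebraMap_apply R S (Localization T), RingHom.algebraMap_toAlgebra]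
        exact (IsLocalization.map_eq _ x).symm
    haveI : Module.Flat R (Localization T) := Module.Flat.trans R (Localization.AtPrime p) (Localization T)
    haveI : IsLocalizedModule T (Algebra.linearMap S (Localization T)) :=
      (isLocalizedModule_iff_isLocalization' _ _).2 inferInstance
    exact Module.Flat.of_linearEquiv
      ((IsLocalizedModule.iso T (Algebra.linearMap S (Localization T))).restrictScalars R)
  obtain ⟨g, hg, hflat⟩ := Groth.L20.exists_flat_away (R := R) (S := S) (M := S) T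
  obtain ⟨r, hr, rfl⟩ := hg
  exact ⟨r, hr, hflat⟩

/-- A morphism of finite presentation over a reduced scheme is flat near a maximal point. -/
theorem exists_affine_flat_at_maxPt [IsReduced Y] (f : X ⟶ Y) [LocallyOfFinitePresentation f] [QuasiCompact f]
    {y : Y} (hy : IsMaxPt y) :
    ∃ W' : Y.Opens, IsAffineOpen W' ∧ y ∈ W' ∧ ∀ x : X, f x ∈ W' →
      ∃ (V : X.Opens) (e : V ≤ f ⁻¹ᵁ W'), IsAffineOpen V ∧ x ∈ V ∧ (f.appLE W' V e).hom.Flat := by
  classical
  obtain ⟨_, ⟨W, hW, rfl⟩, hyW, -⟩ :=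
    Y.isBasis_affineOpens.exists_subset_of_mem_open (Set.mem_univ y) isOpen_univ
  change Y.Opens at W
  replace hW : IsAffineOpen W := hW
  have hcov : ∀ x : (f ⁻¹ᵁ W : Set X), ∃ V : X.affineOpens, x.1 ∈ V.1 ∧ V.1 ≤ f ⁻¹ᵁ W := fun x => by
    obtain ⟨_, ⟨V, hV, rfl⟩, hxV, hVW⟩ := X.isBasis_affineOpens.exists_subset_of_mem_open x.2 (f ⁻¹ᵁ W).2
    exact ⟨⟨V, hV⟩, hxV, hVW⟩
  choose V hxV hVW using hcov
  obtain ⟨s, hs⟩ := (f.isCompact_preimage hW.isCompact).elim_finite_subcover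
    (fun x => ((V x).1 : Set X)) (fun x => (V x).1.2) (fun x hx => Set.mem_iUnion.2 ⟨⟨x, hx⟩, hxV ⟨x, hx⟩⟩)
  let p := hW.primeIdealOf ⟨y, hyW⟩
  have hmin : ∀ q : Ideal Γ(Y, W), q.IsPrime → q ≤ p.asIdeal → q = p.asIdeal := fun q hq hle => by
    have h1 : hW.fromSpec ⟨q, hq⟩ ⤳ y := by
      have := ((PrimeSpectrum.le_iff_specializes ⟨q, hq⟩ p).1 hle).map hW.fromSpec.continuous
      exact (show hW.fromSpec p = y from hW.fromSpec_primeIdealOf ⟨y, hyW⟩) ▸ this
    have h2 : (⟨q, hq⟩ : PrimeSpectrum Γ(Y, W)) = p :=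
      hW.fromSpec.isOpenEmbedding.injective ((hy _ h1).trans (hW.fromSpec_primeIdealOf ⟨y, hyW⟩).symm)
    exact congrArg PrimeSpectrum.asIdeal h2
  have hr : ∀ i ∈ s, ∃ r ∉ p.asIdeal, (f.appLE W (V i).1 (hVW i) ≫
      X.presheaf.map (homOfLE (X.basicOpen_le (f.appLE W (V i).1 (hVW i) r))).op).hom.Flat := fun i _ => by
    letI := (f.appLE W (V i).1 (hVW i)).hom.toAlgebra
    haveI : Algebra.FinitePresentation Γ(Y, W) Γ(X, (V i).1) :=
      RingHom.finitePresentation_algebraMap.1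
        (HasRingHomProperty.appLE @LocallyOfFinitePresentation f inferInstance ⟨W, hW⟩ (V i) (hVW i))
    obtain ⟨r, hrp, hflat⟩ := exists_flat_away_minimal (S := Γ(X, (V i).1)) p.asIdeal hmin
    refine ⟨r, hrp, ?_⟩
    let s' := f.appLE W (V i).1 (hVW i) r
    letI : Algebra Γ(X, (V i).1) Γ(X, X.basicOpen s') :=
      (X.presheaf.map (homOfLE (X.basicOpen_le s')).op).hom.toAlgebra
    haveI : IsLocalization.Away s' Γ(X, X.basicOpen s') := (V i).2.isLocalization_basicOpen s'
    letI : Algebra Γ(Y, W) Γ(X, X.basicOpen s') :=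
      ((X.presheaf.map (homOfLE (X.basicOpen_le s')).op).hom.comp (f.appLE W (V i).1 (hVW i)).hom).toAlgebra
    haveI : IsScalarTower Γ(Y, W) Γ(X, (V i).1) Γ(X, X.basicOpen s') := IsScalarTower.of_algebraMap_eq fun _ => rfl
    haveI : IsLocalizedModule (Submonoid.powers s')
        (Algebra.linearMap Γ(X, (V i).1) Γ(X, X.basicOpen s')) :=
      (isLocalizedModule_iff_isLocalization' _ _).2 inferInstance
    haveI := hflat
    haveI : Module.Flat Γ(Y, W) Γ(X, X.basicOpen s') := Module.Flat.of_linearEquiv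
      ((IsLocalizedModule.iso (Submonoid.powers s')
        (Algebra.linearMap Γ(X, (V i).1) Γ(X, X.basicOpen s'))).restrictScalars Γ(Y, W)).symm
    exact RingHom.flat_algebraMap_iff.2 this
  choose! r hrp hrflat using hr
  let g := ∏ i ∈ s, r i
  have hgp : g ∉ p.asIdeal := fun h => by
    obtain ⟨i, hi, hi'⟩ := p.2.prod_mem_iff.1 h
    exact hrp i hi hi'
  have hyg : y ∈ Y.basicOpen g := by
    have h1 : p ∈ hW.fromSpec ⁻¹ᵁ Y.basicOpen g := by
      rw [hW.fromSpec_preimage_basicOpen]; exact hgp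
    exact (show hW.fromSpec p = y from hW.fromSpec_primeIdealOf ⟨y, hyW⟩) ▸
      (show hW.fromSpec p ∈ Y.basicOpen g from h1)
  refine ⟨Y.basicOpen g, hW.basicOpen g, hyg, fun x hx => ?_⟩
  obtain ⟨i, hi, hxi⟩ : ∃ i ∈ s, x ∈ (V i).1 := by
    simpa [Set.mem_iUnion] using hs (Y.basicOpen_le g hx : x ∈ f ⁻¹ᵁ W)
  let a := f.appLE W (V i).1 (hVW i)
  have hVg : X.basicOpen (a g) = (V i).1 ⊓ f ⁻¹ᵁ Y.basicOpen g := Scheme.basicOpen_appLE f (V i).1 W (hVW i) g
  have e : X.basicOpen (a g) ≤ f ⁻¹ᵁ Y.basicOpen g := hVg.le.trans inf_le_right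
  refine ⟨X.basicOpen (a g), e, (V i).2.basicOpen _, hVg.ge ⟨hxi, hx⟩, ?_⟩
  have hle : X.basicOpen (a g) ≤ X.basicOpen (a (r i)) := by
    obtain ⟨c, hc⟩ := Finset.dvd_prod_of_mem r hi
    rw [show g = r i * c from hc, map_mul, Scheme.basicOpen_mul]
    exact inf_le_left
  -- flatness over the big ring
  have h1 : (f.appLE W (X.basicOpen (a g)) (e.trans ((Opens.map f.base).map (homOfLE (Y.basicOpen_le g))).le)).hom.Flat := by
    rw [show f.appLE W (X.basicOpen (a g)) _ = (a ≫ X.presheaf.map (homOfLE (X.basicOpen_le (a (r i)))).op) ≫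
        X.presheaf.map (homOfLE hle).op by
      rw [Category.assoc, ← Functor.map_comp, Scheme.Hom.appLE_map]]
    have h2 : (X.presheaf.map (homOfLE hle).op).hom.Flat := by
      have h3 := Scheme.Hom.flat_appLE (𝟙 X) ((V i).2.basicOpen (a (r i))) ((V i).2.basicOpen (a g))
        (show X.basicOpen (a g) ≤ (𝟙 X : X ⟶ X) ⁻¹ᵁ X.basicOpen (a (r i)) from hle)
      rwa [show (𝟙 X : X ⟶ X).appLE (X.basicOpen (a (r i))) (X.basicOpen (a g)) hle =
        X.presheaf.map (homOfLE hle).op from Category.id_comp _] at h3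
    rw [CommRingCat.hom_comp]
    exact (hrflat i hi).comp h2
  -- descend to the localisation
  letI : Algebra Γ(Y, W) Γ(Y, Y.basicOpen g) := (Y.presheaf.map (homOfLE (Y.basicOpen_le g)).op).hom.toAlgebra
  haveI : IsLocalization.Away g Γ(Y, Y.basicOpen g) := hW.isLocalization_basicOpen g
  letI : Algebra Γ(Y, Y.basicOpen g) Γ(X, X.basicOpen (a g)) := (f.appLE _ _ e).hom.toAlgebra
  letI : Algebra Γ(Y, W) Γ(X, X.basicOpen (a g)) :=
    (f.appLE W (X.basicOpen (a g)) (e.trans ((Opens.map f.base).map (homOfLE (Y.basicOpen_le g))).le)).hom.toAlgebra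
  haveI : IsScalarTower Γ(Y, W) Γ(Y, Y.basicOpen g) Γ(X, X.basicOpen (a g)) := IsScalarTower.of_algebraMap_eq'
    (congrArg CommRingCat.Hom.hom (Scheme.Hom.map_appLE f e (homOfLE (Y.basicOpen_le g)).op)).symm
  exact RingHom.flat_algebraMap_iff.2
    ((Module.flat_iff_of_isLocalization (S := Γ(Y, Y.basicOpen g)) (p := Submonoid.powers g) (M := Γ(X, X.basicOpen (a g)))).2
      (RingHom.flat_algebraMap_iff.1 h1))

/-- A morphism of finite presentation over a reduced scheme with quasi-compact set of maximal points is flat over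
a quasi-compact dense open. -/
theorem exists_compact_dense_flat [IsReduced Y] (hgen : IsCompact {y : Y | IsMaxPt y}) (f : X ⟶ Y)
    [LocallyOfFinitePresentation f] [QuasiCompact f] :
    ∃ U : Y.Opens, Dense (U : Set Y) ∧ IsCompact (U : Set Y) ∧ (∀ y, IsMaxPt y → y ∈ U) ∧ Flat (f ∣_ U) := by
  classical
  choose W hW hyW hflat using fun y : {y : Y | IsMaxPt y} => exists_affine_flat_at_maxPt f y.2
  obtain ⟨s, hs⟩ := hgen.elim_finite_subcover (fun y => (W y : Set Y)) (fun y => (W y).2)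
    (fun y hy => Set.mem_iUnion.2 ⟨⟨y, hy⟩, hyW ⟨y, hy⟩⟩)
  let U : Y.Opens := ⟨⋃ y ∈ s, (W y : Set Y), isOpen_biUnion fun y _ => (W y).2⟩
  have hU : ∀ y, IsMaxPt y → y ∈ U := fun y hy => hs hy
  refine ⟨U, fun y => ?_, s.isCompact_biUnion fun y _ => (hW y).isCompact, hU, ?_⟩
  · obtain ⟨η, hη, hηm⟩ := exists_isMaxPt y
    exact closure_mono (Set.singleton_subset_iff.2 (hU η hηm)) hη.mem_closure
  · refine Groth.L20.GFR.prop_morphismRestrict (P := @Flat)
      (RingHom.Flat.stableUnderComposition.stableUnderCompositionWithLocalizationAway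
        RingHom.Flat.holdsForLocalizationAway).left f U fun x hx => ?_
    obtain ⟨y, hy, hxy⟩ := Set.mem_iUnion₂.1 hx
    obtain ⟨V, e, hV, hxV, hfl⟩ := hflat y x hxy
    exact ⟨W y, V, e, hW y, hV, hxV, fun z hz => Set.mem_iUnion₂.2 ⟨y, hy, hz⟩, hfl⟩

/-- An effective Cartier divisor contains no maximal point. -/
theorem not_mem_support_of_isMaxPt {E : Y.IdealSheafData} (hE : BlowUp.IsEffCartierIdeal E) {η : Y}
    (hη : IsMaxPt η) : η ∉ E.support := by
  intro hmem
  obtain ⟨V, hηV, t, ht, hEV⟩ := hE η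
  rw [Scheme.IdealSheafData.mem_support_iff_of_mem hηV, hEV, Scheme.zeroLocus_span,
    Scheme.zeroLocus_singleton] at hmem
  let p := V.2.primeIdealOf ⟨η, hηV⟩
  have hfs : V.2.fromSpec p = η := V.2.fromSpec_primeIdealOf ⟨η, hηV⟩
  have hmin : p.asIdeal ∈ minimalPrimes Γ(Y, V.1) := by
    refine ⟨⟨p.2, bot_le⟩, fun q hq hle => ?_⟩
    have h1 : V.2.fromSpec ⟨q, hq.1⟩ ⤳ η :=
      hfs ▸ ((PrimeSpectrum.le_iff_specializes ⟨q, hq.1⟩ p).1 hle).map V.2.fromSpec.continuous
    have h2 : (⟨q, hq.1⟩ : PrimeSpectrum Γ(Y, V.1)) = p :=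
      V.2.fromSpec.isOpenEmbedding.injective ((hη _ h1).trans hfs.symm)
    exact (congrArg PrimeSpectrum.asIdeal h2).ge
  refine hmem ?_
  have h1 : p ∈ V.2.fromSpec ⁻¹ᵁ Y.basicOpen t := by
    rw [V.2.fromSpec_preimage_basicOpen]
    exact fun htp => (Ideal.disjoint_nonZeroDivisors_of_mem_minimalPrimes hmin).ne_of_mem htp ht rfl
  exact hfs ▸ (show V.2.fromSpec p ∈ Y.basicOpen t from h1)

/-- Away from the exceptional divisor a point lies in the strict transform. -/
theorem mem_support_strict {E J : X.IdealSheafData}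
    (hJ : ∀ (V : X.affineOpens) (a : Γ(X, V.1)), a ∈ J.ideal V ↔
      BlowUp.KilledByPowerNear E (Coh.structureModule X) V a) {x : X} (hx : x ∉ E.support) : x ∈ J.support := by
  obtain ⟨_, ⟨V, hV, rfl⟩, hxV, -⟩ := X.isBasis_affineOpens.exists_subset_of_mem_open (Set.mem_univ x) isOpen_univ
  rw [Scheme.IdealSheafData.mem_support_iff_of_mem (U := ⟨V, hV⟩) hxV] at hx ⊢
  rw [Scheme.mem_zeroLocus_iff] at hx ⊢
  push_neg at hx
  obtain ⟨σ, hσ, hxσ⟩ := hx
  intro a ha hxa
  obtain ⟨n, hn⟩ := (hJ ⟨V, hV⟩ a).1 ha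
  have h0 : σ ^ n * a = 0 := hn _ (by
    rw [Scheme.IdealSheafData.ideal_pow]
    exact Ideal.pow_mem_pow hσ n)
  have h1 : x ∈ X.basicOpen (σ ^ n * a) := by
    rw [Scheme.basicOpen_mul]
    refine ⟨?_, hxa⟩
    show x ∈ X.basicOpen (σ ^ n)
    obtain ⟨m, hm⟩ := (Scheme.mem_basicOpen'' X σ x).1 hxσ
    exact (Scheme.mem_basicOpen'' X (σ ^ n) x).2 ⟨m, by rw [map_pow]; exact hm.pow n⟩
  rw [h0, Scheme.basicOpen_zero] at h1
  exact h1

/-- A subtrusive morphism over a reduced base becomes faithfully flat after an admissible blow-up. -/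
theorem exists_flattening_subtrusive [IsReduced Y] [CompactSpace Y] [QuasiSeparatedSpace Y]
    (hgen : IsCompact {y : Y | ∀ y' : Y, y' ⤳ y → y' = y}) (f : X ⟶ Y) [LocallyOfFinitePresentation f]
    [QuasiCompact f] [QuasiSeparated f] (hf : Subtr.UnivSSubtrusive f) :
    ∃ (U : Y.Opens) (𝓘 : Y.IdealSheafData) (Y' : Scheme.{u}) (b : Y' ⟶ Y),
      Dense (U : Set Y) ∧ IsCompact (U : Set Y) ∧ BlowUp.IsBlowUp b 𝓘 ∧ BlowUp.IsAdmissibleFor U 𝓘 ∧
      Surjective b ∧
      ∀ (X' : Scheme.{u}) (p₁ : X' ⟶ X) (p₂ : X' ⟶ Y'), IsPullback p₁ p₂ f b →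
      ∀ (𝒥 : X'.IdealSheafData),
        (∀ (V : X'.affineOpens) (a : Γ(X', V.1)), a ∈ 𝒥.ideal V ↔
          BlowUp.KilledByPowerNear ((𝓘.comap f).comap p₁) (Coh.structureModule X') V a) →
        Flat (𝒥.subschemeι ≫ p₂) ∧ Surjective (𝒥.subschemeι ≫ p₂) ∧
          LocallyOfFinitePresentation (𝒥.subschemeι ≫ p₂) ∧
          QuasiCompact (𝒥.subschemeι ≫ p₂) ∧ QuasiSeparated (𝒥.subschemeι ≫ p₂) := by
  obtain ⟨U, hUd, hU, hUmax, hflat⟩ := exists_compact_dense_flat hgen f
  haveI := hflat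
  haveI : LocallyOfFinitePresentation (f ∣_ U) := IsZariskiLocalAtTarget.restrict ‹_› U
  obtain ⟨J₀, hJ₀, hK⟩ := exists_centre_scheme f U hU
  obtain ⟨L, hL, hLs⟩ := Groth.L13.Nagata.exists_compl_ideal U hU
  have hKa : BlowUp.IsAdmissibleFor U (J₀ * L) :=
    Groth.L13.Nagata.admissible_mul hJ₀ ⟨hL, by rw [hLs]; exact disjoint_compl_left⟩
  obtain ⟨Y', b, hb⟩ := Groth.L13.BU.exists_isBlowUp (J₀ * L)
  haveI := Groth.L13.BU.isProper_blowUp hb hKa.1
  have hsurj : Surjective b := ⟨fun y => by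
    obtain ⟨η, hη, hηm⟩ := exists_isMaxPt y
    obtain ⟨η', hη', -⟩ := Groth.L13.Nagata.surjective_over_of_admissible hb hKa.2 (hUmax η hηm)
    exact closure_minimal (Set.singleton_subset_iff.2 (show η ∈ Set.range b from ⟨η', hη'⟩))
      b.isClosedMap.isClosed_range hη.mem_closure⟩
  refine ⟨U, J₀ * L, Y', b, hUd, hU, hb, hKa, hsurj, fun X' p₁ p₂ hsq 𝒥 h𝒥 => ?_⟩
  obtain ⟨h1, h2, h3, h4⟩ := hK (J₀ * L) hKa (fun W => ⟨L.ideal W, rfl⟩) Y' b hb X' p₁ p₂ hsq 𝒥 h𝒥
  refine ⟨h1, ⟨fun y' => ?_⟩, h2, h3, h4⟩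
  obtain ⟨η, hη, hηm⟩ := exists_isMaxPt y'
  obtain ⟨x, x₀, hx, hxy, hx₀⟩ := hf p₁ b p₂ hsq.flip hη
  have hx₀E : x₀ ∉ (((J₀ * L).comap f).comap p₁).support := by
    rw [← Scheme.IdealSheafData.comap_comp, hsq.w, Scheme.IdealSheafData.comap_comp]
    intro hmem
    rw [Scheme.IdealSheafData.support_comap] at hmem
    exact not_mem_support_of_isMaxPt hb.1 hηm (hx₀ ▸ hmem)
  have hxJ : x ∈ 𝒥.support := hx.mem_closed 𝒥.support.2 (mem_support_strict h𝒥 hx₀E)
  obtain ⟨z, hz⟩ : x ∈ Set.range 𝒥.subschemeι := by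
    rw [Scheme.IdealSheafData.range_subschemeι]; exact hxJ
  exact ⟨z, by rw [Scheme.Hom.comp_apply, hz, hxy]⟩

end Groth.L20.BlowFlat
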