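import Groth.Agent.L13.Fitting.StrictTransform
import Mathlib.RingTheory.Flat.Stability
import Mathlib.RingTheory.Flat.TorsionFree
import Mathlib.RingTheory.Regular.IsSMulRegular
import Mathlib.RingTheory.Ideal.Quotient.Operations
import Mathlib.RingTheory.TensorProduct.IsBaseChangePi
import Mathlib.LinearAlgebra.TensorProduct.RightExactness

/-!
# Flatness modulo torsion

`GoodM T f M`: the quotient of the `T`-module `M` by its `f`-power torsion is flat over `T`.
-/

set_option autoImplicit false
set_option linter.style.haveILetI false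
universe u

open TensorProduct

namespace Groth.L20.BlowFlat

open Groth.L13.Fitting (mem_powTorsion_iff)

variable {T : Type u} [CommRing T] {f : T} {M N : Type u} [AddCommGroup M] [Module T M] [AddCommGroup N] [Module T N]

/-- The quotient by the `f`-power torsion is flat. -/
def GoodM (T : Type u) [CommRing T] (f : T) (M : Type u) [AddCommGroup M] [Module T M] : Prop :=
  Module.Flat T (M ⧸ FlatCA.powTorsion T f M)

/-- On a flat module a nonzerodivisor acts injectively. -/
theorem eq_zero_of_pow_smul [Module.Flat T N] (hf : f ∈ nonZeroDivisors T) {n : ℕ} {x : N} (h : f ^ n • x = 0) :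
    x = 0 :=
  Module.Flat.isSMulRegular_of_nonZeroDivisors (M := N) (pow_mem hf n)
    (show f ^ n • x = f ^ n • 0 by rw [h, smul_zero])

theorem goodM_of_surjective (hf : f ∈ nonZeroDivisors T) (π : M →ₗ[T] N) (hsurj : Function.Surjective π)
    (hker : ∀ m, π m = 0 → ∃ n : ℕ, f ^ n • m = 0) [Module.Flat T N] : GoodM T f M := by
  have e : FlatCA.powTorsion T f M = LinearMap.ker π := by
    ext m
    rw [mem_powTorsion_iff, LinearMap.mem_ker]
    exact ⟨fun ⟨n, hn⟩ => eq_zero_of_pow_smul hf (by rw [← map_smul, hn, map_zero]), hker m⟩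
  exact Module.Flat.of_linearEquiv ((Submodule.quotEquivOfEq _ _ e).trans (π.quotKerEquivOfSurjective hsurj))

theorem goodM_of_flat (hf : f ∈ nonZeroDivisors T) [Module.Flat T M] : GoodM T f M :=
  goodM_of_surjective hf LinearMap.id Function.surjective_id fun m hm => ⟨0, by rw [pow_zero, one_smul]; exact hm⟩

theorem GoodM.of_equiv (hf : f ∈ nonZeroDivisors T) (e : M ≃ₗ[T] N) (h : GoodM T f N) : GoodM T f M := by
  haveI : Module.Flat T (N ⧸ FlatCA.powTorsion T f N) := h
  refine goodM_of_surjective hf ((FlatCA.powTorsion T f N).mkQ.comp e.toLinearMap)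
    ((Submodule.mkQ_surjective _).comp e.surjective) fun m hm => ?_
  obtain ⟨n, hn⟩ := (mem_powTorsion_iff f _).1 ((Submodule.Quotient.mk_eq_zero _).1 hm)
  exact ⟨n, e.injective (by rw [map_smul, map_zero]; exact hn)⟩

/-- Modules differing by torsion are good together. -/
theorem GoodM.of_torsion_ker (hf : f ∈ nonZeroDivisors T) (π : M →ₗ[T] N) (hsurj : Function.Surjective π)
    (hker : ∀ m, π m = 0 → ∃ n : ℕ, f ^ n • m = 0) (h : GoodM T f N) : GoodM T f M := by
  haveI : Module.Flat T (N ⧸ FlatCA.powTorsion T f N) := h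
  refine goodM_of_surjective hf ((FlatCA.powTorsion T f N).mkQ.comp π) ((Submodule.mkQ_surjective _).comp hsurj) fun m hm => ?_
  obtain ⟨n, hn⟩ := (mem_powTorsion_iff f _).1 ((Submodule.Quotient.mk_eq_zero _).1 hm)
  obtain ⟨k, hk⟩ := hker (f ^ n • m) (by rw [map_smul]; exact hn)
  exact ⟨k + n, by rw [pow_add, mul_smul]; exact hk⟩

section BaseChange

variable (T' : Type u) [CommRing T'] [Algebra T T']

/-- The base change of the quotient by torsion only loses torsion. -/
theorem exists_pow_smul_of_baseChange_mkQ {z : T' ⊗[T] M}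
    (hz : (FlatCA.powTorsion T f M).mkQ.baseChange T' z = 0) : ∃ n : ℕ, algebraMap T T' f ^ n • z = 0 := by
  obtain ⟨w, rfl⟩ := (lTensor_exact T' (LinearMap.exact_subtype_mkQ (FlatCA.powTorsion T f M))
    (Submodule.mkQ_surjective _) z).1 (by rw [← hz, LinearMap.baseChange_eq_ltensor])
  induction w using TensorProduct.induction_on with
  | zero => exact ⟨0, by simp⟩
  | tmul t m =>
    obtain ⟨n, hn⟩ := (mem_powTorsion_iff f _).1 m.2
    refine ⟨n, ?_⟩
    rw [LinearMap.lTensor_tmul, ← map_pow, algebraMap_smul, ← TensorProduct.tmul_smul, Submodule.subtype_apply, hn,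
      TensorProduct.tmul_zero]
  | add a b ha hb =>
    obtain ⟨n, hn⟩ := ha (by
      rw [LinearMap.baseChange_eq_ltensor, ← LinearMap.comp_apply, ← LinearMap.lTensor_comp]
      rw [show (FlatCA.powTorsion T f M).mkQ.comp (FlatCA.powTorsion T f M).subtype = 0 from
        LinearMap.ext fun x => (Submodule.Quotient.mk_eq_zero _).2 x.2, LinearMap.lTensor_zero, LinearMap.zero_apply])
    obtain ⟨k, hk⟩ := hb (by
      rw [LinearMap.baseChange_eq_ltensor, ← LinearMap.comp_apply, ← LinearMap.lTensor_comp]
      rw [show (FlatCA.powTorsion T f M).mkQ.comp (FlatCA.powTorsion T f M).subtype = 0 from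
        LinearMap.ext fun x => (Submodule.Quotient.mk_eq_zero _).2 x.2, LinearMap.lTensor_zero, LinearMap.zero_apply])
    exact ⟨n + k, by rw [map_add, smul_add, pow_add, mul_smul, mul_smul, hk, smul_zero, add_zero,
      smul_comm, hn, smul_zero]⟩

theorem GoodM.baseChange (hf' : algebraMap T T' f ∈ nonZeroDivisors T') (h : GoodM T f M) :
    GoodM T' (algebraMap T T' f) (T' ⊗[T] M) := by
  haveI : Module.Flat T (M ⧸ FlatCA.powTorsion T f M) := h
  exact goodM_of_surjective hf' ((FlatCA.powTorsion T f M).mkQ.baseChange T')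
    (by rw [LinearMap.baseChange_eq_ltensor]; exact LinearMap.lTensor_surjective T' (Submodule.mkQ_surjective _))
    fun z hz => exists_pow_smul_of_baseChange_mkQ T' hz

/-- Along a flat algebra, goodness of the base change makes the base changed quotient flat. -/
theorem flat_baseChange_quotient [Module.Flat T T']
    (h : GoodM T' (algebraMap T T' f) (T' ⊗[T] M)) : Module.Flat T' (T' ⊗[T] (M ⧸ FlatCA.powTorsion T f M)) := by
  haveI : Module.Flat T' ((T' ⊗[T] M) ⧸ FlatCA.powTorsion T' (algebraMap T T' f) (T' ⊗[T] M)) := h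
  let π := (FlatCA.powTorsion T f M).mkQ.baseChange T'
  have hreg : IsSMulRegular (M ⧸ FlatCA.powTorsion T f M) f := by
    refine IsSMulRegular.of_right_eq_zero_of_smul fun x hx => ?_
    obtain ⟨m, rfl⟩ := Submodule.Quotient.mk_surjective _ x
    rw [← Submodule.Quotient.mk_smul, Submodule.Quotient.mk_eq_zero, mem_powTorsion_iff] at hx
    obtain ⟨n, hn⟩ := hx
    rw [Submodule.Quotient.mk_eq_zero, mem_powTorsion_iff]
    exact ⟨n + 1, by rw [pow_succ, mul_smul]; exact hn⟩
  have hreg' : IsSMulRegular (T' ⊗[T] (M ⧸ FlatCA.powTorsion T f M)) f := IsSMulRegular.lTensor (M := T') hreg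
  have e : FlatCA.powTorsion T' (algebraMap T T' f) (T' ⊗[T] M) = LinearMap.ker π := by
    ext z
    rw [mem_powTorsion_iff, LinearMap.mem_ker]
    refine ⟨fun ⟨n, hn⟩ => ?_, exists_pow_smul_of_baseChange_mkQ T'⟩
    refine (hreg'.pow n).right_eq_zero_of_smul ?_
    rw [← algebraMap_smul T', map_pow, ← map_smul, hn, map_zero]
  exact Module.Flat.of_linearEquiv ((Submodule.quotEquivOfEq _ _ e).trans (π.quotKerEquivOfSurjective
    (by rw [LinearMap.baseChange_eq_ltensor]; exact LinearMap.lTensor_surjective T' (Submodule.mkQ_surjective _)))).symm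

end BaseChange

/-- An element dying in a flat base change has annihilator generating the unit ideal there. -/
theorem map_annihilator_eq_top {A : Type u} [CommRing A] {X : Type u} [AddCommGroup X] [Module A X] (x : X)
    (B : Type u) [CommRing B] [Algebra A B] [Module.Flat A B] (h : (1 : B) ⊗ₜ[A] x = 0) :
    (Ideal.torsionOf A X x).map (algebraMap A B) = ⊤ := by
  let J := Ideal.torsionOf A X x
  let g : (A ⧸ J) →ₗ[A] X := (Submodule.span A {x}).subtype.comp (Ideal.quotTorsionOfEquivSpanSingleton A X x).toLinearMap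
  have hg : Function.Injective g := Subtype.val_injective.comp (LinearEquiv.injective _)
  have h1 : g.lTensor B ((1 : B) ⊗ₜ[A] Ideal.Quotient.mk J 1) = 0 := by
    rw [LinearMap.lTensor_tmul, ← h]
    congr 1
    show ((Ideal.quotTorsionOfEquivSpanSingleton A X x (Submodule.Quotient.mk (1 : A))) : X) = x
    rw [Ideal.quotTorsionOfEquivSpanSingleton_apply_mk, one_smul]
  have h2 := Module.Flat.lTensor_preserves_injective_linearMap g hg (h1.trans (map_zero _).symm)
  have h3 := congrArg (TensorProduct.tensorQuotEquivQuotSMul B J) h2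
  rw [map_zero] at h3
  rw [TensorProduct.tensorQuotEquivQuotSMul_tmul_mk, one_smul, Submodule.Quotient.mk_eq_zero,
    Ideal.smul_top_eq_map] at h3
  exact (Ideal.eq_top_iff_one _).2 h3

/-- Goodness descends along flat algebras covering the closed points. -/
theorem GoodM.of_flat_cover
    (h : ∀ m : Ideal T, m.IsMaximal → ∃ (T' : Type u) (_ : CommRing T') (_ : Algebra T T'), Module.Flat T T' ∧
      m.map (algebraMap T T') ≠ ⊤ ∧ GoodM T' (algebraMap T T' f) (T' ⊗[T] M)) : GoodM T f M := by
  let Q := M ⧸ FlatCA.powTorsion T f M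
  show Module.Flat T Q
  rw [Module.Flat.iff_lTensor_injective']
  intro I
  rw [injective_iff_map_eq_zero]
  intro x hx
  by_contra hne
  obtain ⟨m, hm, hle⟩ := Ideal.exists_le_maximal (Ideal.torsionOf T (Q ⊗[T] I) x)
    (fun htop => hne ((Ideal.torsionOf_eq_top_iff T x).1 htop))
  obtain ⟨T', _, _, hflat, hm', hgood⟩ := h m hm
  haveI := hflat
  haveI : Module.Flat T' (T' ⊗[T] Q) := flat_baseChange_quotient T' hgood
  haveI : Module.Flat T (T' ⊗[T] Q) := Module.Flat.trans T T' _
  refine hm' (eq_top_iff.2 (le_trans (le_of_eq ?_) (Ideal.map_mono hle)))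
  refine (map_annihilator_eq_top x T' ?_).symm
  have key : ∀ y : Q ⊗[T] I, (TensorProduct.assoc T T' Q T).symm ((1 : T') ⊗ₜ[T] I.subtype.lTensor Q y) =
      I.subtype.lTensor (T' ⊗[T] Q) ((TensorProduct.assoc T T' Q I).symm ((1 : T') ⊗ₜ[T] y)) := by
    intro y
    induction y using TensorProduct.induction_on with
    | zero => simp
    | tmul q i => simp
    | add a b ha hb => simp only [map_add, TensorProduct.tmul_add, ha, hb]
  refine (TensorProduct.assoc T T' Q I).symm.injective ?_
  refine Module.Flat.lTensor_preserves_injective_linearMap (M := T' ⊗[T] Q) I.subtype Subtype.val_injective ?_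
  rw [← key, hx]
  simp

end Groth.L20.BlowFlat
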