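import Groth.Agent.L20.BlowFlat.AlgChart
import Groth.Agent.L20.GenericFlatScheme
import Mathlib.RingTheory.Valuation.ValuationRing

/-!
# Flattening along a valuation ring
-/

set_option autoImplicit false
set_option linter.style.haveILetI false
set_option backward.isDefEq.respectTransparency.types false

universe u

open TensorProduct nonZeroDivisors

noncomputable section

namespace Groth.L20.BlowFlat

variable {R : Type u} [CommRing R]

/-- In a valuation ring one of finitely many elements divides all the others. -/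
theorem exists_dvd_all {A : Type u} [CommRing A] [IsDomain A] [ValuationRing A] {ι : Type*} (F : Finset ι) (hF : F.Nonempty)
    (x : ι → A) : ∃ i ∈ F, ∀ j ∈ F, x i ∣ x j := by
  classical
  induction hF using Finset.Nonempty.cons_induction with
  | singleton a => exact ⟨a, Finset.mem_singleton_self a, fun j hj => by rw [Finset.mem_singleton.1 hj]⟩
  | cons a s has hs ih =>
    obtain ⟨i, hi, hid⟩ := ih
    rcases ValuationRing.dvd_total (x a) (x i) with h | h
    · refine ⟨a, Finset.mem_cons_self a s, fun j hj => ?_⟩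
      rcases Finset.mem_cons.1 hj with rfl | hj
      · exact dvd_rfl
      · exact h.trans (hid j hj)
    · refine ⟨i, Finset.mem_cons.2 (Or.inr hi), fun j hj => ?_⟩
      rcases Finset.mem_cons.1 hj with rfl | hj
      · exact h
      · exact hid j hj

/-- An algebra is of finite presentation away from an element of generic freeness. -/
theorem fp_away_of_goodAway {S M : Type u} [CommRing S] [Algebra R S] [AddCommGroup M] [Module S M] [Module R M]
    {g : R} (h : Groth.L20.GFR.GoodAway R S M g) :
    Algebra.FinitePresentation R (Localization.Away (algebraMap R S g)) := by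
  let φ : Localization.Away g →+* Localization.Away (algebraMap R S g) :=
    IsLocalization.Away.map (Localization.Away g) (Localization.Away (algebraMap R S g)) (algebraMap R S) g
  letI : Algebra (Localization.Away g) (Localization.Away (algebraMap R S g)) := φ.toAlgebra
  haveI : IsScalarTower R (Localization.Away g) (Localization.Away (algebraMap R S g)) :=
    IsScalarTower.of_algebraMap_eq fun x => by
      show _ = φ (algebraMap R (Localization.Away g) x)
      rw [IsScalarTower.algebraMap_apply R S (Localization.Away (algebraMap R S g))]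
      exact (IsLocalization.map_eq _ x).symm
  haveI := (Groth.L20.GFR.GoodAway.flat_and_fp (R' := Localization.Away g)
    (S' := Localization.Away (algebraMap R S g)) h).2
  haveI : Algebra.FinitePresentation R (Localization.Away g) := IsLocalization.Away.finitePresentation g
  exact Algebra.FinitePresentation.trans R (Localization.Away g) _

/-- A module is flat away from an element of generic freeness. -/
theorem flatOff_of_goodAway {S M : Type u} [CommRing S] [Algebra R S] [AddCommGroup M] [Module S M] [Module R M]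
    {g : R} (h : Groth.L20.GFR.GoodAway R S M g) : FlatOff g M := by
  rw [flatOff_iff_flat]
  haveI := h.1
  haveI : Module.Flat R (Localization.Away g) := IsLocalization.flat _ (Submonoid.powers g)
  haveI : Module.Flat R (Localization.Away g ⊗[R] M) := Module.Flat.trans R (Localization.Away g) _
  haveI : IsLocalizedModule (Submonoid.powers g) (TensorProduct.mk R (Localization.Away g) M 1) :=
    (isLocalizedModule_iff_isBaseChange (Submonoid.powers g) (Localization.Away g) _).2 (TensorProduct.isBaseChange R M _)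
  exact Module.Flat.of_linearEquiv (IsLocalizedModule.iso (Submonoid.powers g) (TensorProduct.mk R (Localization.Away g) M 1))

/-- Flattening by an affine blow-up along a valuation ring. -/
theorem exists_valuation_flattening {K : Type u} [IsDomain R] [IsLocalRing R] [Field K]
    [Algebra R K] [IsFractionRing R K] (S : Type u) [CommRing S] [Algebra R S] [Algebra.FiniteType R S] (M : Type u)
    [AddCommGroup M] [Module S M] [Module R M] [IsScalarTower R S M] [Module.Finite S M]
    (A : Type u) [CommRing A] [IsDomain A] [ValuationRing A] [Algebra A K] [IsFractionRing A K] [Algebra R A]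
    [IsScalarTower R A K] [IsLocalHom (algebraMap R A)] (hm : IsLocalRing.maximalIdeal R ≠ ⊥) :
    ∃ (I : Ideal R) (a : R), I.FG ∧ I ≤ IsLocalRing.maximalIdeal R ∧ a ∈ I ∧ a ≠ 0 ∧
      (∀ x ∈ I, ∃ y : A, algebraMap A K y * algebraMap R K a = algebraMap R K x) ∧
      ∀ (R₁ : Type u) [CommRing R₁] [Algebra R R₁] (_ : R₁ ≃ₐ[R] ↥(BlowUp.affineAlgebra R I a)),
        (IsLocalRing.maximalIdeal R).map (algebraMap R R₁) ≠ ⊤ ∧
        Module.Flat R₁ ((R₁ ⊗[R] S) ⧸ FlatCA.powTorsion (R₁ ⊗[R] S) (algebraMap R (R₁ ⊗[R] S) a) (R₁ ⊗[R] S)) ∧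
        Algebra.FinitePresentation R₁
          ((R₁ ⊗[R] S) ⧸ FlatCA.powTorsion (R₁ ⊗[R] S) (algebraMap R (R₁ ⊗[R] S) a) (R₁ ⊗[R] S)) ∧
        Module.Flat R₁ ((R₁ ⊗[R] M) ⧸ FlatCA.powTorsion R₁ (algebraMap R R₁ a) (R₁ ⊗[R] M)) := by
  classical
  obtain ⟨n, π, hπ⟩ := Algebra.FiniteType.iff_quotient_mvPolynomial''.1 (‹Algebra.FiniteType R S›)
  let P := MvPolynomial (Fin n) R
  letI : Algebra P S := π.toRingHom.toAlgebra
  haveI : IsScalarTower R P S := IsScalarTower.of_algebraMap_eq fun r => (π.commutes r).symm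
  haveI : Module.Finite P S := Module.Finite.of_surjective (Algebra.linearMap P S) hπ
  letI : Module P M := Module.compHom M (algebraMap P S)
  haveI : IsScalarTower P S M := IsScalarTower.of_algebraMap_smul fun _ _ => rfl
  haveI : IsScalarTower R P M := IsScalarTower.of_algebraMap_smul fun r x => by
    show algebraMap P S (algebraMap R P r) • x = r • x
    rw [← IsScalarTower.algebraMap_apply, algebraMap_smul]
  haveI : Module.Finite P M := Module.Finite.trans S M
  obtain ⟨g₀, hg₀m, hg₀⟩ := Submodule.exists_mem_ne_zero_of_ne_bot hm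
  obtain ⟨c₁, hc₁, hgoodS⟩ := Groth.L20.GFR.exists_goodAway (R := R) (S := S) S g₀ hg₀
  obtain ⟨c₂, hg, hgoodM⟩ := Groth.L20.GFR.exists_goodAway (R := R) (S := P) M (g₀ * c₁) hc₁
  let g := g₀ * c₁ * c₂
  have hgS : Groth.L20.GFR.GoodAway R S S g := Groth.L20.GFR.GoodAway.mul hgoodS c₂
  have hfpM : Module.FinitePresentation (Localization.Away (algebraMap R P g))
      (LocalizedModule (Submonoid.powers (algebraMap R P g)) M) :=
    Groth.L20.GF.NearlyFP.finitePresentation_localizedModule hgoodM.2.2.2
  obtain ⟨I₁, hI₁, hI₁r, hflS⟩ := exists_ideal_good_algebra S {g}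
    (fun a ha => by rw [Finset.mem_singleton.1 ha]; exact fp_away_of_goodAway hgS)
    (fun a ha => by rw [Finset.mem_singleton.1 ha]; exact flatOff_of_goodAway hgS)
  obtain ⟨I₂, hI₂, hI₂r, hflM⟩ := exists_ideal_good (S := P) M {g}
    (fun a ha => by rw [Finset.mem_singleton.1 ha]; exact hfpM)
    (fun a ha => by rw [Finset.mem_singleton.1 ha]; exact flatOff_of_goodAway hgoodM)
  let I : Ideal R := I₁ * (I₂ * Ideal.span {g})
  have hrad : ∀ {X Y : Ideal R}, X.radical = (Ideal.span {g}).radical → Y.radical = (Ideal.span {g}).radical →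
      (X * Y).radical = (Ideal.span {g}).radical := fun hX hY => by rw [Ideal.radical_mul, hX, hY, inf_idem]
  rw [Finset.coe_singleton] at hI₁r hI₂r hflS hflM
  have hIr : I.radical = (Ideal.span {g}).radical := hrad hI₁r (hrad hI₂r rfl)
  have hIfg : I.FG := hI₁.mul (hI₂.mul (Submodule.fg_span_singleton g))
  have hIm : I ≤ IsLocalRing.maximalIdeal R := Ideal.mul_le_right.trans (Ideal.mul_le_right.trans
    ((Ideal.span_singleton_le_iff_mem _).2 (Ideal.mul_mem_right _ _ (Ideal.mul_mem_right _ _ hg₀m))))
  have hI0 : I ≠ ⊥ := fun h => hg (by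
    obtain ⟨k, hk⟩ : g ∈ I.radical := hIr ▸ Ideal.le_radical (Ideal.mem_span_singleton_self g)
    rw [h, Ideal.mem_bot] at hk
    exact eq_zero_of_pow_eq_zero hk)
  obtain ⟨F, hF⟩ := hIfg
  have hFne : F.Nonempty := Finset.nonempty_iff_ne_empty.2 fun h => hI0 (by rw [← hF, h]; simp)
  obtain ⟨a, haF, hadvd⟩ := exists_dvd_all F hFne (algebraMap R A)
  have haI : a ∈ I := hF ▸ Submodule.subset_span haF
  have hinjA : Function.Injective (algebraMap R A) := Function.Injective.of_comp (f := algebraMap A K) (by
    rw [← RingHom.coe_comp, ← IsScalarTower.algebraMap_eq]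
    exact IsFractionRing.injective R K)
  have hIA : I.map (algebraMap R A) = Ideal.span {algebraMap R A a} := by
    refine le_antisymm ?_ ((Ideal.span_singleton_le_iff_mem _).2 (Ideal.mem_map_of_mem _ haI))
    rw [← hF, Ideal.map_span, Ideal.span_le]
    rintro _ ⟨x, hx, rfl⟩
    exact Ideal.mem_span_singleton.2 (hadvd x hx)
  have ha0 : a ≠ 0 := fun h => hI0 (by
    refine (Submodule.eq_bot_iff _).2 fun x hx => hinjA ?_
    have hx' := Ideal.mem_map_of_mem (algebraMap R A) hx
    rw [hIA, h, map_zero, Ideal.span_singleton_eq_bot.2 rfl, Ideal.mem_bot] at hx'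
    rw [hx', map_zero])
  have haA : algebraMap R A a ∈ A⁰ := mem_nonZeroDivisors_of_ne_zero fun h => ha0 (hinjA (by rw [h, map_zero]))
  refine ⟨I, a, ⟨F, hF⟩, hIm, haI, ha0, fun x hx => ?_, fun R₁ _ _ e => ?_⟩
  · have hx' := Ideal.mem_map_of_mem (algebraMap R A) hx
    rw [hIA, Ideal.mem_span_singleton'] at hx'
    obtain ⟨y, hy⟩ := hx'
    refine ⟨y, ?_⟩
    rw [IsScalarTower.algebraMap_apply R A K, IsScalarTower.algebraMap_apply R A K, ← map_mul, hy]
  let t : R₁ := algebraMap R R₁ a
  have ht : t ∈ R₁⁰ := Groth.L13.Fitting.chart_nzd e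
  have hIt : I.map (algebraMap R R₁) = Ideal.span {t} :=
    le_antisymm (Ideal.map_le_iff_le_comap.2 fun _ hx => Groth.L13.Fitting.chart_mem e hx)
      ((Ideal.span_singleton_le_iff_mem _).2 (Ideal.mem_map_of_mem _ haI))
  refine ⟨?_, ?_⟩
  · obtain ⟨χ⟩ := exists_chartHom (T := A) (I := I) (a := a) haA hIA
    intro htop
    have h1 := congrArg (Ideal.map (χ.comp e.toAlgHom).toRingHom) htop
    rw [Ideal.map_map, Ideal.map_top, AlgHom.toRingHom_eq_coe, AlgHom.comp_algebraMap] at h1
    refine (IsLocalRing.maximalIdeal.isMaximal A).ne_top (top_le_iff.1 (h1 ▸ ?_))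
    exact ((IsLocalRing.local_hom_TFAE (algebraMap R A)).out 0 2).1 ‹IsLocalHom (algebraMap R A)›
  letI : Algebra S (R₁ ⊗[R] S) := Algebra.TensorProduct.rightAlgebra
  obtain ⟨h1, h2⟩ := hflS (I₂ * Ideal.span {g}) hIr R₁ t ht hIt (R₁ ⊗[R] S)
    (FlatCA.powTorsion (R₁ ⊗[R] S) (algebraMap R (R₁ ⊗[R] S) a) (R₁ ⊗[R] S)) fun x => by
      rw [Groth.L13.Fitting.mem_powTorsion_iff, IsScalarTower.algebraMap_apply R R₁ (R₁ ⊗[R] S)]
      simp only [smul_eq_mul]
      exact Iff.rfl
  refine ⟨h1, h2, ?_⟩
  have h3 := hflM (I₁ * Ideal.span {g}) (hrad hI₂r (hrad hI₁r rfl)) R₁ t ht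
    (by rw [mul_left_comm]; exact hIt)
  exact h3

end Groth.L20.BlowFlat
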